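import Cfsg.Prelude.Def_Sporadic_a

set_option autoImplicit false

namespace Cfsg.Agent.Lib.Helper7

open Cfsg

/-- the Golay code as a family of supports -/
abbrev GC : Set (Finset GolayPt) := supports (golayCode : Set (GolayPt → ZMod 2))

theorem support₂_add {α : Type*} [Fintype α] [DecidableEq α] (v w : α → ZMod 2) :
    support₂ (v + w) = symmDiff (support₂ v) (support₂ w) := by
  ext i
  simp only [support₂, Finset.mem_filter, Finset.mem_univ, true_and, Finset.mem_symmDiff, Pi.add_apply]
  generalize v i = a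
  generalize w i = b
  revert a b
  decide

theorem GC_symmDiff {A B : Finset GolayPt} (hA : A ∈ GC) (hB : B ∈ GC) : symmDiff A B ∈ GC := by
  obtain ⟨v, hv, rfl⟩ := hA
  obtain ⟨w, hw, rfl⟩ := hB
  exact ⟨v + w, golayCode.add_mem hv hw, support₂_add v w⟩

theorem GC_empty : (∅ : Finset GolayPt) ∈ GC :=
  ⟨0, golayCode.zero_mem, by simp [support₂]⟩

theorem GC_univ : (Finset.univ : Finset GolayPt) ∈ GC :=
  ⟨1, Submodule.subset_span (Or.inr rfl), by simp [support₂]⟩

theorem GC_compl {A : Finset GolayPt} (hA : A ∈ GC) : Aᶜ ∈ GC := by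
  have := GC_symmDiff hA GC_univ
  rwa [← Finset.top_eq_univ, symmDiff_top] at this

theorem mem_leechSet_iff (x : GolayPt → ℤ) : x ∈ leechSet ↔
    ∃ m : ℤ, (∀ i, x i ≡ m [ZMOD 2]) ∧ (∑ i, x i ≡ 4 * m [ZMOD 8]) ∧
      (Finset.univ.filter fun i => x i ≡ m + 2 [ZMOD 4]) ∈ GC := by
  constructor
  · rintro ⟨m, h1, h2, h3⟩
    exact ⟨m, h1, h2, h3 _⟩
  · rintro ⟨m, h1, h2, h3⟩
    refine ⟨m, h1, h2, fun k => ?_⟩
    have hk : (k - m) % 4 = 0 ∨ (k - m) % 4 = 1 ∨ (k - m) % 4 = 2 ∨ (k - m) % 4 = 3 := by omega
    rcases hk with hk | hk | hk | hk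
    · have : (Finset.univ.filter fun i => x i ≡ k [ZMOD 4]) =
          (Finset.univ.filter fun i => x i ≡ m + 2 [ZMOD 4])ᶜ := by
        ext i
        have := h1 i
        simp only [Finset.mem_filter, Finset.mem_univ, true_and, Finset.mem_compl]
        simp only [Int.ModEq] at this ⊢
        omega
      rw [this]; exact GC_compl h3
    · have : (Finset.univ.filter fun i => x i ≡ k [ZMOD 4]) = ∅ := by
        ext i
        have := h1 i
        simp only [Finset.mem_filter, Finset.mem_univ, true_and, Finset.notMem_empty]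
        simp only [Int.ModEq] at this ⊢
        rw [iff_false]
        intro h
        have h5 : x i % 2 = k % 2 := by omega
        have h6 : (k - m) % 2 = 1 := by omega
        omega
      rw [this]; exact GC_empty
    · have : (Finset.univ.filter fun i => x i ≡ k [ZMOD 4]) =
          (Finset.univ.filter fun i => x i ≡ m + 2 [ZMOD 4]) := by
        ext i
        have := h1 i
        simp only [Finset.mem_filter, Finset.mem_univ, true_and]
        simp only [Int.ModEq] at this ⊢
        omega
      rw [this]; exact h3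
    · have : (Finset.univ.filter fun i => x i ≡ k [ZMOD 4]) = ∅ := by
        ext i
        have := h1 i
        simp only [Finset.mem_filter, Finset.mem_univ, true_and, Finset.notMem_empty]
        simp only [Int.ModEq] at this ⊢
        rw [iff_false]
        intro h
        have h5 : x i % 2 = k % 2 := by omega
        have h6 : (k - m) % 2 = 1 := by omega
        omega
      rw [this]; exact GC_empty

theorem leechSet_zero : (0 : GolayPt → ℤ) ∈ leechSet := by
  rw [mem_leechSet_iff]
  refine ⟨0, fun i => by simp [Int.ModEq], by simp [Int.ModEq], ?_⟩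
  have : (Finset.univ.filter fun i : GolayPt => (0 : GolayPt → ℤ) i ≡ 0 + 2 [ZMOD 4]) = ∅ := by
    ext i
    simp [Int.ModEq]
  rw [this]; exact GC_empty

theorem leechSet_add {x y : GolayPt → ℤ} (hx : x ∈ leechSet) (hy : y ∈ leechSet) :
    x + y ∈ leechSet := by
  rw [mem_leechSet_iff] at hx hy ⊢
  obtain ⟨m, h1, h2, h3⟩ := hx
  obtain ⟨m', h1', h2', h3'⟩ := hy
  refine ⟨m + m', fun i => (h1 i).add (h1' i), ?_, ?_⟩
  · simp only [Pi.add_apply, Finset.sum_add_distrib]
    rw [mul_add]
    exact h2.add h2'
  · have : (Finset.univ.filter fun i => (x + y) i ≡ m + m' + 2 [ZMOD 4]) =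
        symmDiff (Finset.univ.filter fun i => x i ≡ m + 2 [ZMOD 4])
          (Finset.univ.filter fun i => y i ≡ m' + 2 [ZMOD 4]) := by
      ext i
      have e1 := h1 i
      have e2 := h1' i
      simp only [Finset.mem_filter, Finset.mem_univ, true_and, Finset.mem_symmDiff, Pi.add_apply]
      simp only [Int.ModEq] at e1 e2 ⊢
      omega
    rw [this]; exact GC_symmDiff h3 h3'

theorem leechSet_neg {x : GolayPt → ℤ} (hx : x ∈ leechSet) : -x ∈ leechSet := by
  rw [mem_leechSet_iff] at hx ⊢
  obtain ⟨m, h1, h2, h3⟩ := hx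
  refine ⟨-m, fun i => (h1 i).neg, ?_, ?_⟩
  · simp only [Pi.neg_apply, Finset.sum_neg_distrib]
    rw [mul_neg]
    exact h2.neg
  · have : (Finset.univ.filter fun i => (-x) i ≡ -m + 2 [ZMOD 4]) =
        (Finset.univ.filter fun i => x i ≡ m + 2 [ZMOD 4]) := by
      ext i
      have e1 := h1 i
      simp only [Finset.mem_filter, Finset.mem_univ, true_and, Pi.neg_apply]
      simp only [Int.ModEq] at e1 ⊢
      omega
    rw [this]; exact h3

/-- `leechSet` as an additive subgroup -/
def leechSub : AddSubgroup (GolayPt → ℤ) where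
  carrier := leechSet
  zero_mem' := leechSet_zero
  add_mem' := leechSet_add
  neg_mem' := leechSet_neg

theorem leechLattice_eq : leechLattice = leechSub := by
  apply le_antisymm
  · rw [leechLattice, AddSubgroup.closure_le]
    exact fun x hx => hx
  · exact fun x hx => AddSubgroup.subset_closure hx

theorem mem_leechLattice_iff (x : GolayPt → ℤ) : x ∈ leechLattice ↔ x ∈ leechSet := by
  rw [leechLattice_eq]; rfl

end Cfsg.Agent.Lib.Helper7
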