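import Cfsg.Agent.Lib.Helper7.LeechBasic
import Cfsg.Agent.Lib.Helper27.Code

set_option autoImplicit false

namespace Cfsg.Agent.Lib.Helper7

open Cfsg Cfsg.Agent.Lib.Helper27

theorem GC_card {c : Finset GolayPt} (hc : c ∈ GC) :
    c.card = 0 ∨ c.card = 8 ∨ c.card = 12 ∨ c.card = 16 ∨ c.card = 24 := by
  rw [card_eq_pc]
  exact pc_of_isCode ((mem_supports_iff c).1 hc)

theorem GC_min_weight : ∀ c ∈ GC, c ≠ ∅ → 8 ≤ c.card := by
  intro c hc h0
  have h1 : c.card ≠ 0 := fun h => h0 (Finset.card_eq_zero.1 h)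
  rcases GC_card hc with h | h | h | h | h <;> omega

end Cfsg.Agent.Lib.Helper7
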