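import Mathlib

set_option autoImplicit false

namespace Cfsg.Agent.Lib.Helper7

open Finset

/-- digit extraction from a generating number -/
theorem digit_extract {α : Type*} (B : ℕ) (s : Finset α) (e : α → ℕ) (hB : s.card < B) (N : ℕ) :
    (∑ x ∈ s, B ^ e x) / B ^ N % B = (s.filter (fun x => e x = N)).card := by
  have hBpos : 0 < B := lt_of_le_of_lt (Nat.zero_le _) hB
  have hsplit : ∑ x ∈ s, B ^ e x = (∑ x ∈ s.filter (fun x => e x < N), B ^ e x) +
      B ^ N * ((s.filter (fun x => e x = N)).card +
        B * ∑ x ∈ s.filter (fun x => N < e x), B ^ (e x - N - 1)) := by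
    rw [← Finset.sum_filter_add_sum_filter_not s (fun x => e x < N)]
    congr 1
    rw [← Finset.sum_filter_add_sum_filter_not (s.filter (fun x => ¬ e x < N)) (fun x => e x = N)]
    rw [mul_add]
    congr 1
    · rw [Finset.filter_filter]
      have : (s.filter (fun x => ¬ e x < N ∧ e x = N)) = s.filter (fun x => e x = N) := by
        apply Finset.filter_congr
        intro x _
        omega
      rw [this, Finset.sum_congr rfl (g := fun _ => B ^ N)
        (fun x hx => by rw [(Finset.mem_filter.1 hx).2]), Finset.sum_const, smul_eq_mul, mul_comm]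
    · rw [Finset.filter_filter]
      have : (s.filter (fun x => ¬ e x < N ∧ ¬ e x = N)) = s.filter (fun x => N < e x) := by
        apply Finset.filter_congr
        intro x _
        omega
      rw [this, ← mul_assoc, Finset.mul_sum]
      apply Finset.sum_congr rfl
      intro x hx
      have hx' := (Finset.mem_filter.1 hx).2
      rw [← pow_succ, ← pow_add]
      congr 1
      omega
  have hr : (∑ x ∈ s.filter (fun x => e x < N), B ^ e x) < B ^ N := by
    rcases Nat.eq_zero_or_pos N with rfl | hN
    · simp
    · calc (∑ x ∈ s.filter (fun x => e x < N), B ^ e x)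
          ≤ (s.filter (fun x => e x < N)).card • B ^ (N - 1) := by
            apply Finset.sum_le_card_nsmul
            intro x hx
            have hx' := (Finset.mem_filter.1 hx).2
            exact Nat.pow_le_pow_right hBpos (by omega)
        _ ≤ s.card * B ^ (N - 1) := by
            rw [smul_eq_mul]
            exact Nat.mul_le_mul_right _ (Finset.card_filter_le _ _)
        _ < B * B ^ (N - 1) := Nat.mul_lt_mul_of_pos_right hB (pow_pos hBpos _)
        _ = B ^ N := by rw [← pow_succ']; congr 1; omega
  rw [hsplit, Nat.add_mul_div_left _ _ (pow_pos hBpos N), Nat.div_eq_of_lt hr, zero_add,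
    Nat.add_mul_mod_self_left, Nat.mod_eq_of_lt]
  exact lt_of_le_of_lt (Finset.card_filter_le _ _) hB

end Cfsg.Agent.Lib.Helper7
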