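import Cfsg.Agent.Lib.Helper7.LeechCountC
import Cfsg.Agent.Lib.Helper7.Digit

set_option autoImplicit false
set_option maxRecDepth 100000

namespace Cfsg.Agent.Lib.Helper7

open Cfsg Finset

def theta2 (B : ℤ) : ℤ := FFx B 0 + 759 * FFx B 8 + 2576 * FFx B 12 + 759 * FFx B 16 + FFx B 24

theorem card_box : box.card = 17 ^ 24 := by
  rw [box, Fintype.card_piFinset, Finset.prod_const, Finset.card_univ, card_golayPt, Int.card_Icc]
  rfl

theorem card_LL_lt : LL.card < 2 ^ 100 := by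
  classical
  calc LL.card ≤ box.card := Finset.card_filter_le _ _
    _ = 17 ^ 24 := card_box
    _ < 2 ^ 100 := by norm_num

theorem leech_norm_set_eq (N : ℕ) (hN : N ≤ 64) :
    {x : GolayPt → ℤ | x ∈ leechLattice ∧ sqNorm x = N} = ↑(LL.filter (fun x => ee x = N)) := by
  classical
  ext x
  simp only [Set.mem_ofPred_eq, Finset.coe_filter, mem_leechLattice_iff]
  rw [LL, Finset.mem_filter, box, Fintype.mem_piFinset, ← ee_cast]
  constructor
  · rintro ⟨h1, h2⟩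
    have h2' : ee x = N := by exact_mod_cast h2
    refine ⟨⟨fun i => ?_, h1⟩, h2'⟩
    have h3 : (x i) ^ 2 ≤ 64 := by
      calc (x i) ^ 2 ≤ ∑ i, x i ^ 2 :=
            Finset.single_le_sum (f := fun i => x i ^ 2) (fun i _ => sq_nonneg _) (Finset.mem_univ i)
        _ = sqNorm x := rfl
        _ = (ee x : ℤ) := (ee_cast x).symm
        _ ≤ 64 := by rw [h2']; exact_mod_cast hN
    rw [Finset.mem_Icc]
    constructor <;> nlinarith
  · rintro ⟨⟨_, h1⟩, h2⟩
    exact ⟨h1, by exact_mod_cast h2⟩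

theorem leech_count
    (hw : ∀ c ∈ GC, c.card = 0 ∨ c.card = 8 ∨ c.card = 12 ∨ c.card = 16 ∨ c.card = 24)
    (h8 : octads.ncard = 759) (h12 : dodecads.ncard = 2576) (N : ℕ) (hN : N ≤ 64) :
    {x : GolayPt → ℤ | x ∈ leechLattice ∧ sqNorm x = N}.ncard =
      (theta2 (2 ^ 100)).toNat / 2 / (2 ^ 100) ^ N % 2 ^ 100 := by
  rw [leech_norm_set_eq N hN, Set.ncard_coe_finset, ← digit_extract (2 ^ 100) LL ee card_LL_lt N]
  congr 2
  have h1 := two_mul_sum_LL (2 ^ 100)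
  rw [sum_GCfin hw h8 h12] at h1
  simp only [FF_eq] at h1
  change _ = theta2 (2 ^ 100) at h1
  rw [← h1]
  have : (2 * ∑ x ∈ LL, (2 ^ 100 : ℤ) ^ ee x) = ((2 * ∑ x ∈ LL, (2 ^ 100) ^ ee x : ℕ) : ℤ) := by
    push_cast; rfl
  rw [this, Int.toNat_natCast, Nat.mul_div_cancel_left _ (by norm_num)]

set_option maxHeartbeats 4000000 in
theorem theta_32 : (theta2 (2 ^ 100)).toNat / 2 / (2 ^ 100) ^ 32 % 2 ^ 100 = 196560 := by
  decide +kernel

theorem theta_48 : (theta2 (2 ^ 100)).toNat / 2 / (2 ^ 100) ^ 48 % 2 ^ 100 = 16773120 := by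
  decide +kernel

theorem theta_64 : (theta2 (2 ^ 100)).toNat / 2 / (2 ^ 100) ^ 64 % 2 ^ 100 = 398034000 := by
  decide +kernel

end Cfsg.Agent.Lib.Helper7
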