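import Cfsg.Agent.Lib.Helper7.LeechIndexB

set_option autoImplicit false
set_option maxRecDepth 100000

namespace Cfsg.Agent.Lib.Helper7

open Cfsg Finset

noncomputable def piMod : (GolayPt → ℤ) →+ (GolayPt → ZMod 8) :=
  (Int.castAddHom (ZMod 8)).compLeft GolayPt

theorem piMod_apply (x : GolayPt → ℤ) (i : GolayPt) : piMod x i = ((x i : ℤ) : ZMod 8) := rfl

theorem mem_ker_piMod {x : GolayPt → ℤ} : x ∈ piMod.ker ↔ ∀ i, (8 : ℤ) ∣ x i := by
  rw [AddMonoidHom.mem_ker, funext_iff]
  apply forall_congr'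
  intro i
  rw [piMod_apply, Pi.zero_apply]
  exact ZMod.intCast_zmod_eq_zero_iff_dvd (x i) 8

theorem piMod_surjective : Function.Surjective piMod := by
  intro y
  refine ⟨fun i => ((y i).val : ℤ), ?_⟩
  funext i
  rw [piMod_apply]
  simp

theorem ker_piMod_le : piMod.ker ≤ leechLattice := by
  intro x hx
  rw [mem_ker_piMod] at hx
  rw [mem_leechLattice_iff, mem_leechSet_iff]
  refine ⟨0, fun i => ?_, ?_, ?_⟩
  · have := hx i
    simp only [Int.ModEq]; omega
  · have : (8 : ℤ) ∣ ∑ i, x i := Finset.dvd_sum (fun i _ => hx i)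
    simp only [Int.ModEq]; omega
  · have : (Finset.univ.filter fun i => x i ≡ 0 + 2 [ZMOD 4]) = ∅ := by
      ext i
      have := hx i
      simp only [Finset.mem_filter, Finset.mem_univ, true_and, Finset.notMem_empty]
      simp only [Int.ModEq]
      rw [iff_false]
      omega
    rw [this]; exact GC_empty

theorem index_ker_piMod : piMod.ker.index = 8 ^ 24 := by
  rw [AddSubgroup.index_ker, AddMonoidHom.range_eq_top.2 piMod_surjective]
  rw [Nat.card_congr (AddSubgroup.topEquiv).toEquiv, Nat.card_eq_fintype_card, Fintype.card_pi,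
    Finset.prod_const, Finset.card_univ, card_golayPt, ZMod.card]

theorem map_piMod_eq : ((leechLattice.map piMod : AddSubgroup _) : Set (GolayPt → ZMod 8)) =
    piMod '' (LL8 : Set (GolayPt → ℤ)) := by
  classical
  ext y
  constructor
  · rintro ⟨x, hx, rfl⟩
    refine ⟨fun i => x i % 8, ?_, ?_⟩
    · rw [Finset.mem_coe, LL8, Finset.mem_filter, box8, Fintype.mem_piFinset]
      refine ⟨fun i => ?_, ?_⟩
      · rw [Finset.mem_Ico]; omega
      · rw [← mem_leechLattice_iff]
        have h1 : (fun i => x i % 8) = x - (fun i => 8 * (x i / 8)) := by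
          funext i
          simp only [Pi.sub_apply]
          omega
        rw [h1]
        apply leechLattice.sub_mem hx
        apply ker_piMod_le
        rw [mem_ker_piMod]
        intro i
        exact Dvd.intro _ rfl
    · funext i
      rw [piMod_apply, piMod_apply]
      rw [ZMod.intCast_eq_intCast_iff]
      simp only [Int.ModEq]
      omega
  · rintro ⟨x, hx, rfl⟩
    rw [Finset.mem_coe, LL8, Finset.mem_filter] at hx
    exact ⟨x, (mem_leechLattice_iff x).2 hx.2, rfl⟩

theorem piMod_injOn : Set.InjOn piMod (LL8 : Set (GolayPt → ℤ)) := by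
  classical
  intro x hx y hy h
  rw [Finset.mem_coe, LL8, Finset.mem_filter, box8, Fintype.mem_piFinset] at hx hy
  funext i
  have h1 := congrFun h i
  rw [piMod_apply, piMod_apply, ZMod.intCast_eq_intCast_iff] at h1
  have h2 := Finset.mem_Ico.1 (hx.1 i)
  have h3 := Finset.mem_Ico.1 (hy.1 i)
  simp only [Int.ModEq] at h1
  push_cast at h1
  omega

theorem leech_index
    (hw : ∀ c ∈ GC, c.card = 0 ∨ c.card = 8 ∨ c.card = 12 ∨ c.card = 16 ∨ c.card = 24)
    (h8 : octads.ncard = 759) (h12 : dodecads.ncard = 2576) : leechLattice.index = 2 ^ 36 := by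
  have h1 := AddSubgroup.relIndex_mul_index ker_piMod_le
  rw [AddSubgroup.relIndex_ker, index_ker_piMod] at h1
  have h2 : Nat.card (leechLattice.map piMod) = 2 ^ 36 := by
    rw [← card_LL8 hw h8 h12]
    change Nat.card ((leechLattice.map piMod : AddSubgroup _) : Set (GolayPt → ZMod 8)) = _
    rw [Nat.card_coe_set_eq, map_piMod_eq, Set.InjOn.ncard_image piMod_injOn, Set.ncard_coe_finset]
  rw [h2] at h1
  have : (2 : ℕ) ^ 36 * leechLattice.index = 2 ^ 36 * 2 ^ 36 := by rw [h1]; norm_num
  exact Nat.eq_of_mul_eq_mul_left (by norm_num) this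

end Cfsg.Agent.Lib.Helper7
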