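import Cfsg.Agent.Lib.Helper7.LeechBasic
import Cfsg.Agent.Lib.Helper8.Golay

set_option autoImplicit false

namespace Cfsg.Agent.Lib.Helper7

open Cfsg

theorem card_golayPt : Fintype.card GolayPt = 24 := by
  simp [GolayPt, Fintype.card_option, ZMod.card]

theorem sq_modEq_aux (a m : ℤ) (h : a ≡ m [ZMOD 2]) :
    a ^ 2 ≡ 2 * m * a - m ^ 2 + 4 * (if a ≡ m + 2 [ZMOD 4] then 1 else 0) [ZMOD 16] := by
  have h2 : (2 : ℤ) ∣ a - m := (Int.modEq_iff_dvd.1 h.symm)
  obtain ⟨d, hd⟩ := h2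
  have ha : a = m + 2 * d := by linarith
  subst ha
  rcases Int.even_or_odd' d with ⟨k, rfl | rfl⟩
  · have : ¬ (m + 2 * (2 * k) ≡ m + 2 [ZMOD 4]) := by
      simp only [Int.ModEq]; omega
    rw [if_neg this]
    apply Int.modEq_iff_dvd.2
    exact ⟨-k^2, by ring⟩
  · have : (m + 2 * (2 * k + 1) ≡ m + 2 [ZMOD 4]) := by
      simp only [Int.ModEq]; omega
    rw [if_pos this]
    apply Int.modEq_iff_dvd.2
    exact ⟨-k^2 - k, by ring⟩

theorem leech_even {x : GolayPt → ℤ} (hx : x ∈ leechSet) : (16 : ℤ) ∣ sqNorm x := by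
  rw [mem_leechSet_iff] at hx
  obtain ⟨m, h1, h2, h3⟩ := hx
  have h4 : (4 : ℕ) ∣ (Finset.univ.filter fun i => x i ≡ m + 2 [ZMOD 4]).card :=
    Cfsg.Agent.Lib.Helper8.golay_four_dvd h3
  have hsum : sqNorm x ≡ ∑ i, (2 * m * x i - m ^ 2 + 4 * (if x i ≡ m + 2 [ZMOD 4] then 1 else 0)) [ZMOD 16] :=
    Int.ModEq.sum (fun i _ => sq_modEq_aux (x i) m (h1 i))
  rw [Finset.sum_add_distrib, Finset.sum_sub_distrib, ← Finset.mul_sum, ← Finset.mul_sum,
    Finset.sum_const, Finset.card_univ, card_golayPt, Finset.sum_boole] at hsum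
  obtain ⟨s, hs⟩ := Int.modEq_iff_dvd.1 h2.symm
  obtain ⟨t, ht⟩ := h4
  have hs' : ∑ i, x i = 4 * m + 8 * s := by linarith
  rw [hs', ht] at hsum
  have := Int.modEq_iff_dvd.1 hsum.symm
  obtain ⟨u, hu⟩ := this
  refine ⟨u + m * s - m ^ 2 + t, ?_⟩
  push_cast at hu
  simp only [nsmul_eq_mul] at hu
  push_cast at hu
  linarith

theorem sqNorm_ge_of_subset (x : GolayPt → ℤ) (S : Finset GolayPt) (c : ℤ)
    (h : ∀ i ∈ S, c ≤ x i ^ 2) : S.card * c ≤ sqNorm x := by
  calc (S.card : ℤ) * c = ∑ _i ∈ S, c := by rw [Finset.sum_const, nsmul_eq_mul]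
    _ ≤ ∑ i ∈ S, x i ^ 2 := Finset.sum_le_sum h
    _ ≤ ∑ i, x i ^ 2 := Finset.sum_le_sum_of_subset_of_nonneg (Finset.subset_univ _)
        (fun i _ _ => sq_nonneg _)

theorem leech_min_norm (hmin : ∀ c ∈ GC, c ≠ ∅ → 8 ≤ c.card) {x : GolayPt → ℤ} (hx : x ∈ leechSet)
    (h0 : x ≠ 0) : 32 ≤ sqNorm x := by
  have h16 := leech_even hx
  obtain ⟨m, h1, h2, h3⟩ := hx
  rcases Int.even_or_odd' m with ⟨k, rfl | rfl⟩
  · -- even
    by_cases hC : (Finset.univ.filter fun i => x i ≡ 2 [ZMOD 4]) = ∅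
    · -- all divisible by 4
      have h4 : ∀ i, (4 : ℤ) ∣ x i := by
        intro i
        have e1 := h1 i
        have e2 : i ∉ (Finset.univ.filter fun i => x i ≡ 2 [ZMOD 4]) := by rw [hC]; simp
        rw [Finset.mem_filter] at e2
        simp only [Finset.mem_univ, true_and] at e2
        simp only [Int.ModEq] at e1 e2
        omega
      choose z hz using h4
      have hN : sqNorm x = 16 * ∑ i, z i ^ 2 := by
        rw [sqNorm, Finset.mul_sum]
        apply Finset.sum_congr rfl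
        intro i _
        rw [hz i]; ring
      have hS : ∑ i, x i = 4 * ∑ i, z i := by
        rw [Finset.mul_sum]
        exact Finset.sum_congr rfl (fun i _ => hz i)
      have hpar : ∑ i, z i ^ 2 ≡ ∑ i, z i [ZMOD 2] := by
        apply Int.ModEq.sum
        intro i _
        rcases Int.even_or_odd' (z i) with ⟨t, ht | ht⟩
        · rw [ht]; apply Int.modEq_iff_dvd.2; exact ⟨t - 2 * t^2, by ring⟩
        · rw [ht]; apply Int.modEq_iff_dvd.2; exact ⟨- t - 2 * t^2, by ring⟩
      have hpos : 0 < ∑ i, z i ^ 2 := by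
        have : ∃ i, x i ≠ 0 := by
          by_contra hcon
          push Not at hcon
          exact h0 (funext hcon)
        obtain ⟨i, hi⟩ := this
        have hzi : z i ≠ 0 := by
          intro h; apply hi; rw [hz i, h, mul_zero]
        calc 0 < z i ^ 2 := by positivity
          _ ≤ ∑ i, z i ^ 2 := Finset.single_le_sum (f := fun i => z i ^ 2) (fun i _ => sq_nonneg _) (Finset.mem_univ i)
      rw [hS] at h2
      simp only [Int.ModEq] at h2 hpar
      rw [hN]
      omega
    · have h8 := hmin _ (h3 2) hC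
      have := sqNorm_ge_of_subset x (Finset.univ.filter fun i => x i ≡ 2 [ZMOD 4]) 4 (fun i hi => by
        rw [Finset.mem_filter] at hi
        have e := hi.2
        simp only [Int.ModEq] at e
        have : x i ≤ -2 ∨ 2 ≤ x i := by omega
        rcases this with h | h <;> nlinarith)
      have h8' : (8 : ℤ) ≤ ((Finset.univ.filter fun i => x i ≡ 2 [ZMOD 4]).card : ℤ) := by exact_mod_cast h8
      linarith
  · -- odd
    have := sqNorm_ge_of_subset x Finset.univ 1 (fun i _ => by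
        have e := h1 i
        simp only [Int.ModEq] at e
        have : x i ≤ -1 ∨ 1 ≤ x i := by omega
        rcases this with h | h <;> nlinarith)
    rw [Finset.card_univ, card_golayPt] at this
    obtain ⟨u, hu⟩ := h16
    rw [hu] at this ⊢
    push_cast at this
    omega

end Cfsg.Agent.Lib.Helper7
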