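import Mathlib
import Cfsg.Prelude.Def_KGroupFacts
import Cfsg.Agent.Lib.Helper66.SchurMain
import Cfsg.Agent.Lib.Helper66.FibreProd
import Cfsg.Agent.Lib.Helper35.Transfer

/-!
# Tools for bounding Schur multipliers

* reduction to stem extensions whose kernel has prime exponent;
* the transfer argument: a subgroup of index prime to `p`;
* cyclic Sylow subgroups.
-/

set_option autoImplicit false
set_option linter.style.haveILetI false

namespace Cfsg.Agent.Lib.Helper7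

open Subgroup
open scoped commutatorElement

universe u v

/-- the subgroup of `p`-th powers of a central subgroup -/
def powSub {Γ : Type u} [Group Γ] (Z : Subgroup Γ) (hZ : Z ≤ center Γ) (p : ℕ) : Subgroup Γ where
  carrier := {y | ∃ x ∈ Z, x ^ p = y}
  one_mem' := ⟨1, Z.one_mem, one_pow p⟩
  mul_mem' := by
    rintro _ _ ⟨x, hx, rfl⟩ ⟨y, hy, rfl⟩
    refine ⟨x * y, Z.mul_mem hx hy, ?_⟩
    have : Commute x y := (mem_center_iff.1 (hZ hx) y).symm
    exact this.mul_pow p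
  inv_mem' := by
    rintro _ ⟨x, hx, rfl⟩
    exact ⟨x⁻¹, Z.inv_mem hx, inv_pow x p⟩

theorem powSub_le {Γ : Type u} [Group Γ] (Z : Subgroup Γ) (hZ : Z ≤ center Γ) (p : ℕ) :
    powSub Z hZ p ≤ Z := by
  rintro _ ⟨x, hx, rfl⟩
  exact Z.pow_mem hx p

/-- **Reduction.** To prove that the multiplier is trivial it suffices to treat stem extensions whose
kernel has prime exponent. -/
theorem trivial_multiplier_of_exponent {G : Type u} [Group G] [Finite G]
    (h : ∀ (p : ℕ), p.Prime → ∀ (Γ : Type u) [Group Γ] [Finite Γ] (σ : Γ →* G),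
      Cfsg.IsStemExtension σ → (∀ x ∈ σ.ker, x ^ p = 1) → σ.ker = ⊥) :
    Cfsg.HasCyclicSchurMultiplier G 1 := by
  rw [Cfsg.Agent.Lib.Helper66.hasCyclicSchurMultiplier_one_iff]
  intro Γ _ _ σ hσ
  by_contra hne
  have hcard : Nat.card σ.ker ≠ 1 := fun hc => hne (Subgroup.card_eq_one.1 hc)
  obtain ⟨p, hp, hpd⟩ := Nat.exists_prime_and_dvd hcard
  haveI : Fact p.Prime := ⟨hp⟩
  set Z := σ.ker with hZdef
  have hZ : Z ≤ center Γ := hσ.2.1
  set Z1 := powSub Z hZ p with hZ1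
  have hZ1Z : Z1 ≤ Z := powSub_le Z hZ p
  haveI : Z1.Normal := Cfsg.Agent.Lib.Helper66.normal_of_le_center (hZ1Z.trans hZ)
  let σ' : Γ ⧸ Z1 →* G := QuotientGroup.lift Z1 σ (fun x hx => hZ1Z hx)
  have hσ'mk : ∀ x : Γ, σ' (QuotientGroup.mk x) = σ x := fun x => rfl
  have hker : ∀ y : Γ ⧸ Z1, y ∈ σ'.ker → ∃ x ∈ Z, QuotientGroup.mk x = y := by
    intro y hy
    obtain ⟨x, rfl⟩ := QuotientGroup.mk_surjective y
    exact ⟨x, hy, rfl⟩
  have hstem : Cfsg.IsStemExtension σ' := by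
    refine ⟨fun g => ?_, ?_, ?_⟩
    · obtain ⟨x, rfl⟩ := hσ.1 g
      exact ⟨QuotientGroup.mk x, rfl⟩
    · intro y hy
      obtain ⟨x, hx, rfl⟩ := hker y hy
      rw [mem_center_iff]
      intro g
      obtain ⟨g, rfl⟩ := QuotientGroup.mk_surjective g
      rw [← QuotientGroup.mk_mul, ← QuotientGroup.mk_mul, mem_center_iff.1 (hZ hx) g]
    · intro y hy
      obtain ⟨x, hx, rfl⟩ := hker y hy
      rw [← Cfsg.Agent.Lib.Helper66.map_commutator_eq_of_surjective (QuotientGroup.mk' Z1)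
        (QuotientGroup.mk'_surjective Z1)]
      exact ⟨x, hσ.2.2 hx, rfl⟩
  have hexp : ∀ y ∈ σ'.ker, y ^ p = 1 := by
    intro y hy
    obtain ⟨x, hx, rfl⟩ := hker y hy
    rw [← QuotientGroup.mk_pow, QuotientGroup.eq_one_iff]
    exact ⟨x, hx, rfl⟩
  have hbot := h p hp (Γ ⧸ Z1) σ' hstem hexp
  -- every element of `Z` is a `p`-th power
  have hsurj : ∀ x ∈ Z, ∃ y ∈ Z, y ^ p = x := by
    intro x hx
    have : (QuotientGroup.mk x : Γ ⧸ Z1) ∈ σ'.ker := hx
    rw [hbot, mem_bot, QuotientGroup.eq_one_iff] at this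
    exact this
  let f : Z → Z := fun x => x ^ p
  have hfs : Function.Surjective f := by
    rintro ⟨x, hx⟩
    obtain ⟨y, hy, hyx⟩ := hsurj x hx
    exact ⟨⟨y, hy⟩, Subtype.ext hyx⟩
  have hfi : Function.Injective f := Finite.injective_iff_surjective.2 hfs
  obtain ⟨x, hx⟩ := exists_prime_orderOf_dvd_card' (G := Z) p hpd
  have h1 : f x = f 1 := by
    show x ^ p = 1 ^ p
    rw [one_pow, ← hx, pow_orderOf_eq_one]
  have h2 := hfi h1
  rw [h2, orderOf_one] at hx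
  exact hp.one_lt.ne hx

/-- **Transfer.** -/
theorem pow_index_mem_of_commutator_le {Γ : Type u} {G : Type v} [Group Γ] [Group G] [Finite Γ]
    {σ : Γ →* G} (hσ : Cfsg.IsStemExtension σ) (H N : Subgroup Γ)
    (hN : ∀ x ∈ H, ∀ y ∈ H, ⁅x, y⁆ ∈ N) {z : Γ} (hz : z ∈ σ.ker) : z ^ H.index ∈ N := by
  have h1 := Cfsg.Agent.Lib.Helper35.pow_index_mem_map_commutator H (hσ.2.1 hz) (hσ.2.2 hz)
  rw [map_subtype_commutator] at h1
  exact (Subgroup.commutator_le.2 hN) h1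

theorem ker_eq_bot_of_index_coprime {Γ : Type u} {G : Type v} [Group Γ] [Group G] [Finite Γ]
    {σ : Γ →* G} (hσ : Cfsg.IsStemExtension σ) {p : ℕ} (hexp : ∀ x ∈ σ.ker, x ^ p = 1)
    (H N : Subgroup Γ) (hN : ∀ x ∈ H, ∀ y ∈ H, ⁅x, y⁆ ∈ N) (hNk : ∀ x ∈ N, σ x = 1 → x = 1)
    (hi : Nat.Coprime p H.index) : σ.ker = ⊥ := by
  rw [eq_bot_iff]
  intro z hz
  rw [mem_bot]
  have h1 := pow_index_mem_of_commutator_le hσ H N hN hz
  have h2 : z ^ H.index = 1 := hNk _ h1 (by rw [map_pow, MonoidHom.mem_ker.1 hz, one_pow])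
  have h3 : z ^ Nat.gcd p H.index = 1 := by
    rw [pow_gcd_eq_one]; exact ⟨hexp z hz, h2⟩
  rwa [hi, pow_one] at h3

end Cfsg.Agent.Lib.Helper7
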