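import Mathlib
import Cfsg.Prelude.Def_KGroupFacts

/-!
# Automorphisms of a permutation group whose point stabilisers are recognisable

`G ≤ Perm Ω`, `S` a set of points containing all points moved by `G`.  If every automorphism maps
the stabiliser of a point of `S` to the stabiliser of a point of `S`, and distinct points of `S`
have distinct stabilisers, then every automorphism of `G` is conjugation by a permutation of `Ω`
(fixing the points outside `S`).
-/

set_option autoImplicit false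

namespace Cfsg.Agent.Lib.Helper7

open MulAction Subgroup

variable {Ω : Type*} [Finite Ω] (G : Subgroup (Equiv.Perm Ω)) (S : Set Ω)

/-- the hypotheses -/
structure AutHyp : Prop where
  H1 : ∀ (φ : MulAut G) (x : Ω), x ∈ S →
    ∃ y ∈ S, (stabilizer G x).map φ.toMonoidHom = stabilizer G y
  H2 : ∀ x ∈ S, ∀ y ∈ S, stabilizer G x = stabilizer G y → x = y
  H3 : ∀ x, x ∉ S → ∀ g ∈ G, g x = x

variable {G S}

theorem AutHyp.apply_mem (h : AutHyp G S) {g : Equiv.Perm Ω} (hg : g ∈ G) {x : Ω} (hx : x ∈ S) :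
    g x ∈ S := by
  by_contra hc
  have h1 := h.H3 _ hc g hg
  exact hc (by rw [g.injective h1]; exact hx)

theorem map_stabilizer_smul (φ : MulAut G) (g : G) (x y : Ω)
    (hxy : (stabilizer G x).map φ.toMonoidHom = stabilizer G y) :
    (stabilizer G (g • x)).map φ.toMonoidHom = stabilizer G (φ g • y) := by
  rw [stabilizer_smul_eq_stabilizer_map_conj, stabilizer_smul_eq_stabilizer_map_conj, ← hxy,
    Subgroup.map_map, Subgroup.map_map]
  congr 1
  ext k
  simp [MulAut.conj_apply]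

theorem AutHyp.exists_perm (h : AutHyp G S) (φ : MulAut G) :
    ∃ σ : Equiv.Perm Ω, (∀ x, x ∉ S → σ x = x) ∧
      ∀ g : G, ((φ g : G) : Equiv.Perm Ω) = σ * (g : Equiv.Perm Ω) * σ⁻¹ := by
  classical
  have H1 := h.H1 φ
  choose! f hfS hf using H1
  let F : Ω → Ω := fun x => if x ∈ S then f x else x
  have hFS : ∀ x, x ∈ S → F x = f x := fun x hx => if_pos hx
  have hFn : ∀ x, x ∉ S → F x = x := fun x hx => if_neg hx
  have hFmem : ∀ x, F x ∈ S ↔ x ∈ S := by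
    intro x
    by_cases hx : x ∈ S
    · rw [hFS x hx]; exact ⟨fun _ => hx, fun _ => hfS x hx⟩
    · rw [hFn x hx]
  have hinj : Function.Injective F := by
    intro x x' hxx
    by_cases hx : x ∈ S
    · have hx' : x' ∈ S := by rw [← hFmem, ← hxx, hFmem]; exact hx
      rw [hFS x hx, hFS x' hx'] at hxx
      apply h.H2 x hx x' hx'
      apply Subgroup.map_injective (f := φ.toMonoidHom) φ.injective
      rw [hf x hx, hf x' hx', hxx]
    · have hx' : x' ∉ S := by rw [← hFmem, ← hxx, hFmem]; exact hx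
      rwa [hFn x hx, hFn x' hx'] at hxx
  let σ : Equiv.Perm Ω := Equiv.ofBijective F (Finite.injective_iff_bijective.1 hinj)
  have hσ : ∀ x, σ x = F x := fun x => rfl
  have key : ∀ (g : G) (x : Ω), σ ((g : Equiv.Perm Ω) x) = ((φ g : G) : Equiv.Perm Ω) (σ x) := by
    intro g x
    by_cases hx : x ∈ S
    · have hgx : (g : Equiv.Perm Ω) x ∈ S := h.apply_mem g.2 hx
      rw [hσ, hσ, hFS _ hgx, hFS _ hx]
      apply h.H2 _ (hfS _ hgx) _ (h.apply_mem (φ g).2 (hfS _ hx))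
      rw [← hf _ hgx]
      exact map_stabilizer_smul φ g x (f x) (hf x hx)
    · rw [h.H3 x hx g g.2, hσ, hFn x hx, h.H3 x hx _ (φ g).2]
  refine ⟨σ, fun x hx => hFn x hx, fun g => ?_⟩
  ext1 y
  rw [Equiv.Perm.mul_apply, Equiv.Perm.mul_apply, key]
  simp

theorem AutHyp.eq_one_of_commute (h : AutHyp G S) (c : Equiv.Perm Ω) (hcS : ∀ x, x ∉ S → c x = x)
    (hc : ∀ g ∈ G, c * g = g * c) : c = 1 := by
  ext1 x
  by_cases hx : x ∈ S
  · have hcx : c x ∈ S := by
      by_contra hn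
      have := hcS _ hn
      exact hn (by rw [c.injective this]; exact hx)
    apply h.H2 _ hcx _ hx
    ext g
    rw [mem_stabilizer_iff, mem_stabilizer_iff]
    have h1 : (g : Equiv.Perm Ω) (c x) = c ((g : Equiv.Perm Ω) x) := by
      have := congrArg (fun p : Equiv.Perm Ω => p x) (hc g g.2)
      simpa using this.symm
    show (g : Equiv.Perm Ω) (c x) = c x ↔ (g : Equiv.Perm Ω) x = x
    rw [h1]
    exact c.injective.eq_iff
  · exact hcS x hx

theorem AutHyp.inner_iff (h : AutHyp G S) (φ : MulAut G) (σ : Equiv.Perm Ω)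
    (hσS : ∀ x, x ∉ S → σ x = x)
    (hσ : ∀ g : G, ((φ g : G) : Equiv.Perm Ω) = σ * (g : Equiv.Perm Ω) * σ⁻¹) :
    φ ∈ Cfsg.Inn G ↔ σ ∈ G := by
  constructor
  · rintro ⟨k, rfl⟩
    have : (k : Equiv.Perm Ω)⁻¹ * σ = 1 := by
      apply h.eq_one_of_commute
      · intro x hx
        rw [Equiv.Perm.mul_apply, hσS x hx, Equiv.Perm.inv_eq_iff_eq, h.H3 x hx k k.2]
      · intro g hg
        have h1 := hσ ⟨g, hg⟩
        simp only [MulAut.conj_apply, Subgroup.coe_mul, Subgroup.coe_inv] at h1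
        have h2 : (k : Equiv.Perm Ω) * g = σ * g * σ⁻¹ * k := by rw [← h1]; group
        calc (k : Equiv.Perm Ω)⁻¹ * σ * g = (k : Equiv.Perm Ω)⁻¹ * (σ * g * σ⁻¹ * k) * ((k : Equiv.Perm Ω)⁻¹ * σ) := by group
          _ = (k : Equiv.Perm Ω)⁻¹ * ((k : Equiv.Perm Ω) * g) * ((k : Equiv.Perm Ω)⁻¹ * σ) := by rw [h2]
          _ = g * ((k : Equiv.Perm Ω)⁻¹ * σ) := by group
    have h3 : σ = k := by
      have := congrArg (fun p => (k : Equiv.Perm Ω) * p) this
      simpa using this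
    rw [h3]; exact k.2
  · intro hs
    refine ⟨⟨σ, hs⟩, ?_⟩
    ext g
    rw [hσ g]
    simp [MulAut.conj_apply]

theorem AutHyp.card_out_eq_one (h : AutHyp G S)
    (HN : ∀ σ : Equiv.Perm Ω, (∀ x, x ∉ S → σ x = x) → (∀ g ∈ G, σ * g * σ⁻¹ ∈ G) → σ ∈ G) :
    Nat.card (Cfsg.Out G) = 1 := by
  show (Cfsg.Inn G).index = 1
  rw [Subgroup.index_eq_one, eq_top_iff]
  intro φ _
  obtain ⟨σ, hσS, hσ⟩ := h.exists_perm φ
  rw [h.inner_iff φ σ hσS hσ]
  apply HN σ hσS
  intro g hg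
  rw [← hσ ⟨g, hg⟩]
  exact (φ ⟨g, hg⟩).2

/-- conjugation by a normalising permutation, as an automorphism -/
def conjAut (τ : Equiv.Perm Ω) (h1 : ∀ g ∈ G, τ * g * τ⁻¹ ∈ G) (h2 : ∀ g ∈ G, τ⁻¹ * g * τ ∈ G) :
    MulAut G where
  toFun g := ⟨τ * g * τ⁻¹, h1 g g.2⟩
  invFun g := ⟨τ⁻¹ * g * τ, h2 g g.2⟩
  left_inv g := by apply Subtype.ext; simp [mul_assoc]
  right_inv g := by apply Subtype.ext; simp [mul_assoc]
  map_mul' a b := by apply Subtype.ext; simp [mul_assoc]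

theorem AutHyp.card_out_eq_two (h : AutHyp G S) (τ : Equiv.Perm Ω) (hτS : ∀ x, x ∉ S → τ x = x)
    (h1 : ∀ g ∈ G, τ * g * τ⁻¹ ∈ G) (h2 : ∀ g ∈ G, τ⁻¹ * g * τ ∈ G) (hτ : τ ∉ G)
    (HN : ∀ σ : Equiv.Perm Ω, (∀ x, x ∉ S → σ x = x) → (∀ g ∈ G, σ * g * σ⁻¹ ∈ G) →
      σ ∈ G ∨ σ * τ ∈ G) :
    Nat.card (Cfsg.Out G) = 2 := by
  show (Cfsg.Inn G).index = 2
  rw [Subgroup.index_eq_two_iff]
  refine ⟨conjAut τ h1 h2, fun φ => ?_⟩
  obtain ⟨σ, hσS, hσ⟩ := h.exists_perm φ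
  have e1 := h.inner_iff φ σ hσS hσ
  have e2 : φ * conjAut τ h1 h2 ∈ Cfsg.Inn G ↔ σ * τ ∈ G := by
    apply h.inner_iff
    · intro x hx
      rw [Equiv.Perm.mul_apply, hτS x hx, hσS x hx]
    · intro g
      rw [MulAut.mul_apply, hσ]
      show σ * (τ * g * τ⁻¹) * σ⁻¹ = _
      group
  rw [e1, e2]
  have hN : ∀ g ∈ G, σ * g * σ⁻¹ ∈ G := by
    intro g hg
    rw [← hσ ⟨g, hg⟩]
    exact (φ ⟨g, hg⟩).2
  rcases HN σ hσS hN with hs | hs
  · right
    refine ⟨hs, fun hc => hτ ?_⟩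
    have := G.mul_mem (G.inv_mem hs) hc
    simpa using this
  · by_cases hs' : σ ∈ G
    · exfalso
      apply hτ
      have := G.mul_mem (G.inv_mem hs') hs
      simpa using this
    · left; exact ⟨hs, hs'⟩

end Cfsg.Agent.Lib.Helper7
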