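import Cfsg.Agent.Lib.Helper92.HS.Perm
import Cfsg.Agent.Lib.Helper27.WGraph
import Cfsg.Agent.Lib.Helper7.HSRDefs

/-!
# S1666, piece P5: the explicit graph on 100 points preserved by helper92's `PG a z`
-/

set_option autoImplicit false
set_option maxRecDepth 100000

namespace Cfsg.Agent.Lib.Helper7.HSR

open Cfsg.Agent.Lib.Helper27
open Cfsg.Agent.Lib.Helper92.PC
open Cfsg.Agent.Lib.Helper92.HS

/-- the packed adjacency table (100 rows of 100 bits). -/
def rowT : ℕ := 0x100000008007801fffe000000012140620a102960a730000000442810904282aa146d0000000094188824405160b8d0000000a082620520052a1593000000a11220921088064a127000000a8411205015005940c700000140a888444120064a0d90000014604451028800594139000026021810510908300720b00001a0884210600b03006c150000260062448440c04818c0b00001a05018a1031004819215000054c22480a1141000126a1000068c488420a0248000c741000055205124482220000d8a1000069290219204c0000139410007800000001401837bc001e0052800005a000b03084e00b4002d00000a5000c84884e014a002a80127004c1000407200aa0055001d800b0200040720154007801e0000028060303c01e001818200000283105c982060606060200000d4068249821818018602195330008000602180606018216acc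0008000602061880000c600000007ff818c00010a20844000c0d820098848228208a04200030e44011904288208c4082003080e00628848844440884400c040d006290844881122042003043118028891022221108400c08321802904231041140820003318200990851041441084000c32440118890450094210214001802495091082410a42021400240430d0a09042241090428002402315110429042092042800180448d1202508210c20281004020ac6110490240921028100801152612030840c2120442008010d4609102481240904420040212a60a08430110884824060008299208442208910881809000851920422440a0a05003600008ca2204282820a08480390000934240482821414090c0900008b2220850504141088c06000094c2409050448048204d00000a1ec040c00c04c84008e00000c6740020cc03003020b200000d994041201203304007100000be0c002132044220502409000e501409108822440901806000e281404891080003060000fff00001b000010910909415001b00022104224108920982a0027000222024420c0c2110c0514c0001210484840c09090c0a28c00014208484300482100966560000840c012480302100699950000841200c034840100665aa00008020d2004b04010099a69000080212c01212111300a17000012203030212120930052b000014110302422421141a0c180002420910824421118250c240002411089080000d800ff03c000060c000180004203c0f3c0601804200018000420c3f0c0318600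4200018000318ff000000780630000118184060000143083c840606060604060000e80704484181801860419563c000800004180606018419a9c30008000040618007803c0000002806037801e002d004e00055000a8508014a0052804e000aa000d028800b4002a807211b008c20004000aa005500721e4007010004001540078003de00000140183001e000829c800098204a02283260000851b000a0411210c1031a000082e300012288a054004a6000085648004414608224049a0000a84980c0a4408600d00540000d03180c608821111080680000a836012111185029000540000d04e012842250440a006800009c829600618045013028000009b052a0502411208882800000e302960214249030805000000e4852a08881a0441405000000c9a864a052108904480000000b1d058a901222212100000000b62865422844604a000000000ce505944848908242000000007fff801000000080078000000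

/-- the `i`-th adjacency row. -/
def row (i : ℕ) : ℕ := Nat.land (Nat.shiftRight rowT (Nat.mul 100 i)) 1267650600228229401496703205375

/-- symmetry and irreflexivity check. -/
def symChk : Bool :=
  allBelow (fun i => band (Nat.beq (Nat.land (Nat.shiftRight (row i) i) 1) 0)
    (allBelow (fun j => Nat.beq (Nat.land (Nat.shiftRight (row i) j) 1)
      (Nat.land (Nat.shiftRight (row j) i) 1)) 100)) 100

theorem symChk_ok : symChk = true := by decide +kernel

/-- invariance check for a coded permutation. -/
def invChk (c : ℕ) : Bool :=
  allBelow (fun i => allBelow (fun j => Nat.beq (Nat.land (Nat.shiftRight (row (en c i)) (en c j)) 1)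
      (Nat.land (Nat.shiftRight (row i) j) 1)) 100) 100

theorem invChk_a : invChk aC = true := by decide +kernel
theorem invChk_z : invChk zC = true := by decide +kernel
theorem srgChk : srgCheck row 100 22 0 6 = true := by decide +kernel

theorem row_symm {i j : ℕ} (hi : i < 100) (hj : j < 100) :
    (row i).testBit j = (row j).testBit i := by
  have h := symChk_ok
  unfold symChk at h
  simp only [allBelow_iff, band_eq, Bool.and_eq_true, Nat.beq_eq] at h
  exact testBit_eq_of_and_one ((h i hi).2 j hj)

theorem row_irrefl {i : ℕ} (hi : i < 100) : (row i).testBit i = false := by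
  have h := symChk_ok
  unfold symChk at h
  simp only [allBelow_iff, band_eq, Bool.and_eq_true, Nat.beq_eq] at h
  have h1 : (row i >>> i) &&& 1 = 0 := (h i hi).1
  rw [shiftRight_and_one] at h1
  cases hb : (row i).testBit i
  · rfl
  · simp [hb] at h1

/-- the Higman-Sims graph on `Fin 100` in helper92's numbering. -/
def gr : SimpleGraph (Fin 100) where
  Adj i j := (row i).testBit j = true
  symm := ⟨by
    intro i j h
    rw [row_symm j.2 i.2]; exact h⟩
  loopless := ⟨by
    intro i h
    rw [row_irrefl i.2] at h
    exact Bool.noConfusion h⟩

instance : DecidableRel gr.Adj := fun i j => inferInstanceAs (Decidable ((row i).testBit j = true))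

theorem gr_model : GModel gr 100 row (fun v : Fin 100 => (v : ℕ)) where
  inj := Fin.val_injective
  lt := fun v => v.2
  surj := fun i hi => ⟨⟨i, hi⟩, rfl⟩
  adj := fun _ _ => Iff.rfl

theorem gr_srg : gr.IsSRGWith 100 22 0 6 := gr_model.isSRGWith (by norm_num) srgChk

theorem mem_autSub_of_code {σ : Equiv.Perm (Fin 100)} {c : ℕ} (hσ : HasP σ c)
    (hc : invChk c = true) : σ ∈ autSub gr := by
  unfold invChk at hc
  simp only [allBelow_iff, Nat.beq_eq] at hc
  intro x y
  show (row (σ x)).testBit (σ y) = true ↔ (row x).testBit y = true
  rw [hσ x, hσ y, testBit_eq_of_and_one (hc x x.2 y y.2)]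

theorem PG_le_autSub : PG a z ≤ autSub gr := by
  unfold PG
  rw [Subgroup.closure_le]
  rintro x (rfl | hx)
  · exact mem_autSub_of_code ha invChk_a
  · rw [Set.mem_singleton_iff.1 hx]
    exact mem_autSub_of_code hz invChk_z

theorem mem_of_odd_order {Γ : Type*} [Group Γ] {K : Subgroup Γ} (hK : K.index = 2) (x : Γ) {k : ℕ}
    (hx : orderOf x = 2 * k + 1) : x ∈ K := by
  have h1 : x ^ 2 ∈ K := Subgroup.sq_mem_of_index_two hK x
  have h2 : x = (x ^ 2) ^ (k + 1) := by
    rw [← pow_mul, show 2 * (k + 1) = (2 * k + 1) + 1 by ring, pow_succ, ← hx, pow_orderOf_eq_one,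
      one_mul]
  rw [h2]
  exact K.pow_mem h1 _

theorem PG_no_index_two : ∀ K : Subgroup (PG a z), K.index ≠ 2 := by
  intro K hK
  have h1 : (⟨a, a_mem⟩ : PG a z) ∈ K := by
    apply mem_of_odd_order hK (k := 5)
    rw [← Subgroup.orderOf_coe]
    exact order_a
  have h2 : (⟨ev a z [true, true, false], ev_mem a_mem z_mem _⟩ : PG a z) ∈ K := by
    apply mem_of_odd_order hK (k := 3)
    rw [← Subgroup.orderOf_coe]
    exact order_7
  have h3 : (⟨z, z_mem⟩ : PG a z) ∈ K := by
    have e : (⟨z, z_mem⟩ : PG a z) = (⟨a, a_mem⟩ : PG a z)⁻¹ * (⟨a, a_mem⟩ : PG a z)⁻¹ *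
        ⟨ev a z [true, true, false], ev_mem a_mem z_mem _⟩ := by
      apply Subtype.ext
      show z = a⁻¹ * a⁻¹ * (a * (a * (z * 1)))
      group
    rw [e]
    exact K.mul_mem (K.mul_mem (K.inv_mem h1) (K.inv_mem h1)) h2
  have h4 : PG a z ≤ K.map (PG a z).subtype := by
    unfold PG
    rw [Subgroup.closure_le]
    rintro x (rfl | hx)
    · exact ⟨_, h1, rfl⟩
    · rw [Set.mem_singleton_iff.1 hx]
      exact ⟨_, h3, rfl⟩
  have h5 : K = ⊤ := by
    rw [eq_top_iff]
    intro x _
    obtain ⟨y, hy, hxy⟩ := h4 x.2
    have : y = x := Subtype.ext hxy
    rwa [← this]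
  rw [h5, Subgroup.index_top] at hK
  exact absurd hK (by norm_num)

end Cfsg.Agent.Lib.Helper7.HSR
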