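import Cfsg.Agent.Lib.Helper7.LeechNorm

set_option autoImplicit false

namespace Cfsg.Agent.Lib.Helper7

open Cfsg Finset

def nn (v : ℤ) : ℕ := ((v + 8) / 4).toNat
noncomputable def VV (ρ : ℤ) : Finset ℤ := (Finset.Icc (-8) 8).filter (fun v => v % 4 = ρ)
noncomputable def PP (B : ℤ) (ρ : ℤ) : ℤ := ∑ v ∈ VV ρ, B ^ (v.natAbs ^ 2)
noncomputable def QQ (B : ℤ) (ρ : ℤ) : ℤ := ∑ v ∈ VV ρ, (-1) ^ (nn v) * B ^ (v.natAbs ^ 2)
def rho (m : ℕ) (C : Finset GolayPt) (i : GolayPt) : ℤ := if i ∈ C then (m : ℤ) + 2 else m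
noncomputable def SS (m : ℕ) (C : Finset GolayPt) : Finset (GolayPt → ℤ) :=
  (Fintype.piFinset (fun i => VV (rho m C i))).filter (fun x => (∑ i, x i) % 8 = (4 * (m : ℤ)) % 8)
def ee (x : GolayPt → ℤ) : ℕ := ∑ i, (x i).natAbs ^ 2

theorem ee_cast (x : GolayPt → ℤ) : (ee x : ℤ) = sqNorm x := by
  unfold ee sqNorm
  rw [Nat.cast_sum]
  apply Finset.sum_congr rfl
  intro i _
  rw [Nat.cast_pow, Int.natCast_natAbs, sq_abs]

theorem sum_rho (m : ℕ) (C : Finset GolayPt) : ∑ i, rho m C i = 24 * m + 2 * C.card := by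
  have : ∀ i, rho m C i = (m : ℤ) + (if i ∈ C then 2 else 0) := by
    intro i; unfold rho; split_ifs <;> simp
  rw [Finset.sum_congr rfl (fun i _ => this i), Finset.sum_add_distrib, Finset.sum_const,
    Finset.card_univ, card_golayPt, Finset.sum_ite_mem, Finset.univ_inter, Finset.sum_const]
  simp only [nsmul_eq_mul]
  push_cast
  ring

theorem VV0 : VV 0 = {-8, -4, 0, 4, 8} := by
  ext v
  simp only [VV, Finset.mem_filter, Finset.mem_Icc, Finset.mem_insert, Finset.mem_singleton]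
  omega
theorem VV1 : VV 1 = {-7, -3, 1, 5} := by
  ext v
  simp only [VV, Finset.mem_filter, Finset.mem_Icc, Finset.mem_insert, Finset.mem_singleton]
  omega
theorem VV2 : VV 2 = {-6, -2, 2, 6} := by
  ext v
  simp only [VV, Finset.mem_filter, Finset.mem_Icc, Finset.mem_insert, Finset.mem_singleton]
  omega
theorem VV3 : VV 3 = {-5, -1, 3, 7} := by
  ext v
  simp only [VV, Finset.mem_filter, Finset.mem_Icc, Finset.mem_insert, Finset.mem_singleton]
  omega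

theorem PP0 (B : ℤ) : PP B 0 = 1 + 2 * B ^ 16 + 2 * B ^ 64 := by
  rw [PP, VV0]
  simp
  ring
theorem PP2 (B : ℤ) : PP B 2 = 2 * B ^ 4 + 2 * B ^ 36 := by
  rw [PP, VV2]
  simp
  ring
theorem PP1 (B : ℤ) : PP B 1 = B + B ^ 9 + B ^ 25 + B ^ 49 := by
  rw [PP, VV1]
  simp
  ring
theorem PP3 (B : ℤ) : PP B 3 = B + B ^ 9 + B ^ 25 + B ^ 49 := by
  rw [PP, VV3]
  simp
  ring
theorem QQ0 (B : ℤ) : QQ B 0 = 1 - 2 * B ^ 16 + 2 * B ^ 64 := by
  rw [QQ, VV0]
  simp [nn]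
  ring
theorem QQ2 (B : ℤ) : QQ B 2 = 0 := by
  rw [QQ, VV2]
  simp [nn]
theorem QQ1 (B : ℤ) : QQ B 1 = B - B ^ 9 - B ^ 25 + B ^ 49 := by
  rw [QQ, VV1]
  simp [nn]
  ring
theorem QQ3 (B : ℤ) : QQ B 3 = - (B - B ^ 9 - B ^ 25 + B ^ 49) := by
  rw [QQ, VV3]
  simp [nn]
  ring


theorem prod_rho (f : ℤ → ℤ) (m : ℕ) (C : Finset GolayPt) :
    ∏ i, f (rho m C i) = f (m + 2) ^ C.card * f m ^ (24 - C.card) := by
  have : ∀ i, f (rho m C i) = if i ∈ C then f (m + 2) else f m := by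
    intro i; unfold rho; split_ifs <;> rfl
  rw [Finset.prod_congr rfl (fun i _ => this i)]
  rw [Finset.prod_ite, Finset.prod_const, Finset.prod_const, Finset.filter_mem_eq_inter,
    Finset.univ_inter, Finset.filter_not, Finset.filter_mem_eq_inter, Finset.univ_inter,
    Finset.card_sdiff_of_subset (Finset.subset_univ _), Finset.card_univ, card_golayPt]

theorem indicator_eq (m : ℕ) (C : Finset GolayPt) (hC : 4 ∣ C.card) (x : GolayPt → ℤ)
    (hx : x ∈ Fintype.piFinset (fun i => VV (rho m C i))) :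
    (if (∑ i, x i) % 8 = (4 * (m : ℤ)) % 8 then (2 : ℤ) else 0) = 1 + (-1) ^ m * ∏ i, (-1) ^ nn (x i) := by
  rw [Fintype.mem_piFinset] at hx
  have h1 : ∀ i, x i = 4 * (nn (x i) : ℤ) - 8 + rho m C i := by
    intro i
    have := hx i
    rw [VV, Finset.mem_filter, Finset.mem_Icc] at this
    obtain ⟨⟨h2, h3⟩, h4⟩ := this
    rw [← h4, nn, Int.toNat_of_nonneg (by omega)]
    omega
  have h2 : ∑ i, x i = 4 * ((∑ i, nn (x i) : ℕ) : ℤ) - 192 + (24 * m + 2 * C.card) := by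
    rw [← sum_rho]
    conv_lhs => rw [Finset.sum_congr rfl (fun i _ => h1 i)]
    rw [Finset.sum_add_distrib, Finset.sum_sub_distrib, ← Finset.mul_sum, Finset.sum_const,
      Finset.card_univ, card_golayPt, Nat.cast_sum]
    norm_num
  rw [Finset.prod_pow_eq_pow_sum, ← pow_add]
  obtain ⟨c, hc⟩ := hC
  rw [hc] at h2
  push_cast at h2
  rw [← Nat.cast_sum] at h2
  set S := ∑ i, nn (x i) with hS
  rcases Nat.even_or_odd (m + S) with he | ho
  · rw [he.neg_one_pow, if_pos]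
    · norm_num
    · rw [h2]
      obtain ⟨k, hk⟩ := he
      omega
  · rw [ho.neg_one_pow, if_neg]
    · norm_num
    · rw [h2]
      obtain ⟨k, hk⟩ := ho
      omega

theorem two_mul_sum_SS (B : ℤ) (m : ℕ) (C : Finset GolayPt) (hC : 4 ∣ C.card) :
    2 * ∑ x ∈ SS m C, B ^ ee x =
      PP B (m + 2) ^ C.card * PP B m ^ (24 - C.card) +
        (-1) ^ m * (QQ B (m + 2) ^ C.card * QQ B m ^ (24 - C.card)) := by
  rw [← prod_rho (PP B), ← prod_rho (QQ B)]
  unfold PP QQ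
  rw [Finset.prod_univ_sum, Finset.prod_univ_sum, SS, Finset.sum_filter, Finset.mul_sum,
    Finset.mul_sum, ← Finset.sum_add_distrib]
  apply Finset.sum_congr rfl
  intro x hx
  have := indicator_eq m C hC x hx
  rw [Finset.prod_mul_distrib, Finset.prod_pow_eq_pow_sum]
  change _ = B ^ ee x + _ * (_ * B ^ ee x)
  rw [← mul_assoc, ← one_add_mul, ← this]
  split_ifs <;> simp

end Cfsg.Agent.Lib.Helper7
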