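import Cfsg.Agent.Lib.Helper7.LeechCountA

set_option autoImplicit false
set_option maxRecDepth 100000

namespace Cfsg.Agent.Lib.Helper7

open Cfsg Finset

noncomputable def box : Finset (GolayPt → ℤ) := Fintype.piFinset (fun _ => Finset.Icc (-8) 8)
open Classical in
noncomputable def LL : Finset (GolayPt → ℤ) := box.filter (fun x => x ∈ leechSet)
open Classical in
noncomputable def GCfin : Finset (Finset GolayPt) := Finset.univ.filter (fun c => c ∈ GC)

theorem mem_GCfin {c : Finset GolayPt} : c ∈ GCfin ↔ c ∈ GC := by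
  simp [GCfin]

theorem mem_SS {m : ℕ} {C : Finset GolayPt} {x : GolayPt → ℤ} : x ∈ SS m C ↔
    (∀ i, (-8 ≤ x i ∧ x i ≤ 8) ∧ x i % 4 = rho m C i) ∧ (∑ i, x i) % 8 = (4 * (m : ℤ)) % 8 := by
  rw [SS, Finset.mem_filter, Fintype.mem_piFinset]
  simp only [VV, Finset.mem_filter, Finset.mem_Icc]

theorem SS_subset_LL {m : ℕ} (hm : m < 2) {C : Finset GolayPt} (hC : C ∈ GC) {x : GolayPt → ℤ}
    (hx : x ∈ SS m C) : x ∈ LL := by
  rw [mem_SS] at hx
  obtain ⟨h1, h2⟩ := hx
  classical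
  rw [LL, Finset.mem_filter, box, Fintype.mem_piFinset]
  refine ⟨fun i => Finset.mem_Icc.2 (h1 i).1, ?_⟩
  rw [mem_leechSet_iff]
  refine ⟨m, fun i => ?_, h2, ?_⟩
  · have := (h1 i).2
    unfold rho at this
    simp only [Int.ModEq]
    split_ifs at this <;> omega
  · have : (Finset.univ.filter fun i => x i ≡ (m : ℤ) + 2 [ZMOD 4]) = C := by
      ext i
      rw [Finset.mem_filter]
      have := (h1 i).2
      unfold rho at this
      simp only [Int.ModEq, Finset.mem_univ, true_and]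
      split_ifs at this with h
      · simp only [h, iff_true]; omega
      · simp only [h, iff_false]; omega
    rw [this]; exact hC

theorem exists_SS_of_mem_LL {x : GolayPt → ℤ} (hx : x ∈ LL) : ∃ m < 2, ∃ C ∈ GC, x ∈ SS m C := by
  classical
  rw [LL, Finset.mem_filter, box, Fintype.mem_piFinset] at hx
  obtain ⟨hb, m0, h1, h2, h3⟩ := hx
  refine ⟨(m0 % 2).toNat, by omega, _, h3 (((m0 % 2).toNat : ℤ) + 2), ?_⟩
  rw [mem_SS]
  have hm : (((m0 % 2).toNat : ℕ) : ℤ) = m0 % 2 := Int.toNat_of_nonneg (by omega)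
  refine ⟨fun i => ⟨Finset.mem_Icc.1 (hb i), ?_⟩, ?_⟩
  · unfold rho
    have e1 := h1 i
    simp only [Int.ModEq] at e1
    split_ifs with h
    · rw [Finset.mem_filter] at h
      have e2 := h.2
      simp only [Int.ModEq] at e2
      omega
    · rw [Finset.mem_filter] at h
      simp only [Finset.mem_univ, true_and, Int.ModEq] at h
      omega
  · simp only [Int.ModEq] at h2
    omega

theorem SS_disjoint {m m' : ℕ} (hm : m < 2) (hm' : m' < 2) {C C' : Finset GolayPt} {x : GolayPt → ℤ}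
    (hx : x ∈ SS m C) (hx' : x ∈ SS m' C') : m = m' ∧ C = C' := by
  rw [mem_SS] at hx hx'
  have hmm : m = m' := by
    have e1 := (hx.1 none).2
    have e2 := (hx'.1 none).2
    unfold rho at e1 e2
    split_ifs at e1 e2 <;> omega
  subst hmm
  refine ⟨rfl, ?_⟩
  ext i
  have e1 := (hx.1 i).2
  have e2 := (hx'.1 i).2
  unfold rho at e1 e2
  split_ifs at e1 e2 with h h' h'
  · simp [h, h']
  · omega
  · omega
  · simp [h, h']

theorem sum_LL {M : Type*} [AddCommMonoid M] (f : (GolayPt → ℤ) → M) :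
    ∑ x ∈ LL, f x = ∑ m ∈ Finset.range 2, ∑ C ∈ GCfin, ∑ x ∈ SS m C, f x := by
  classical
  rw [← Finset.sum_product', ← Finset.sum_biUnion]
  · apply Finset.sum_congr _ (fun _ _ => rfl)
    ext x
    rw [Finset.mem_biUnion]
    constructor
    · intro hx
      obtain ⟨m, hm, C, hC, h⟩ := exists_SS_of_mem_LL hx
      exact ⟨(m, C), Finset.mem_product.2 ⟨Finset.mem_range.2 hm, mem_GCfin.2 hC⟩, h⟩
    · rintro ⟨⟨m, C⟩, hmC, h⟩
      rw [Finset.mem_product] at hmC
      exact SS_subset_LL (Finset.mem_range.1 hmC.1) (mem_GCfin.1 hmC.2) h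
  · rintro ⟨m, C⟩ hmC ⟨m', C'⟩ hmC' hne
    rw [Finset.mem_coe, Finset.mem_product] at hmC hmC'
    rw [Function.onFun, Finset.disjoint_left]
    intro x hx hx'
    apply hne
    obtain ⟨h1, h2⟩ := SS_disjoint (Finset.mem_range.1 hmC.1) (Finset.mem_range.1 hmC'.1) hx hx'
    exact Prod.ext h1 h2

end Cfsg.Agent.Lib.Helper7
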