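import Cfsg.Agent.Lib.Helper7.LeechCountB

set_option autoImplicit false
set_option maxRecDepth 100000

namespace Cfsg.Agent.Lib.Helper7

open Cfsg Finset

/-- the weight-`w` contribution -/
noncomputable def FF (B : ℤ) (w : ℕ) : ℤ :=
  ∑ m ∈ Finset.range 2, (PP B ((m : ℤ) + 2) ^ w * PP B m ^ (24 - w) +
    (-1) ^ m * (QQ B ((m : ℤ) + 2) ^ w * QQ B m ^ (24 - w)))

theorem two_mul_sum_LL (B : ℤ) : 2 * ∑ x ∈ LL, B ^ ee x = ∑ C ∈ GCfin, FF B C.card := by
  rw [sum_LL, Finset.sum_comm, Finset.mul_sum]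
  apply Finset.sum_congr rfl
  intro C hC
  rw [Finset.mul_sum, FF]
  apply Finset.sum_congr rfl
  intro m _
  exact two_mul_sum_SS B m C (Cfsg.Agent.Lib.Helper8.golay_four_dvd (mem_GCfin.1 hC))

/-- explicit form -/
def FFx (B : ℤ) (w : ℕ) : ℤ :=
  (2 * B ^ 4 + 2 * B ^ 36) ^ w * (1 + 2 * B ^ 16 + 2 * B ^ 64) ^ (24 - w)
   + 0 ^ w * (1 - 2 * B ^ 16 + 2 * B ^ 64) ^ (24 - w)
   + ((B + B ^ 9 + B ^ 25 + B ^ 49) ^ w * (B + B ^ 9 + B ^ 25 + B ^ 49) ^ (24 - w)
   - (-(B - B ^ 9 - B ^ 25 + B ^ 49)) ^ w * (B - B ^ 9 - B ^ 25 + B ^ 49) ^ (24 - w))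

theorem FF_eq (B : ℤ) (w : ℕ) : FF B w = FFx B w := by
  rw [FF, Finset.sum_range_succ, Finset.sum_range_one]
  norm_num
  rw [PP0, PP1, PP2, PP3, QQ0, QQ1, QQ2, QQ3, FFx]
  ring

section weights

variable (hw : ∀ c ∈ GC, c.card = 0 ∨ c.card = 8 ∨ c.card = 12 ∨ c.card = 16 ∨ c.card = 24)
  (h8 : octads.ncard = 759) (h12 : dodecads.ncard = 2576)

include h8 in
theorem card_GC8 : (GCfin.filter (fun c => c.card = 8)).card = 759 := by
  rw [← h8, ← Set.ncard_coe_finset]
  congr 1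
  ext c
  simp only [Finset.coe_filter, Set.mem_ofPred_eq, mem_GCfin]
  rfl

include h12 in
theorem card_GC12 : (GCfin.filter (fun c => c.card = 12)).card = 2576 := by
  rw [← h12, ← Set.ncard_coe_finset]
  congr 1
  ext c
  simp only [Finset.coe_filter, Set.mem_ofPred_eq, mem_GCfin]
  rfl

include h8 in
theorem card_GC16 : (GCfin.filter (fun c => c.card = 16)).card = 759 := by
  rw [← card_GC8 h8]
  apply Finset.card_bij (fun c _ => cᶜ)
  · intro c hc
    rw [Finset.mem_filter, mem_GCfin] at hc ⊢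
    refine ⟨GC_compl hc.1, ?_⟩
    rw [Finset.card_compl, card_golayPt, hc.2]
  · intro a _ b _ h
    exact compl_injective h
  · intro c hc
    rw [Finset.mem_filter, mem_GCfin] at hc
    refine ⟨cᶜ, ?_, compl_compl c⟩
    rw [Finset.mem_filter, mem_GCfin]
    refine ⟨GC_compl hc.1, ?_⟩
    rw [Finset.card_compl, card_golayPt, hc.2]

theorem card_GC0 : (GCfin.filter (fun c => c.card = 0)).card = 1 := by
  rw [Finset.card_eq_one]
  refine ⟨∅, ?_⟩
  ext c
  rw [Finset.mem_filter, mem_GCfin, Finset.mem_singleton, Finset.card_eq_zero]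
  constructor
  · exact fun h => h.2
  · rintro rfl; exact ⟨GC_empty, rfl⟩

theorem card_GC24 : (GCfin.filter (fun c => c.card = 24)).card = 1 := by
  rw [Finset.card_eq_one]
  refine ⟨Finset.univ, ?_⟩
  ext c
  rw [Finset.mem_filter, mem_GCfin, Finset.mem_singleton, ← card_golayPt, Finset.card_eq_iff_eq_univ]
  constructor
  · exact fun h => h.2
  · rintro rfl; exact ⟨GC_univ, rfl⟩

include hw h8 h12 in
theorem sum_GCfin (F : ℕ → ℤ) :
    ∑ C ∈ GCfin, F C.card = F 0 + 759 * F 8 + 2576 * F 12 + 759 * F 16 + F 24 := by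
  have hmaps : ∀ c ∈ GCfin, c.card ∈ ({0, 8, 12, 16, 24} : Finset ℕ) := by
    intro c hc
    have := hw c (mem_GCfin.1 hc)
    simp only [Finset.mem_insert, Finset.mem_singleton]
    exact this
  rw [← Finset.sum_fiberwise_of_maps_to hmaps]
  have hin : ∀ w, ∑ C ∈ GCfin.filter (fun c => c.card = w), F C.card =
      (GCfin.filter (fun c => c.card = w)).card * F w := by
    intro w
    rw [Finset.sum_congr rfl (g := fun _ => F w) (fun c hc => by rw [(Finset.mem_filter.1 hc).2]),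
      Finset.sum_const, nsmul_eq_mul]
  simp only [hin]
  rw [Finset.sum_insert (by decide), Finset.sum_insert (by decide), Finset.sum_insert (by decide),
    Finset.sum_insert (by decide), Finset.sum_singleton, card_GC0, card_GC8 h8, card_GC12 h12,
    card_GC16 h8, card_GC24]
  push_cast
  ring

end weights

end Cfsg.Agent.Lib.Helper7
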