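import Cfsg.Agent.Lib.Helper7.LeechCountC

set_option autoImplicit false
set_option maxRecDepth 100000

namespace Cfsg.Agent.Lib.Helper7

open Cfsg Finset

def nn8 (v : ℤ) : ℕ := (v / 4).toNat
def VV8 (ρ : ℤ) : Finset ℤ := {ρ, ρ + 4}
noncomputable def SS8 (m : ℕ) (C : Finset GolayPt) : Finset (GolayPt → ℤ) :=
  (Fintype.piFinset (fun i => VV8 (rho m C i))).filter (fun x => (∑ i, x i) % 8 = (4 * (m : ℤ)) % 8)
noncomputable def box8 : Finset (GolayPt → ℤ) := Fintype.piFinset (fun _ => Finset.Ico 0 8)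
open Classical in
noncomputable def LL8 : Finset (GolayPt → ℤ) := box8.filter (fun x => x ∈ leechSet)

theorem rho_cases (m : ℕ) (C : Finset GolayPt) (i : GolayPt) :
    rho m C i = m ∨ rho m C i = (m : ℤ) + 2 := by
  unfold rho; split_ifs <;> simp

theorem indicator8_eq (m : ℕ) (hm : m < 2) (C : Finset GolayPt) (hC : 4 ∣ C.card) (x : GolayPt → ℤ)
    (hx : x ∈ Fintype.piFinset (fun i => VV8 (rho m C i))) :
    (if (∑ i, x i) % 8 = (4 * (m : ℤ)) % 8 then (2 : ℤ) else 0) = 1 + (-1) ^ m * ∏ i, (-1) ^ nn8 (x i) := by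
  rw [Fintype.mem_piFinset] at hx
  have h1 : ∀ i, x i = 4 * (nn8 (x i) : ℤ) + rho m C i := by
    intro i
    have := hx i
    rw [VV8, Finset.mem_insert, Finset.mem_singleton] at this
    have h2 := rho_cases m C i
    rw [nn8, Int.toNat_of_nonneg (by omega)]
    omega
  have h2 : ∑ i, x i = 4 * ((∑ i, nn8 (x i) : ℕ) : ℤ) + (24 * m + 2 * C.card) := by
    rw [← sum_rho]
    conv_lhs => rw [Finset.sum_congr rfl (fun i _ => h1 i)]
    rw [Finset.sum_add_distrib, ← Finset.mul_sum, Nat.cast_sum]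
  rw [Finset.prod_pow_eq_pow_sum, ← pow_add]
  obtain ⟨c, hc⟩ := hC
  rw [hc] at h2
  push_cast at h2
  rw [← Nat.cast_sum] at h2
  set S := ∑ i, nn8 (x i) with hS
  rcases Nat.even_or_odd (m + S) with he | ho
  · rw [he.neg_one_pow, if_pos]
    · norm_num
    · rw [h2]
      obtain ⟨k, hk⟩ := he
      omega
  · rw [ho.neg_one_pow, if_neg]
    · norm_num
    · rw [h2]
      obtain ⟨k, hk⟩ := ho
      omega

theorem sum_VV8 (m : ℕ) (hm : m < 2) (C : Finset GolayPt) (i : GolayPt) :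
    ∑ v ∈ VV8 (rho m C i), (-1 : ℤ) ^ nn8 v = 0 := by
  rw [VV8, Finset.sum_pair (by omega)]
  have h2 := rho_cases m C i
  have e1 : nn8 (rho m C i) = 0 := by
    unfold nn8
    have : rho m C i / 4 = 0 := by omega
    rw [this]; rfl
  have e2 : nn8 (rho m C i + 4) = 1 := by
    unfold nn8
    have : (rho m C i + 4) / 4 = 1 := by omega
    rw [this]; rfl
  rw [e1, e2]; norm_num

theorem card_SS8 (m : ℕ) (hm : m < 2) (C : Finset GolayPt) (hC : 4 ∣ C.card) :
    (SS8 m C).card = 2 ^ 23 := by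
  have h : (2 : ℤ) * ((SS8 m C).card : ℤ) = 2 ^ 24 := by
    rw [SS8, Finset.card_filter, Nat.cast_sum, Finset.mul_sum]
    have : ∀ x ∈ Fintype.piFinset (fun i => VV8 (rho m C i)),
        (2 : ℤ) * ((if (∑ i, x i) % 8 = (4 * (m : ℤ)) % 8 then 1 else 0 : ℕ) : ℤ) =
          ∏ i : GolayPt, (1 : ℤ) + (-1) ^ m * ∏ i, (-1) ^ nn8 (x i) := by
      intro x hx
      rw [Finset.prod_const_one, ← indicator8_eq m hm C hC x hx]
      split_ifs <;> simp
    rw [Finset.sum_congr rfl this, Finset.sum_add_distrib, ← Finset.mul_sum,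
      ← Finset.prod_univ_sum (fun i => VV8 (rho m C i)) (fun _ _ => (1 : ℤ)),
      ← Finset.prod_univ_sum (fun i => VV8 (rho m C i)) (fun _ v => (-1 : ℤ) ^ nn8 v)]
    rw [Finset.prod_congr rfl (fun i _ => sum_VV8 m hm C i), Finset.prod_const, Finset.card_univ,
      card_golayPt]
    have : ∀ i : GolayPt, ∑ _v ∈ VV8 (rho m C i), (1 : ℤ) = 2 := by
      intro i
      rw [VV8, Finset.sum_pair (by omega)]; norm_num
    rw [Finset.prod_congr rfl (fun i _ => this i), Finset.prod_const, Finset.card_univ, card_golayPt]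
    norm_num
  have h' : 2 * (SS8 m C).card = 2 ^ 24 := by exact_mod_cast h
  omega

end Cfsg.Agent.Lib.Helper7
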