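import Cfsg.Agent.Lib.Helper7.M12Facts

/-!
# Subgroups of index 12 of `M12`, and of index 11, 12 of `M11`, fix a point
-/

set_option autoImplicit false
set_option linter.style.haveILetI false

namespace Cfsg.Agent.Lib.Helper7

open Cfsg Cfsg.Agent.Lib.Helper27 MulAction
open scoped Pointwise

theorem six_points' (E : Finset GolayPt) (hE : E.card = 6) :
    (∀ g ∈ M24, (∀ x ∈ E, g x = x) → g ^ 2 = 1) ∨ (∀ g ∈ M24, (∀ x ∈ E, g x = x) → g ^ 3 = 1) := by
  obtain ⟨t, hto, ht⟩ := Finset.exists_subset_card_eq (show 5 ≤ E.card by omega)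
  let e : Fin 5 ≃ t := (Finset.equivFinOfCardEq ht).symm
  let x : Fin 5 ↪ GolayPt := ⟨fun i => (e i : GolayPt), fun i j h => e.injective (Subtype.ext h)⟩
  obtain ⟨y, hy, hyt⟩ := Finset.exists_mem_notMem_of_card_lt_card (s := t) (t := E) (by omega)
  have hyx : ∀ i, y ≠ x i := fun i h => hyt (h ▸ (e i).2)
  rcases six_points x hyx with h | h
  · exact Or.inl fun g hg hfix => h g hg (fun i => hfix _ (hto (e i).2)) (hfix y hy)
  · exact Or.inr fun g hg hfix => h g hg (fun i => hfix _ (hto (e i).2)) (hfix y hy)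

theorem orderOf_conj' {G : Type*} [Group G] (k t : G) : orderOf (k⁻¹ * t * k) = orderOf t := by
  have := orderOf_injective (MulAut.conj k⁻¹).toMonoidHom (MulAut.conj k⁻¹).injective t
  simpa [MulAut.conj_apply] using this

/-- a subgroup of order 660 of the dodecad stabiliser fixing a point of the dodecad fixes a point
outside -/
theorem fixes_DC_of_660 (H : Subgroup (Equiv.Perm GolayPt)) (hH : H ≤ fixer D0)
    (hc : Nat.card H = 660) {a : GolayPt} (ha : a ∈ DD) (hfa : ∀ g ∈ H, g a = a) :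
    ∃ b ∈ DC, ∀ g ∈ H, g b = b := by
  haveI : Fact (Nat.Prime 11) := ⟨by norm_num⟩
  haveI : Fact (Nat.Prime 2) := ⟨by norm_num⟩
  obtain ⟨z, hzH, hzo⟩ := exists_orderOf H 11 (by rw [hc]; norm_num)
  obtain ⟨t, htH, hto⟩ := exists_orderOf H 2 (by rw [hc]; norm_num)
  have hz1 := (fix11 (hH hzH) hzo).2
  obtain ⟨b, hb⟩ := Finset.card_eq_one.1 hz1
  have hb' : b ∈ DC.filter fun x => z x = x := by rw [hb]; exact Finset.mem_singleton_self b
  rw [Finset.mem_filter] at hb'
  obtain ⟨c0, hc0, htc⟩ := invol_fix (hH htH) hto ha (hfa t htH)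
  obtain ⟨r, hr1, hr2, hr3, hr4⟩ := orb_mod' (DC_inv hH) hb'.1 (Finset.empty_subset _)
    (fixes_empty H) (Finset.notMem_empty b) hzH 11 hzo
  have hr := hr3 hb'.2
  have hpos := orb_card_pos H b
  rw [hz1, Finset.card_empty] at hr2
  rw [Finset.card_empty, card_DC] at hr4
  have hcases : (orb H b).card = 1 ∨ (orb H b).card = 12 := by omega
  rcases hcases with h | h
  · exact ⟨b, hb'.1, fixes_of_orb_card_eq_one h⟩
  · exfalso
    have hsub : orb H b ⊆ DC := by
      intro y hy
      obtain ⟨k, hk, rfl⟩ := mem_orb.1 hy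
      exact DC_inv hH k hk b hb'.1
    have heq : orb H b = DC := Finset.eq_of_subset_of_card_le hsub (by rw [h, card_DC])
    obtain ⟨k, hk, hkb⟩ := mem_orb.1 (heq ▸ hc0)
    have hcard : Nat.card ↥(H ⊓ stabilizer (Equiv.Perm GolayPt) b) = 55 := by
      have := card_orb H b
      rw [hc, h] at this
      omega
    have hmem : k⁻¹ * t * k ∈ H ⊓ stabilizer (Equiv.Perm GolayPt) b := by
      refine ⟨H.mul_mem (H.mul_mem (H.inv_mem hk) htH) hk, ?_⟩
      show (k⁻¹ * t * k) b = b
      rw [Equiv.Perm.mul_apply, Equiv.Perm.mul_apply, hkb, htc, ← hkb]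
      simp
    have h2 := orderOf_dvd_natCard (⟨_, hmem⟩ : ↥(H ⊓ stabilizer (Equiv.Perm GolayPt) b))
    rw [hcard, ← Subgroup.orderOf_coe, orderOf_conj', hto] at h2
    norm_num at h2

theorem exists_DD_notMem (F : Finset GolayPt) (h : F.card < 12) : ∃ x ∈ DD, x ∉ F :=
  Finset.exists_mem_notMem_of_card_lt_card (by rw [card_DD]; exact h)

theorem claimA_M12 (K : Subgroup (Equiv.Perm GolayPt)) (hK : K ≤ fixer D0)
    (hc : Nat.card K = 7920) : ∃ q, ∀ g ∈ K, g q = q := by
  haveI : Fact (Nat.Prime 11) := ⟨by norm_num⟩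
  haveI : Fact (Nat.Prime 5) := ⟨by norm_num⟩
  haveI : Fact (Nat.Prime 3) := ⟨by norm_num⟩
  haveI : Fact (Nat.Prime 2) := ⟨by norm_num⟩
  by_contra hno
  push Not at hno
  have hne1 : ∀ q, (orb K q).card ≠ 1 := by
    intro q h
    obtain ⟨g, hg, hgq⟩ := hno q
    exact hgq (fixes_of_orb_card_eq_one h g hg)
  obtain ⟨z, hzK, hzo⟩ := exists_orderOf K 11 (by rw [hc]; norm_num)
  have hz1 := (fix11 (hK hzK) hzo).1
  obtain ⟨a, ha⟩ := Finset.card_eq_one.1 hz1
  have ha' : a ∈ DD.filter fun x => z x = x := by rw [ha]; exact Finset.mem_singleton_self a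
  rw [Finset.mem_filter] at ha'
  obtain ⟨r, hr1, hr2, hr3, hr4⟩ := orb_mod' (DD_inv hK) ha'.1 (Finset.empty_subset _)
    (fixes_empty K) (Finset.notMem_empty a) hzK 11 hzo
  have hr := hr3 ha'.2
  have hpos := orb_card_pos K a
  have hn1 := hne1 a
  rw [hz1, Finset.card_empty] at hr2
  rw [Finset.card_empty, card_DD] at hr4
  have h12 : (orb K a).card = 12 := by omega
  set Ka := K ⊓ stabilizer (Equiv.Perm GolayPt) a with hKa
  have cKa : Nat.card Ka = 660 := by
    have : Nat.card K = (orb K a).card * Nat.card Ka := card_orb K a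
    rw [hc, h12] at this
    omega
  have hKaD : Ka ≤ fixer D0 := inf_le_left.trans hK
  obtain ⟨f, hfD, hff⟩ := fixes_DC_of_660 Ka hKaD cKa ha'.1 (fun g hg => hg.2)
  obtain ⟨z', hz'K, hz'o⟩ := exists_orderOf Ka 11 (by rw [cKa]; norm_num)
  have hz'1 := fix11 (hKaD hz'K) hz'o
  -- the stabiliser of f
  obtain ⟨r, hr1, hr2, hr3, hr4⟩ := orb_mod' (DC_inv hK) hfD (Finset.empty_subset _)
    (fixes_empty K) (Finset.notMem_empty f) hz'K.1 11 hz'o
  have hr := hr3 (hff z' hz'K)
  have hpos := orb_card_pos K f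
  have hn1 := hne1 f
  rw [hz'1.2, Finset.card_empty] at hr2
  rw [Finset.card_empty, card_DC] at hr4
  have h12f : (orb K f).card = 12 := by omega
  set Kf := K ⊓ stabilizer (Equiv.Perm GolayPt) f with hKf
  have cKf : Nat.card Kf = 660 := by
    have : Nat.card K = (orb K f).card * Nat.card Kf := card_orb K f
    rw [hc, h12f] at this
    omega
  have hle : Ka ≤ Kf := fun g hg => ⟨hg.1, hff g hg⟩
  have heq : Ka = Kf := Subgroup.eq_of_le_of_card_ge hle (by rw [cKa, cKf])
  have hfa : ∀ g ∈ K, g f = f → g a = a := by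
    intro g hg hgf
    have : g ∈ Ka := by rw [heq]; exact ⟨hg, hgf⟩
    exact this.2
  -- more points
  have horb : orb K a = DD := by
    apply Finset.eq_of_subset_of_card_le _ (by rw [h12, card_DD])
    intro y hy
    obtain ⟨k, hk, rfl⟩ := mem_orb.1 hy
    exact DD_inv hK k hk a ha'.1
  obtain ⟨a1, ha1D, ha1⟩ := exists_DD_notMem {a} (by simp)
  have c2 : ({a1, a} : Finset GolayPt).card = 2 := Finset.card_insert_of_notMem ha1
  obtain ⟨a2, ha2D, ha2⟩ := exists_DD_notMem {a1, a} (by rw [c2]; norm_num)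
  obtain ⟨k1, hk1, hk1a⟩ := mem_orb.1 (horb ▸ ha1D)
  obtain ⟨k2, hk2, hk2a⟩ := mem_orb.1 (horb ▸ ha2D)
  simp only [Finset.mem_insert, Finset.mem_singleton, not_or] at ha1 ha2
  have hfixk : ∀ k ∈ K, ∀ g ∈ K, g (k a) = k a → g (k f) = k f := by
    intro k hk g hg h
    have h1 : k⁻¹ * g * k ∈ Ka := by
      refine ⟨K.mul_mem (K.mul_mem (K.inv_mem hk) hg) hk, ?_⟩
      show (k⁻¹ * g * k) a = a
      rw [Equiv.Perm.mul_apply, Equiv.Perm.mul_apply, h]
      simp
    have h2 := hff _ h1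
    rw [Equiv.Perm.mul_apply, Equiv.Perm.mul_apply, Equiv.Perm.inv_eq_iff_eq] at h2
    exact h2
  have hf1 : k1 f ≠ f := fun h => ha1 (by rw [← hk1a]; exact hfa k1 hk1 h)
  have hf2 : k2 f ≠ f := fun h => ha2.2 (by rw [← hk2a]; exact hfa k2 hk2 h)
  have hf12 : k2 f ≠ k1 f := by
    intro h
    have h1 : (k1⁻¹ * k2) f = f := by rw [Equiv.Perm.mul_apply, h]; simp
    have h2 := hfa _ (K.mul_mem (K.inv_mem hk1) hk2) h1
    rw [Equiv.Perm.mul_apply, Equiv.Perm.inv_eq_iff_eq, hk2a, hk1a] at h2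
    exact ha2.1 h2
  have hk1D : k1 f ∈ DC := DC_inv hK k1 hk1 f hfD
  have hk2D : k2 f ∈ DC := DC_inv hK k2 hk2 f hfD
  -- stabiliser of a, a1
  have F1 : Fixes Ka {a} := by simpa using (fixes_empty K).step a
  obtain ⟨r, hr1, hr2, -, hr4⟩ := orb_mod' (DD_inv hKaD) ha1D
    (Finset.singleton_subset_iff.2 ha'.1) F1 (by simpa using ha1) hz'K 11 hz'o
  have hpos := orb_card_pos Ka a1
  rw [hz'1.1, Finset.card_singleton] at hr2
  rw [Finset.card_singleton, card_DD] at hr4
  have h11 : (orb Ka a1).card = 11 := by omega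
  set K2 := Ka ⊓ stabilizer (Equiv.Perm GolayPt) a1 with hK2
  have cK2 : Nat.card K2 = 60 := by
    have : Nat.card Ka = (orb Ka a1).card * Nat.card K2 := card_orb Ka a1
    rw [cKa, h11] at this
    omega
  have hK2D : K2 ≤ fixer D0 := inf_le_left.trans hKaD
  have F2 : Fixes K2 {a1, a} := F1.step a1
  obtain ⟨w, hwK, hwo⟩ := exists_orderOf K2 5 (by rw [cK2]; norm_num)
  have hw1 := fix5 (hK2D hwK) hwo
  obtain ⟨r, hr1, hr2, -, hr4⟩ := orb_mod' (DD_inv hK2D) ha2D
    (by intro x hx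
        simp only [Finset.mem_insert, Finset.mem_singleton] at hx
        rcases hx with rfl | rfl
        · exact ha1D
        · exact ha'.1) F2
    (by simp only [Finset.mem_insert, Finset.mem_singleton, not_or]; exact ha2) hwK 5 hwo
  have hpos := orb_card_pos K2 a2
  rw [hw1.1, c2] at hr2
  rw [c2, card_DD] at hr4
  have h510 : (orb K2 a2).card = 5 ∨ (orb K2 a2).card = 10 := by omega
  set K3 := K2 ⊓ stabilizer (Equiv.Perm GolayPt) a2 with hK3
  have cK3 : Nat.card K3 = 12 ∨ Nat.card K3 = 6 := by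
    have : Nat.card K2 = (orb K2 a2).card * Nat.card K3 := card_orb K2 a2
    rw [cK2] at this
    rcases h510 with h | h <;> rw [h] at this <;> omega
  have h3 : 3 ∣ Nat.card K3 := by rcases cK3 with h | h <;> rw [h] <;> norm_num
  have h2 : 2 ∣ Nat.card K3 := by rcases cK3 with h | h <;> rw [h] <;> norm_num
  obtain ⟨u, huK, huo⟩ := exists_orderOf K3 3 h3
  obtain ⟨t, htK, hto⟩ := exists_orderOf K3 2 h2
  have hne : ∀ {x y : GolayPt}, x ∈ DD → y ∈ DC → x ≠ y := by
    intro x y hx hy h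
    exact (mem_DC_iff.1 hy) (h ▸ hx)
  have hE : ({a2, a1, a, k2 f, k1 f, f} : Finset GolayPt).card = 6 := by
    rw [Finset.card_insert_of_notMem, Finset.card_insert_of_notMem, Finset.card_insert_of_notMem,
      Finset.card_insert_of_notMem, Finset.card_insert_of_notMem, Finset.card_singleton]
    · simpa using hf1
    · simp only [Finset.mem_insert, Finset.mem_singleton, not_or]
      exact ⟨hf12, hf2⟩
    · simp only [Finset.mem_insert, Finset.mem_singleton, not_or]
      exact ⟨hne ha'.1 hk2D, hne ha'.1 hk1D, hne ha'.1 hfD⟩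
    · simp only [Finset.mem_insert, Finset.mem_singleton, not_or]
      exact ⟨ha1, hne ha1D hk2D, hne ha1D hk1D, hne ha1D hfD⟩
    · simp only [Finset.mem_insert, Finset.mem_singleton, not_or]
      exact ⟨ha2.1, ha2.2, hne ha2D hk2D, hne ha2D hk1D, hne ha2D hfD⟩
  have hfixE : ∀ g ∈ K3, ∀ x ∈ ({a2, a1, a, k2 f, k1 f, f} : Finset GolayPt), g x = x := by
    intro g hg x hx
    have g2 : g a2 = a2 := hg.2
    have g1 : g a1 = a1 := hg.1.2
    have g0 : g a = a := hg.1.1.2
    have gK : g ∈ K := hg.1.1.1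
    simp only [Finset.mem_insert, Finset.mem_singleton] at hx
    rcases hx with rfl | rfl | rfl | rfl | rfl | rfl
    · exact g2
    · exact g1
    · exact g0
    · exact hfixk k2 hk2 g gK (by rw [hk2a]; exact g2)
    · exact hfixk k1 hk1 g gK (by rw [hk1a]; exact g1)
    · exact hff g hg.1.1
  have hK3M : K3 ≤ M24 := (inf_le_left.trans hK2D).trans (fixer_le_M24 D0)
  rcases six_points' _ hE with h | h
  · have := orderOf_dvd_of_pow_eq_one (h u (hK3M huK) (hfixE u huK))
    rw [huo] at this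
    norm_num at this
  · have := orderOf_dvd_of_pow_eq_one (h t (hK3M htK) (hfixE t htK))
    rw [hto] at this
    norm_num at this

theorem fixer_D1_le : fixer D1 ≤ fixer D0 := fixer_cons_le D0 (2 ^ 0)

theorem claimA_M11_b (K : Subgroup (Equiv.Perm GolayPt)) (hK : K ≤ fixer D1)
    (hc : Nat.card K = 660) : ∃ q ∈ DC, ∀ g ∈ K, g q = q :=
  fixes_DC_of_660 K (hK.trans fixer_D1_le) hc (a := pt 0) (by decide +kernel)
    (fun _ hg => fixer_fix (hK hg) (i := 0) (by norm_num) (by simp [D1]))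

theorem claimA_M11_a (K : Subgroup (Equiv.Perm GolayPt)) (hK : K ≤ fixer D1)
    (hc : Nat.card K = 720) : ∃ q ∈ DD, q ≠ pt 0 ∧ ∀ g ∈ K, g q = q := by
  haveI : Fact (Nat.Prime 5) := ⟨by norm_num⟩
  have hKD : K ≤ fixer D0 := hK.trans fixer_D1_le
  have h0D : pt 0 ∈ DD := by decide +kernel
  have F1 : Fixes K {pt 0} := by
    intro g hg x hx
    rw [Finset.mem_singleton] at hx
    subst hx
    exact fixer_fix (hK hg) (i := 0) (by norm_num) (by simp [D1])
  obtain ⟨w, hwK, hwo⟩ := exists_orderOf K 5 (by rw [hc]; norm_num)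
  have hw1 := (fix5 (hKD hwK) hwo).1
  obtain ⟨a, ha, hne⟩ := Finset.exists_mem_ne (s := DD.filter fun x => w x = x) (by omega) (pt 0)
  rw [Finset.mem_filter] at ha
  obtain ⟨r, hr1, hr2, hr3, hr4⟩ := orb_mod' (DD_inv hKD) ha.1
    (Finset.singleton_subset_iff.2 h0D) F1 (by simpa using hne) hwK 5 hwo
  have hr := hr3 ha.2
  have hco := card_orb K a
  rw [hw1, Finset.card_singleton] at hr2
  rw [Finset.card_singleton, card_DD] at hr4
  rw [hc] at hco
  have h1 : (orb K a).card = 1 := by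
    have hr1 : r = 1 := by omega
    subst hr1
    have hcases : (orb K a).card = 1 ∨ (orb K a).card = 6 ∨ (orb K a).card = 11 := by omega
    rcases hcases with h | h | h
    · exact h
    · exfalso
      have hsub : orb K a ⊆ DD := by
        intro y hy
        obtain ⟨k, hk, rfl⟩ := mem_orb.1 hy
        exact DD_inv hKD k hk a ha.1
      have hdis := orb_disjoint F1 (show a ∉ ({pt 0} : Finset GolayPt) by simpa using hne)
      set U := orb K a ∪ {pt 0} with hU
      have hUc : U.card = 7 := by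
        rw [hU, Finset.card_union_of_disjoint hdis, h, Finset.card_singleton]
      have hUD : U ⊆ DD := Finset.union_subset hsub (Finset.singleton_subset_iff.2 h0D)
      set R := DD \ U with hR
      have hRc : R.card = 5 := by
        rw [hR, Finset.card_sdiff_of_subset hUD, card_DD, hUc]
      have hUinv : ∀ g ∈ K, ∀ x ∈ U, g x ∈ U := by
        intro g hg x hx
        rcases Finset.mem_union.1 hx with hx | hx
        · exact Finset.mem_union_left _ (orb_invariant hg x hx)
        · rw [F1 g hg x hx]; exact Finset.mem_union_right _ hx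
      have hRinv : ∀ g ∈ K, ∀ x ∈ R, g x ∈ R := by
        intro g hg x hx
        rw [hR, Finset.mem_sdiff] at hx ⊢
        refine ⟨DD_inv hKD g hg x hx.1, fun hgx => hx.2 ?_⟩
        have := hUinv g⁻¹ (K.inv_mem hg) _ hgx
        simpa using this
      have hfaith : ∀ g ∈ K, (∀ x ∈ R, g x = x) → g = 1 := by
        intro g hg hfix
        let e : Fin 5 ≃ R := (Finset.equivFinOfCardEq hRc).symm
        let x : Fin 5 ↪ GolayPt :=
          ⟨fun i => (e i : GolayPt), fun i j h => e.injective (Subtype.ext h)⟩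
        exact eq_one_of_fix_dodecad_five DD_mem x
          (fun i => (Finset.mem_sdiff.1 (e i).2).1) (hKD hg).1 ((hKD hg).2 _ (by simp [D0]))
          (fun i => hfix _ (e i).2)
      have := card_dvd_factorial_of_faithful K R hRinv hfaith
      rw [hc, hRc] at this
      revert this
      decide
    · rw [h] at hco
      omega
  exact ⟨a, ha.1, hne, fixes_of_orb_card_eq_one h1⟩

end Cfsg.Agent.Lib.Helper7
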