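import Cfsg.Agent.Lib.Helper7.OutM22a
import Cfsg.Agent.Lib.Helper27.DFlag

/-!
# Facts on the dodecad stabiliser used for its automorphism group
-/

set_option autoImplicit false
set_option linter.style.haveILetI false

namespace Cfsg.Agent.Lib.Helper7

open Cfsg Cfsg.Agent.Lib.Helper27 MulAction
open scoped Pointwise

/-- the size of an orbit modulo `p`, inside an invariant set `U` -/
theorem orb_mod' {H : Subgroup (Equiv.Perm GolayPt)} {q : GolayPt} {U F : Finset GolayPt}
    (hU : ∀ g ∈ H, ∀ x ∈ U, g x ∈ U) (hqU : q ∈ U) (hFU : F ⊆ U)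
    (hF : Fixes H F) (hq : q ∉ F) {g : Equiv.Perm GolayPt} (hg : g ∈ H) (p : ℕ)
    [Fact p.Prime] (hgp : orderOf g = p) :
    ∃ r, (orb H q).card % p = r % p ∧ r + F.card ≤ (U.filter fun x => g x = x).card ∧
      (g q = q → 1 ≤ r) ∧ (orb H q).card + F.card ≤ U.card := by
  have hsub : orb H q ⊆ U := by
    intro y hy
    obtain ⟨k, hk, rfl⟩ := mem_orb.1 hy
    exact hU k hk q hqU
  refine ⟨((orb H q).filter fun x => g x = x).card,
    card_modEq_fixed g p (by rw [← hgp]; exact pow_orderOf_eq_one g) _ (orb_invariant hg), ?_, ?_, ?_⟩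
  · have hd : Disjoint ((orb H q).filter fun x => g x = x) F :=
      Finset.disjoint_of_subset_left (Finset.filter_subset _ _) (orb_disjoint hF hq)
    rw [← Finset.card_union_of_disjoint hd]
    apply Finset.card_le_card
    intro x hx
    rcases Finset.mem_union.1 hx with h | h
    · exact Finset.mem_filter.2 ⟨hsub (Finset.mem_filter.1 h).1, (Finset.mem_filter.1 h).2⟩
    · exact Finset.mem_filter.2 ⟨hFU h, hF g hg x h⟩
  · intro h
    exact Finset.card_pos.2 ⟨q, Finset.mem_filter.2 ⟨self_mem_orb H q, h⟩⟩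
  · rw [← Finset.card_union_of_disjoint (orb_disjoint hF hq)]
    exact Finset.card_le_card (Finset.union_subset hsub hFU)

/-- the standard dodecad and its complement -/
abbrev DD : Finset GolayPt := unmask 340831
abbrev DC : Finset GolayPt := unmask 16436384

theorem card_DD : DD.card = 12 := by rw [card_unmask]; decide +kernel
theorem card_DC : DC.card = 12 := by rw [card_unmask]; decide +kernel

theorem mem_DC_iff {x : GolayPt} : x ∈ DC ↔ x ∉ DD := by
  revert x; decide +kernel

theorem dcinv0 : IsInv D0 16436384 := (isInv_full D0).xor dinv0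

theorem DD_inv {H : Subgroup (Equiv.Perm GolayPt)} (hH : H ≤ fixer D0) :
    ∀ g ∈ H, ∀ x ∈ DD, g x ∈ DD := fun _ hg _ hx => dinv0.apply_mem hx (hH hg)

theorem DC_inv {H : Subgroup (Equiv.Perm GolayPt)} (hH : H ≤ fixer D0) :
    ∀ g ∈ H, ∀ x ∈ DC, g x ∈ DC := fun _ hg _ hx => dcinv0.apply_mem hx (hH hg)

theorem filter_le_fixedPts (U : Finset GolayPt) (g : Equiv.Perm GolayPt) :
    (U.filter fun x => g x = x).card ≤ (fixedPts g).card :=
  Finset.card_le_card fun _ hx => mem_fixedPts.2 (Finset.mem_filter.1 hx).2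

theorem filter_add_filter (g : Equiv.Perm GolayPt) :
    (DD.filter fun x => g x = x).card + (DC.filter fun x => g x = x).card = (fixedPts g).card := by
  rw [← Finset.card_union_of_disjoint]
  · congr 1
    ext x
    simp only [Finset.mem_union, Finset.mem_filter, mem_fixedPts]
    by_cases hx : x ∈ DD
    · simp [hx]
    · simp [hx, mem_DC_iff.2 hx]
  · rw [Finset.disjoint_left]
    intro x hx hx'
    exact (mem_DC_iff.1 (Finset.mem_filter.1 hx').1) (Finset.mem_filter.1 hx).1

/-- fixed points of an element of order 11 -/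
theorem fix11 {g : Equiv.Perm GolayPt} (hg : g ∈ fixer D0) (h : orderOf g = 11) :
    (DD.filter fun x => g x = x).card = 1 ∧ (DC.filter fun x => g x = x).card = 1 := by
  haveI : Fact (Nat.Prime 11) := ⟨by norm_num⟩
  have h1 := card_fixedPts_11 hg.1 h
  have hp : g ^ 11 = 1 := by rw [← h]; exact pow_orderOf_eq_one g
  have h2 := card_modEq_fixed g 11 hp DD (fun x hx => dinv0.apply_mem hx hg)
  have h3 := filter_add_filter g
  rw [card_DD] at h2
  unfold Nat.ModEq at h2
  omega

/-- fixed points of an element of order 5 -/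
theorem fix5 {g : Equiv.Perm GolayPt} (hg : g ∈ fixer D0) (h : orderOf g = 5) :
    (DD.filter fun x => g x = x).card = 2 ∧ (DC.filter fun x => g x = x).card = 2 := by
  haveI : Fact (Nat.Prime 5) := ⟨by norm_num⟩
  have h1 := card_fixedPts_5 hg.1 h
  have hp : g ^ 5 = 1 := by rw [← h]; exact pow_orderOf_eq_one g
  have h2 := card_modEq_fixed g 5 hp DD (fun x hx => dinv0.apply_mem hx hg)
  have h3 := filter_add_filter g
  rw [card_DD] at h2
  unfold Nat.ModEq at h2
  omega

/-- test for `fixer D2` : an involution has a fixed point outside the dodecad -/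
def chkD2 (w : List ℕ) : Bool :=
  bor (Bool.not (powIsOne w 2)) (bor (powIsOne w 1)
    (Bool.not (allBelow (fun i => bor (Nat.testBit 340831 i) (Bool.not (Nat.beq (wordEnt w i) i))) 24)))

theorem fixer_D2_invol {g : Equiv.Perm GolayPt} (hg : g ∈ fixer D2) (h2 : g ^ 2 = 1) (h1 : g ≠ 1) :
    ∃ c ∈ DC, g c = c := by
  obtain ⟨w, hw, hf⟩ := enum_D2.forall chkD2 (by decide +kernel) hg
  unfold chkD2 at hf
  rw [bor_eq, bor_eq, check_of_pow_eq_one hw h2] at hf
  simp only [Bool.not_true, Bool.false_or, Bool.or_eq_true] at hf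
  rcases hf with hf | hf
  · exact absurd (by simpa using pow_eq_one_of_check hw hf) h1
  · by_contra hcon
    push Not at hcon
    have : allBelow (fun i => bor (Nat.testBit 340831 i) (Bool.not (Nat.beq (wordEnt w i) i))) 24
        = true := by
      rw [allBelow_iff]
      intro k hk
      rw [bor_eq, Bool.or_eq_true]
      by_cases hkD : pt k ∈ DD
      · left
        have := (mem_unmask _ _).1 hkD
        rwa [idx_pt hk] at this
      · right
        have h3 := hcon (pt k) (mem_DC_iff.2 hkD)
        have h4 := hw (pt k)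
        rw [idx_pt hk] at h4
        rw [← h4]
        have h5 : idx (g (pt k)) ≠ k := by
          intro h6
          apply h3
          apply idx_injective
          rw [h6, idx_pt hk]
        have h7 : (idx (g (pt k))).beq k = false := by
          cases hb : (idx (g (pt k))).beq k with
          | false => rfl
          | true => exact absurd (Nat.eq_of_beq_eq_true hb) h5
        rw [h7]; rfl
    rw [this] at hf
    simp at hf

theorem DD_mem : DD ∈ dodecads := unmask_stdDodecad_mem

/-- an involution of the dodecad stabiliser with a fixed point on the dodecad has a fixed point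
outside -/
theorem invol_fix {t : Equiv.Perm GolayPt} (ht : t ∈ fixer D0) (ho : orderOf t = 2) {a : GolayPt}
    (ha : a ∈ DD) (hta : t a = a) : ∃ c ∈ DC, t c = c := by
  haveI : Fact (Nat.Prime 2) := ⟨by norm_num⟩
  have hp : t ^ 2 = 1 := by rw [← ho]; exact pow_orderOf_eq_one t
  have h2 := card_modEq_fixed t 2 hp DD (fun x hx => dinv0.apply_mem hx ht)
  rw [card_DD] at h2
  unfold Nat.ModEq at h2
  have hpos : a ∈ DD.filter fun x => t x = x := Finset.mem_filter.2 ⟨ha, hta⟩
  have hcard : 2 ≤ (DD.filter fun x => t x = x).card := by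
    have := Finset.card_pos.2 ⟨a, hpos⟩
    omega
  obtain ⟨a', ha', hne⟩ := Finset.exists_mem_ne (s := DD.filter fun x => t x = x) (by omega) a
  rw [Finset.mem_filter] at ha'
  obtain ⟨k, hk, hm⟩ := dflag2 DD_mem ha ha'.1 (Ne.symm hne)
  have hd : t • DD = DD := ht.2 _ (by simp [D0])
  have hmem : k * t * k⁻¹ ∈ fixer D2 := by
    apply hm.conj_mem_fixer hk ht.1
    intro s hs
    simp only [List.mem_cons, List.not_mem_nil, or_false] at hs
    rcases hs with rfl | rfl | rfl
    · rw [smul_singleton_iff]; exact ha'.2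
    · rw [smul_singleton_iff]; exact hta
    · exact hd
  have hkd : k • DD = DD := by
    have h' := hm
    simp only [D2, D1, D0, maps_cons] at h'
    exact h'.2.2.1
  obtain ⟨c, hc, hfix⟩ := fixer_D2_invol hmem (by rw [conj_pow, hp]; simp) (by
    intro h
    have h3 : t = 1 := by
      have := congrArg (fun s => k⁻¹ * s * k) h
      simpa [mul_assoc] using this
    rw [h3, orderOf_one] at ho
    omega)
  refine ⟨k⁻¹ c, ?_, ?_⟩
  · rw [mem_DC_iff] at hc ⊢
    intro h
    apply hc
    rw [← hkd]
    have := Finset.smul_mem_smul_finset (a := k) h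
    simpa using this
  · have := congrArg (fun x => k⁻¹ x) hfix
    simpa [Equiv.Perm.mul_apply] using this

/-- test for `fixer L5` : an element fixing a sixth point of the octad is an involution -/
def chkL5 (w : List ℕ) : Bool :=
  bor (allBelow (fun i => bor (Bool.not (Nat.testBit 147488 i)) (Bool.not (Nat.beq (wordEnt w i) i))) 24)
    (powIsOne w 2)

theorem fixer_L5_sq {g : Equiv.Perm GolayPt} (hg : g ∈ fixer L5) {p : GolayPt}
    (hp : p ∈ unmask 147488) (hgp : g p = p) : g ^ 2 = 1 := by
  obtain ⟨w, hw, hf⟩ := enum_L5.forall chkL5 (by decide +kernel) hg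
  unfold chkL5 at hf
  rw [bor_eq, Bool.or_eq_true] at hf
  rcases hf with hf | hf
  · exfalso
    rw [allBelow_iff] at hf
    have := hf _ (idx_lt p)
    rw [← hw p, hgp, (mem_unmask _ _).1 hp] at this
    simp at this
  · exact pow_eq_one_of_check hw hf

/-- the pointwise stabiliser of six points has exponent 2 or 3 -/
theorem six_points (x : Fin 5 ↪ GolayPt) {y : GolayPt} (hy : ∀ i, y ≠ x i) :
    (∀ g ∈ M24, (∀ i, g (x i) = x i) → g y = y → g ^ 2 = 1) ∨
    (∀ g ∈ M24, (∀ i, g (x i) = x i) → g y = y → g ^ 3 = 1) := by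
  obtain ⟨k, hk, hkx⟩ := std5' x
  have hpow : ∀ (c g : Equiv.Perm GolayPt) (n : ℕ), (c * g * c⁻¹) ^ n = 1 → g ^ n = 1 := by
    intro c g n hn
    rw [conj_pow] at hn
    have := congrArg (fun t => c⁻¹ * t * c) hn
    simpa [mul_assoc] using this
  have hfix : ∀ (c g : Equiv.Perm GolayPt) p, g p = p → (c * g * c⁻¹) (c p) = c p := by
    intro c g p hp
    simp [Equiv.Perm.mul_apply, hp]
  have hky : k y ∈ unmask 8241104 ∨ k y ∈ unmask 147488 := by
    have h2 : ∀ p : GolayPt, (∀ i, p ≠ stdTuple i) → p ∈ unmask 8241104 ∨ p ∈ unmask 147488 := by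
      decide +kernel
    apply h2
    intro i hi
    rw [← hkx i] at hi
    exact hy i (k.injective hi)
  have hL5 : ∀ (c : Equiv.Perm GolayPt), c ∈ M24 → (∀ i, c (x i) = stdTuple i) → ∀ g ∈ M24,
      (∀ i, g (x i) = x i) → ∀ b ∈ [3, 2, 1, 0, 23], b < 24 ∧ (c * g * c⁻¹) (pt b) = pt b := by
    intro c _ hcx g _ hgx b hb
    simp only [List.mem_cons, List.not_mem_nil, or_false] at hb
    rcases hb with rfl | rfl | rfl | rfl | rfl
    · exact ⟨by norm_num, by have := hfix c g _ (hgx 4); rwa [hcx 4] at this⟩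
    · exact ⟨by norm_num, by have := hfix c g _ (hgx 3); rwa [hcx 3] at this⟩
    · exact ⟨by norm_num, by have := hfix c g _ (hgx 2); rwa [hcx 2] at this⟩
    · exact ⟨by norm_num, by have := hfix c g _ (hgx 1); rwa [hcx 1] at this⟩
    · exact ⟨by norm_num, by have := hfix c g _ (hgx 0); rwa [hcx 0] at this⟩
  rcases hky with hky | hky
  · right
    obtain ⟨m, hm, hmy⟩ := exists_to_base trans5 hky
    set c := m * k with hc
    have hcM : c ∈ M24 := M24.mul_mem hm.1 hk
    have hcx : ∀ i, c (x i) = stdTuple i := by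
      intro i
      rw [hc, Equiv.Perm.mul_apply, hkx i]
      have h23 := fixer_fix hm (i := 23) (by norm_num) (by simp [L5])
      have h0 := fixer_fix hm (i := 0) (by norm_num) (by simp [L5])
      have h1 := fixer_fix hm (i := 1) (by norm_num) (by simp [L5])
      have h2 := fixer_fix hm (i := 2) (by norm_num) (by simp [L5])
      have h3 := fixer_fix hm (i := 3) (by norm_num) (by simp [L5])
      fin_cases i
      · exact h23
      · exact h0
      · exact h1
      · exact h2
      · exact h3
    have hcy : c y = pt 4 := by rw [hc, Equiv.Perm.mul_apply, hmy]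
    intro g hg hgx hgy
    apply hpow c
    have hmem : c * g * c⁻¹ ∈ fixer L6 := by
      apply mem_fixer_of_pts (M24.mul_mem (M24.mul_mem hcM hg) (M24.inv_mem hcM)) [4, 3, 2, 1, 0, 23]
      intro b hb
      rcases List.mem_cons.1 hb with rfl | hb
      · exact ⟨by norm_num, by rw [← hcy]; exact hfix c g y hgy⟩
      · exact hL5 c hcM hcx g hg hgx b hb
    have := pow_card_eq_one' (G := fixer L6) (x := ⟨_, hmem⟩)
    rw [card_fixer_L6] at this
    exact congrArg Subtype.val this
  · left
    intro g hg hgx hgy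
    apply hpow k
    have hmem : k * g * k⁻¹ ∈ fixer L5 :=
      mem_fixer_of_pts (M24.mul_mem (M24.mul_mem hk hg) (M24.inv_mem hk)) [3, 2, 1, 0, 23]
        (hL5 k hk hkx g hg hgx)
    exact fixer_L5_sq hmem hky (hfix k g y hgy)

end Cfsg.Agent.Lib.Helper7
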