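/-
Abstract simplicity criteria used for the Mathieu groups (helper7).
-/
import Mathlib

set_option autoImplicit false
set_option linter.style.haveILetI false

namespace Cfsg.Agent.Lib.Helper7

open Subgroup MulAction

variable {G : Type*} [Group G]

/-- If `p ∣ |N|` for a normal subgroup `N` and the Sylow `p`-subgroups of `G` have order `p`,
then every Sylow `p`-subgroup lies in `N`. -/
theorem sylow_le_of_normal_of_dvd [Finite G] (p : ℕ) [Fact p.Prime] (P : Sylow p G) (hP : Nat.card P = p)
    (N : Subgroup G) [N.Normal] (hN : p ∣ Nat.card N) : (P : Subgroup G) ≤ N := by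
  obtain ⟨x, hx⟩ := exists_prime_orderOf_dvd_card' (G := N) p hN
  have hx' : orderOf (x : G) = p := by rw [Subgroup.orderOf_coe]; exact hx
  have hpg : IsPGroup p (zpowers (x : G)) := by
    apply IsPGroup.of_card (n := 1)
    rw [Nat.card_zpowers, hx', pow_one]
  obtain ⟨Q, hQ⟩ := hpg.exists_le_sylow
  have hQc : Nat.card Q = p := by
    exact (Nat.card_congr (Sylow.equiv Q P).toEquiv).trans hP
  have hQe : zpowers (x : G) = Q := by
    apply Subgroup.eq_of_le_of_card_ge hQ
    rw [Nat.card_zpowers, hx']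
    exact hQc.le
  have hQN : (Q : Subgroup G) ≤ N := by
    rw [← hQe, zpowers_le]
    exact x.2
  obtain ⟨g, hg⟩ := MulAction.exists_smul_eq G Q P
  rw [← hg, Sylow.coe_subgroup_smul]
  intro y hy
  rw [Subgroup.mem_pointwise_smul_iff_inv_smul_mem] at hy
  have := hQN hy
  simp only [MulAut.smul_def, ← map_inv, MulAut.conj_apply, inv_inv] at this
  have h2 := ‹N.Normal›.conj_mem _ this g
  simpa [mul_assoc] using h2

/-- the Burnside step: if `N ⊴ G`, `P ≤ N` Sylow of order `p` in `G`, self-normalising in `N`, then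
there is `K ⊴ G`, `K ≤ N`, `p ∤ |K|`, `|N| = |K| * p`. -/
theorem exists_normal_complement_of_self_normalizing [Finite G] (p : ℕ) [Fact p.Prime] (P : Sylow p G)
    (hP : Nat.card P = p) (N : Subgroup G) [hNn : N.Normal] (hPN : (P : Subgroup G) ≤ N)
    (hself : N ⊓ normalizer (P : Set G) = P) :
    ∃ K : Subgroup G, K.Normal ∧ ¬ p ∣ Nat.card K ∧ Nat.card N = Nat.card K * p := by
  have hp : p.Prime := Fact.out
  set P' : Sylow p N := P.subtype hPN with hP'
  have hP'c : Nat.card P' = p := by
    rw [hP', Sylow.coe_subtype]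
    exact (Nat.card_congr (Subgroup.subgroupOfEquivOfLe hPN).toEquiv).trans hP
  have hcyc : IsCyclic P' := isCyclic_of_prime_card hP'c
  have hcomm : ∀ a ∈ (P' : Subgroup N), ∀ b ∈ (P' : Subgroup N), a * b = b * a := by
    intro a ha b hb
    have := hcyc.isMulCommutative.is_comm.comm ⟨a, ha⟩ ⟨b, hb⟩
    exact congrArg Subtype.val this
  have hmemP' : ∀ x : N, x ∈ (P' : Subgroup N) ↔ (x : G) ∈ (P : Subgroup G) := by
    intro x
    rw [hP', Sylow.coe_subtype, mem_subgroupOf]
  have hnc : normalizer (P' : Set N) ≤ centralizer (P' : Set N) := by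
    intro x hx
    have hx1 : (x : G) ∈ normalizer (P : Set G) := by
      have hx' : x ∈ normalizer ((P' : Subgroup N) : Set N) := hx
      rw [mem_normalizer_iff] at hx'
      change (x : G) ∈ normalizer ((P : Subgroup G) : Set G)
      rw [mem_normalizer_iff]
      intro h
      constructor
      · intro hh
        have := (hx' ⟨h, hPN hh⟩).1 ((hmemP' _).2 hh)
        exact (hmemP' _).1 this
      · intro hh
        have hhN : h ∈ N := by
          have h3 := hPN hh
          have h4 := N.mul_mem (N.mul_mem (N.inv_mem x.2) h3) x.2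
          simpa [mul_assoc] using h4
        have := (hx' ⟨h, hhN⟩).2 ((hmemP' _).2 hh)
        exact (hmemP' _).1 this
    have hx2 : (x : G) ∈ (P : Subgroup G) := by
      rw [← hself]; exact ⟨x.2, hx1⟩
    have hx3 : x ∈ (P' : Subgroup N) := (hmemP' x).2 hx2
    rw [mem_centralizer_iff]
    intro y hy
    exact hcomm y hy x hx3
  set K := (MonoidHom.transferSylow P' hnc).ker with hK
  have hKc : IsComplement' K P' := MonoidHom.ker_transferSylow_isComplement' P' hnc
  have hKnd : ¬ p ∣ Nat.card K := MonoidHom.not_dvd_card_ker_transferSylow P' hnc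
  have hcop : Nat.Coprime (Nat.card K) p := ((Nat.Prime.coprime_iff_not_dvd hp).2 hKnd).symm
  -- characterisation of K
  have hKchar : ∀ y : N, y ∈ K ↔ y ^ (Nat.card K) = 1 := by
    intro y
    constructor
    · intro hy
      have := pow_card_eq_one' (x := (⟨y, hy⟩ : K))
      exact congrArg Subtype.val this
    · intro hy
      rw [hK, MonoidHom.mem_ker]
      set t := MonoidHom.transferSylow P' hnc y with ht
      have h1 : t ^ (Nat.card K) = 1 := by rw [ht, ← map_pow, hy, map_one]
      have h2 : t ^ p = 1 := by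
        have := pow_card_eq_one' (x := t)
        rwa [hP'c] at this
      have h3 : orderOf t ∣ Nat.gcd (Nat.card K) p :=
        Nat.dvd_gcd (orderOf_dvd_of_pow_eq_one h1) (orderOf_dvd_of_pow_eq_one h2)
      rw [hcop, Nat.dvd_one, orderOf_eq_one_iff] at h3
      exact h3
  refine ⟨K.map N.subtype, ?_, ?_, ?_⟩
  · constructor
    intro n hn g
    rw [mem_map] at hn ⊢
    obtain ⟨y, hy, rfl⟩ := hn
    refine ⟨⟨g * y * g⁻¹, hNn.conj_mem _ y.2 g⟩, ?_, rfl⟩
    rw [hKchar] at hy ⊢
    apply Subtype.ext
    have hy' : (y : G) ^ (Nat.card K) = 1 := by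
      have := congrArg Subtype.val hy
      simpa using this
    simp only [SubmonoidClass.mk_pow, OneMemClass.coe_one, conj_pow, hy', mul_one, mul_inv_cancel]
  · rwa [Nat.card_congr (K.equivMapOfInjective N.subtype N.subtype_injective).symm.toEquiv]
  · rw [Nat.card_congr (K.equivMapOfInjective N.subtype N.subtype_injective).symm.toEquiv,
      ← hKc.card_mul_card, hP'c]

/-- **Simplicity criterion (Sylow/Frattini/Burnside).** -/
theorem isSimpleGroup_of_sylow_prime [Finite G] (p r : ℕ) [Fact p.Prime] (hr : r.Prime)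
    (P : Sylow p G) (hP : Nat.card P = p)
    (hN : ∀ N : Subgroup G, N.Normal → N ≠ ⊥ → p ∣ Nat.card N)
    (hnorm : Nat.card (normalizer (P : Set G)) = p * r)
    (hG : Nat.card G ≠ p * r) : IsSimpleGroup G := by
  have hp : p.Prime := Fact.out
  haveI : Nontrivial G := by
    by_contra h
    rw [not_nontrivial_iff_subsingleton] at h
    have : Nat.card P = 1 := Nat.card_eq_one_iff_unique.2 ⟨inferInstance, ⟨1⟩⟩
    rw [hP] at this
    exact hp.one_lt.ne' this
  refine ⟨fun N hNn => ?_⟩
  by_cases hbot : N = ⊥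
  · left; exact hbot
  right
  have hdvd := hN N hNn hbot
  have hPN : (P : Subgroup G) ≤ N := sylow_le_of_normal_of_dvd p P hP N hdvd
  have hfr : normalizer (P : Set G) ⊔ N = ⊤ := Sylow.normalizer_sup_eq_top' P hPN
  have hidx : N.index = N.relIndex (normalizer (P : Set G)) := by
    rw [← relIndex_top_right, ← hfr, relIndex_sup_right]
  set Nor := normalizer (P : Set G) with hNor
  have hPNor : (P : Subgroup G) ≤ Nor := le_normalizer
  have h1 : Nat.card (N ⊓ Nor : Subgroup G) * N.relIndex Nor = p * r := by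
    rw [← hnorm, ← inf_relIndex_right, ← relIndex_bot_left, ← relIndex_bot_left,
      relIndex_mul_relIndex _ _ _ bot_le inf_le_right]
  have h2 : p ∣ Nat.card (N ⊓ Nor : Subgroup G) := by
    have := Subgroup.card_dvd_of_le (le_inf hPN hPNor)
    rwa [hP] at this
  obtain ⟨s, hs⟩ := h2
  have h3 : s * N.relIndex Nor = r := by
    rw [hs, mul_assoc] at h1
    exact Nat.eq_of_mul_eq_mul_left hp.pos h1
  have h4 : s ∣ r := ⟨_, h3.symm⟩
  rcases (Nat.dvd_prime hr).1 h4 with hs1 | hsr
  · -- self-normalising case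
    exfalso
    have hself : N ⊓ Nor = P := by
      symm
      apply Subgroup.eq_of_le_of_card_ge (le_inf hPN hPNor)
      rw [hs, hs1, mul_one, hP]
    obtain ⟨K, hKn, hKnd, hKc⟩ := exists_normal_complement_of_self_normalizing p P hP N hPN hself
    have hKbot : K = ⊥ := by
      by_contra hK
      exact hKnd (hN K hKn hK)
    rw [hKbot, Subgroup.card_bot, one_mul] at hKc
    have hNP : (P : Subgroup G) = N := by
      apply Subgroup.eq_of_le_of_card_ge hPN
      rw [hKc, hP]
    have : Nor = ⊤ := by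
      rw [hNor]
      change normalizer ((P : Subgroup G) : Set G) = ⊤
      rw [hNP]
      exact normalizer_eq_top N
    apply hG
    rw [← hnorm, this, Subgroup.card_top]
  · rw [hsr] at h3
    have h5 : N.relIndex Nor = 1 := by
      have : r * N.relIndex Nor = r * 1 := by rw [h3, mul_one]
      exact Nat.eq_of_mul_eq_mul_left hr.pos this
    rw [← hidx, index_eq_one] at h5
    exact h5

/-- `G` acts on `Y`, `O ⊆ Y` is `G`-invariant and `G` is 2-transitive on `O` (in the form: the stabiliser
of `y` is transitive on `O \ {y}`).  A normal subgroup moving `y` is transitive on `O`. -/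
theorem orbit_normal_eq {Y : Type*} [MulAction G Y] (N : Subgroup G) [hN : N.Normal] (O : Set Y)
    (y : Y) (hy : y ∈ O) (hinv : ∀ g : G, ∀ z ∈ O, g • z ∈ O)
    (h2 : ∀ z ∈ O, z ≠ y → ∀ z' ∈ O, z' ≠ y → ∃ g : G, g • y = y ∧ g • z = z')
    (n : G) (hn : n ∈ N) (hny : n • y ≠ y) : MulAction.orbit N y = O := by
  apply Set.Subset.antisymm
  · rintro _ ⟨m, rfl⟩
    exact hinv m y hy
  · intro z hz
    by_cases hzy : z = y
    · rw [hzy]; exact MulAction.mem_orbit_self y
    · obtain ⟨g, hgy, hgz⟩ := h2 (n • y) (hinv n y hy) hny z hz hzy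
      refine ⟨⟨g * n * g⁻¹, hN.conj_mem n hn g⟩, ?_⟩
      change (g * n * g⁻¹) • y = z
      have : g⁻¹ • y = y := by rw [inv_smul_eq_iff, hgy]
      rw [mul_smul, mul_smul, this, hgz]

theorem card_dvd_of_orbit_eq [Finite G] {Y : Type*} [MulAction G Y] (N : Subgroup G) (O : Set Y) (y : Y)
    (h : MulAction.orbit N y = O) : O.ncard ∣ Nat.card N := by
  rw [← h, ← MulAction.index_stabilizer]
  exact Subgroup.index_dvd_card _

/-- a nontrivial normal subgroup of a group acting faithfully and transitively on `O` moves `y`. -/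
theorem exists_mem_normal_moving {Y : Type*} [MulAction G Y] (N : Subgroup G) [hN : N.Normal]
    (hNbot : N ≠ ⊥) (O : Set Y) (y : Y)
    (htrans : ∀ z ∈ O, ∃ g : G, g • y = z)
    (hfaith : ∀ g : G, (∀ z ∈ O, g • z = z) → g = 1) : ∃ n ∈ N, n • y ≠ y := by
  obtain ⟨⟨n, hn⟩, hn1⟩ := Subgroup.ne_bot_iff_exists_ne_one.1 hNbot
  have hn1' : n ≠ 1 := fun h => hn1 (Subtype.ext h)
  have : ∃ z ∈ O, n • z ≠ z := by
    by_contra hcon
    push Not at hcon
    exact hn1' (hfaith n hcon)
  obtain ⟨z, hz, hnz⟩ := this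
  obtain ⟨g, rfl⟩ := htrans z hz
  refine ⟨g⁻¹ * n * g, ?_, ?_⟩
  · have := hN.conj_mem n hn g⁻¹
    simpa using this
  · intro h
    apply hnz
    rw [mul_smul, mul_smul, inv_smul_eq_iff] at h
    exact h

/-- **Simplicity criterion**: 2-transitive, degree not a prime power, simple point stabiliser. -/
theorem isSimpleGroup_of_two_transitive [Finite G] {Y : Type*} [MulAction G Y] (O : Set Y)
    (y : Y) (hy : y ∈ O) (hinv : ∀ g : G, ∀ z ∈ O, g • z ∈ O)
    (htrans : ∀ z ∈ O, ∃ g : G, g • y = z)
    (h2 : ∀ z ∈ O, z ≠ y → ∀ z' ∈ O, z' ≠ y → ∃ g : G, g • y = y ∧ g • z = z')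
    (hfaith : ∀ g : G, (∀ z ∈ O, g • z = z) → g = 1)
    (hnpp : ¬ IsPrimePow O.ncard)
    (hsimple : IsSimpleGroup (stabilizer G y)) : IsSimpleGroup G := by
  have : Nontrivial G := by
    obtain ⟨a, b, hab⟩ := hsimple.toNontrivial
    exact ⟨a, b, fun h => hab (Subtype.ext h)⟩
  refine ⟨fun N hN => ?_⟩
  by_cases hbot : N = ⊥
  · left; exact hbot
  right
  obtain ⟨n, hn, hny⟩ := exists_mem_normal_moving N hbot O y htrans hfaith
  have horb := orbit_normal_eq N O y hy hinv h2 n hn hny
  set S := stabilizer G y with hS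
  have hNS : (N.subgroupOf S).Normal := inferInstance
  rcases hsimple.eq_bot_or_eq_top_of_normal _ hNS with h | h
  · exfalso
    rw [subgroupOf_eq_bot] at h
    have hdisj : ∀ a ∈ N, a • y = y → a = 1 := by
      intro a ha hay
      have : a ∈ N ⊓ S := ⟨ha, hay⟩
      rw [h.eq_bot] at this
      exact this
    -- all nonidentity elements conjugate
    have hconj : ∀ a ∈ N, a ≠ 1 → ∀ b ∈ N, b ≠ 1 → orderOf a = orderOf b := by
      intro a ha ha1 b hb hb1
      have hay : a • y ≠ y := fun h' => ha1 (hdisj a ha h')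
      have hby : b • y ≠ y := fun h' => hb1 (hdisj b hb h')
      obtain ⟨g, hgy, hg⟩ := h2 (a • y) (hinv a y hy) hay (b • y) (hinv b y hy) hby
      have hgy' : g⁻¹ • y = y := by rw [inv_smul_eq_iff, hgy]
      have h1 : b⁻¹ * (g * a * g⁻¹) = 1 := by
        apply hdisj
        · exact N.mul_mem (N.inv_mem hb) (hN.conj_mem a ha g)
        · rw [mul_smul, mul_smul, mul_smul, hgy', hg, inv_smul_smul]
      have h3 : b = g * a * g⁻¹ := by
        rw [inv_mul_eq_one] at h1; exact h1
      rw [h3]
      have := orderOf_injective (MulAut.conj g).toMonoidHom (MulAut.conj g).injective a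
      simpa using this.symm
    have hcard : Nat.card N = O.ncard := by
      have h1 := MulAction.index_stabilizer N y
      rw [horb] at h1
      have h2' : stabilizer N y = ⊥ := by
        rw [eq_bot_iff]
        intro a ha
        rw [mem_bot]
        apply Subtype.ext
        exact hdisj a a.2 ha
      rw [h2', index_bot] at h1
      exact h1
    have hN1 : Nat.card N ≠ 1 := by
      intro h1
      apply hbot
      exact Subgroup.card_eq_one.1 h1
    obtain ⟨p, hp, hpd⟩ := Nat.exists_prime_and_dvd hN1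
    haveI := Fact.mk hp
    obtain ⟨x, hx⟩ := exists_prime_orderOf_dvd_card' (G := N) p hpd
    have hx' : orderOf (x : G) = p := by rw [Subgroup.orderOf_coe]; exact hx
    have hx1 : (x : G) ≠ 1 := by
      intro h1
      rw [h1, orderOf_one] at hx'
      exact hp.one_lt.ne hx'
    have hpg : IsPGroup p N := by
      intro a
      refine ⟨1, ?_⟩
      by_cases ha : (a : G) = 1
      · have : a = 1 := Subtype.ext ha
        rw [this, one_pow]
      · have := hconj a a.2 ha x x.2 hx1
        rw [hx'] at this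
        apply Subtype.ext
        rw [pow_one]
        simp only [SubmonoidClass.coe_pow, OneMemClass.coe_one]
        rw [← this]
        exact pow_orderOf_eq_one _
    obtain ⟨k, hk⟩ := IsPGroup.iff_card.1 hpg
    apply hnpp
    rw [← hcard, hk]
    have hk0 : k ≠ 0 := by
      rintro rfl
      exact hN1 (by rw [hk, pow_zero])
    exact hp.isPrimePow.pow hk0
  · rw [subgroupOf_eq_top] at h
    rw [eq_top_iff]
    intro g _
    have : g • y ∈ orbit N y := by rw [horb]; exact hinv g y hy
    obtain ⟨m, hm⟩ := this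
    have h1 : (m : G)⁻¹ * g ∈ S := by
      rw [hS, mem_stabilizer_iff, mul_smul, inv_smul_eq_iff]
      exact hm.symm
    have h3 := N.mul_mem m.2 (h h1)
    simpa using h3

theorem card_normalizer_dvd [Finite G] (p : ℕ) [Fact p.Prime] (P : Sylow p G) (hP : Nat.card P = p) :
    Nat.card (normalizer (P : Set G)) ∣ Nat.card (centralizer (P : Set G)) * (p - 1) := by
  have hp : p.Prime := Fact.out
  have hcyc : IsCyclic P := isCyclic_of_prime_card hP
  have key := card_dvd_of_injective _ (QuotientGroup.kerLift_injective (P : Subgroup G).normalizerMonoidHom)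
  rw [normalizerMonoidHom_ker, ← index, ← relIndex, hcyc.card_mulAut, hP, Nat.totient_prime hp] at key
  have h1 : Nat.card (centralizer (P : Set G)) * (centralizer (P : Set G)).relIndex (normalizer (P : Set G))
      = Nat.card (normalizer (P : Set G)) := by
    rw [← relIndex_bot_left, ← relIndex_bot_left]
    exact relIndex_mul_relIndex _ _ _ bot_le (centralizer_le_normalizer _)
  rw [← h1]
  exact Nat.mul_dvd_mul_left _ key

/-- In a group acting faithfully on an invariant set `O` of prime size `p`, a Sylow `p`-subgroup of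
order `p` is self-centralising. -/
theorem centralizer_sylow_eq_of_prime_degree [Finite G] {Y : Type*} [MulAction G Y] (O : Set Y)
    (hinv : ∀ g : G, ∀ z ∈ O, g • z ∈ O)
    (hfaith : ∀ g : G, (∀ z ∈ O, g • z = z) → g = 1)
    (p : ℕ) [Fact p.Prime] (hO : O.ncard = p) (P : Sylow p G) (hP : Nat.card P = p) :
    centralizer (P : Set G) = P := by
  have hp : p.Prime := Fact.out
  have hOfin : O.Finite := Set.finite_of_ncard_pos (by rw [hO]; exact hp.pos)
  have hcyc : IsCyclic P := isCyclic_of_prime_card hP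
  have hcomm : ∀ a ∈ (P : Subgroup G), ∀ b ∈ (P : Subgroup G), a * b = b * a := by
    intro a ha b hb
    have := hcyc.isMulCommutative.is_comm.comm ⟨a, ha⟩ ⟨b, hb⟩
    exact congrArg Subtype.val this
  -- P moves some point of O
  have hPne : ∃ x ∈ (P : Subgroup G), x ≠ 1 := by
    by_contra hcon
    push Not at hcon
    have : (P : Subgroup G) = ⊥ := by
      rw [eq_bot_iff]; intro x hx; exact hcon x hx
    have h1 : Nat.card (P : Subgroup G) = 1 := by rw [this, Subgroup.card_bot]
    rw [hP] at h1
    exact hp.one_lt.ne' h1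
  obtain ⟨x, hxP, hx1⟩ := hPne
  have : ∃ y ∈ O, x • y ≠ y := by
    by_contra hcon
    push Not at hcon
    exact hx1 (hfaith x hcon)
  obtain ⟨y, hy, hxy⟩ := this
  have horb : orbit (P : Subgroup G) y = O := by
    have hsub : orbit (P : Subgroup G) y ⊆ O := by
      rintro _ ⟨m, rfl⟩
      exact hinv m y hy
    apply Set.eq_of_subset_of_ncard_le hsub _ hOfin
    rw [hO]
    have h1 := MulAction.index_stabilizer (P : Subgroup G) y
    have h2 : (stabilizer (P : Subgroup G) y).index ∣ p := by
      have := Subgroup.index_dvd_card (stabilizer (P : Subgroup G) y)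
      rwa [hP] at this
    rcases (Nat.dvd_prime hp).1 h2 with h3 | h3
    · exfalso
      rw [index_eq_one] at h3
      have : (⟨x, hxP⟩ : (P : Subgroup G)) ∈ stabilizer (P : Subgroup G) y := by rw [h3]; trivial
      exact hxy this
    · rw [← h1, h3]
  apply le_antisymm
  · intro c hc
    rw [mem_centralizer_iff] at hc
    have : c • y ∈ orbit (P : Subgroup G) y := by rw [horb]; exact hinv c y hy
    obtain ⟨u, hu⟩ := this
    have hu' : (u : G) • y = c • y := hu
    have h1 : (u : G)⁻¹ * c = 1 := by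
      apply hfaith
      intro z hz
      rw [← horb] at hz
      obtain ⟨v, rfl⟩ := hz
      change ((u : G)⁻¹ * c) • ((v : G) • y) = (v : G) • y
      have hcv : c * v = v * c := (hc v v.2).symm
      rw [← mul_smul, mul_assoc, hcv, mul_smul, mul_smul, ← hu', ← mul_smul, ← mul_smul,
        mul_assoc, hcomm v v.2 u u.2, inv_mul_cancel_left]
    rw [inv_mul_eq_one] at h1
    rw [← h1]; exact u.2
  · intro c hc
    rw [mem_centralizer_iff]
    intro h hh
    exact hcomm h hh c hc

theorem card_sylow_eq_prime [Finite G] (p : ℕ) [Fact p.Prime] (P : Sylow p G)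
    (h1 : p ∣ Nat.card G) (h2 : ¬ p ^ 2 ∣ Nat.card G) : Nat.card P = p := by
  have hp : p.Prime := Fact.out
  obtain ⟨k, hk⟩ := IsPGroup.iff_card.1 P.2
  have h3 : p ∣ Nat.card P := P.dvd_card_of_dvd_card h1
  have h4 : Nat.card P ∣ Nat.card G := Subgroup.card_subgroup_dvd_card _
  rcases k with _ | _ | k
  · rw [hk, pow_zero, Nat.dvd_one] at h3
    exact absurd h3 hp.one_lt.ne'
  · rw [hk]; simp
  · exfalso
    apply h2
    refine dvd_trans ?_ h4
    rw [hk]
    exact pow_dvd_pow p (by omega)

/-- general numeric determination of `|N_G(P)|` from a multiple `c` of `|C_G(P)|/p`. -/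
theorem card_normalizer_eq_of_numeric [Finite G] (p r c n : ℕ) [Fact p.Prime]
    (P : Sylow p G) (hP : Nat.card P = p) (hn : Nat.card G = n)
    (hc : Nat.card (centralizer (P : Set G)) ∣ p * c) (hc0 : c ≠ 0)
    (hnum : ∀ t ∈ Nat.divisors (c * (p - 1)), p * t ∣ n → (n / (p * t)) % p = 1 → t = r) :
    Nat.card (normalizer (P : Set G)) = p * r := by
  have hp : p.Prime := Fact.out
  have h1 := card_normalizer_dvd p P hP
  have h2 : Nat.card (normalizer (P : Set G)) ∣ p * (c * (p - 1)) := by
    refine h1.trans ?_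
    rw [← mul_assoc]
    exact Nat.mul_dvd_mul_right hc _
  have h3 : p ∣ Nat.card (normalizer (P : Set G)) := by
    have := Subgroup.card_dvd_of_le (le_normalizer (H := (P : Subgroup G)))
    rwa [hP] at this
  obtain ⟨t, ht⟩ := h3
  have h4 : t ∣ c * (p - 1) := by
    rw [ht] at h2
    exact Nat.dvd_of_mul_dvd_mul_left hp.pos h2
  have h5 : t ∈ Nat.divisors (c * (p - 1)) := by
    rw [Nat.mem_divisors]
    refine ⟨h4, Nat.mul_ne_zero hc0 ?_⟩
    have := hp.one_lt
    omega
  have h6 : p * t ∣ n := by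
    rw [← ht, ← hn]; exact Subgroup.card_subgroup_dvd_card _
  have h7 : (n / (p * t)) % p = 1 := by
    have h8 := card_sylow_modEq_one p G
    rw [Sylow.card_eq_index_normalizer P] at h8
    have h9 : (normalizer (P : Set G)).index = n / (p * t) := by
      have := Subgroup.card_mul_index (normalizer (P : Set G))
      rw [ht, hn] at this
      rw [← this, Nat.mul_div_cancel_left]
      rw [← ht]; exact Nat.card_pos
    rw [h9] at h8
    have : 1 % p = 1 := Nat.mod_eq_of_lt hp.one_lt
    rw [← this]; exact h8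
  rw [ht, hnum t h5 h6 h7]

/-- **Simplicity criterion, prime degree.** -/
theorem isSimpleGroup_of_prime_degree [Finite G] {Y : Type*} [MulAction G Y] (O : Set Y)
    (y : Y) (hy : y ∈ O) (hinv : ∀ g : G, ∀ z ∈ O, g • z ∈ O)
    (htrans : ∀ z ∈ O, ∃ g : G, g • y = z)
    (h2 : ∀ z ∈ O, z ≠ y → ∀ z' ∈ O, z' ≠ y → ∃ g : G, g • y = y ∧ g • z = z')
    (hfaith : ∀ g : G, (∀ z ∈ O, g • z = z) → g = 1)
    (p r n : ℕ) [Fact p.Prime] (hr : r.Prime) (hO : O.ncard = p) (hn : Nat.card G = n)
    (hpn : p ∣ n) (hpn2 : ¬ p ^ 2 ∣ n) (hnr : n ≠ p * r)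
    (hnum : ∀ t ∈ Nat.divisors (1 * (p - 1)), p * t ∣ n → (n / (p * t)) % p = 1 → t = r) :
    IsSimpleGroup G := by
  let P : Sylow p G := Classical.arbitrary _
  have hP : Nat.card P = p := card_sylow_eq_prime p P (hn ▸ hpn) (hn ▸ hpn2)
  have hC := centralizer_sylow_eq_of_prime_degree O hinv hfaith p hO P hP
  apply isSimpleGroup_of_sylow_prime p r hr P hP
  · intro N hN hbot
    obtain ⟨m, hm, hmy⟩ := exists_mem_normal_moving N hbot O y htrans hfaith
    have := card_dvd_of_orbit_eq N O y (orbit_normal_eq N O y hy hinv h2 m hm hmy)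
    rwa [hO] at this
  · apply card_normalizer_eq_of_numeric p r 1 n P hP hn _ one_ne_zero hnum
    rw [hC, hP, mul_one]
  · rw [hn]; exact hnr

end Cfsg.Agent.Lib.Helper7
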