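import Cfsg.Agent.Lib.Helper7.M24Fix
import Cfsg.Agent.Lib.Helper7.SimpleCrit

/-!
# Subgroups of index 24, 23, 22 in `M24`, `M23`, `M22` fix a point
-/

set_option autoImplicit false
set_option linter.style.haveILetI false

namespace Cfsg.Agent.Lib.Helper7

open Cfsg Cfsg.Agent.Lib.Helper27
open scoped Pointwise

/-- a group of order 40 has an element of order 10 -/
theorem exists_orderOf_ten {K : Type*} [Group K] [Finite K] (h : Nat.card K = 40) :
    ∃ x : K, orderOf x = 10 := by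
  haveI : Fact (Nat.Prime 5) := ⟨by norm_num⟩
  haveI : Fact (Nat.Prime 2) := ⟨by norm_num⟩
  let P : Sylow 5 K := default
  have hP : Nat.card P = 5 := card_sylow_eq_prime 5 P (by rw [h]; norm_num) (by rw [h]; norm_num)
  have h1 : Nat.card (Sylow 5 K) ≡ 1 [MOD 5] := card_sylow_modEq_one 5 K
  have hidx : (P : Subgroup K).index = 8 := by
    have := (P : Subgroup K).card_mul_index
    rw [hP, h] at this
    omega
  have h2 : Nat.card (Sylow 5 K) ∣ 8 := hidx ▸ P.card_dvd_index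
  have h3 : Nat.card (Sylow 5 K) = 1 := by
    have hle : Nat.card (Sylow 5 K) ≤ 8 := Nat.le_of_dvd (by norm_num) h2
    unfold Nat.ModEq at h1
    interval_cases (Nat.card (Sylow 5 K)) <;> simp_all
  have h4 : (Subgroup.normalizer (P : Set K)).index = 1 := by
    rw [← P.card_eq_index_normalizer]; exact h3
  have h5 : Nat.card (Subgroup.normalizer (P : Set K)) = 40 := by
    rw [Subgroup.index_eq_one] at h4
    rw [h4, Nat.card_congr Subgroup.topEquiv.toEquiv, h]
  have h6 := card_normalizer_dvd 5 P hP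
  rw [h5] at h6
  have h7 : 2 ∣ Nat.card (Subgroup.centralizer (P : Set K)) := by
    obtain ⟨c, hc⟩ := h6
    omega
  obtain ⟨s, hs⟩ := exists_prime_orderOf_dvd_card' (G := Subgroup.centralizer (P : Set K)) 2 h7
  obtain ⟨w, hw⟩ := exists_prime_orderOf_dvd_card' (G := (P : Subgroup K)) 5 (by rw [hP])
  have hs' : orderOf (s : K) = 2 := by rw [Subgroup.orderOf_coe]; exact hs
  have hw' : orderOf (w : K) = 5 := by rw [Subgroup.orderOf_coe]; exact hw
  have hcomm : Commute (s : K) (w : K) := by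
    have := Subgroup.mem_centralizer_iff.1 s.2 (w : K) w.2
    exact this.symm
  refine ⟨(s : K) * (w : K), ?_⟩
  rw [hcomm.orderOf_mul_eq_mul_orderOf_of_coprime (by rw [hs', hw']; norm_num), hs', hw']

/-- test for `fixer L4` -/
def chkL4 (w : List ℕ) : Bool := bor (powIsOne w 5) (powIsOne w 12)

theorem fixer_L4_pow {g : Equiv.Perm GolayPt} (hg : g ∈ fixer L4) : g ^ 5 = 1 ∨ g ^ 12 = 1 := by
  obtain ⟨w, hw, hf⟩ := enum_L4.forall chkL4 (by decide +kernel) hg
  unfold chkL4 at hf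
  rw [bor_eq, Bool.or_eq_true] at hf
  rcases hf with hf | hf
  · exact Or.inl (pow_eq_one_of_check hw hf)
  · exact Or.inr (pow_eq_one_of_check hw hf)

theorem pow_of_fix4 {g : Equiv.Perm GolayPt} (hg : g ∈ M24) {x1 x2 x3 x4 : GolayPt}
    (h12 : x1 ≠ x2) (h13 : x1 ≠ x3) (h14 : x1 ≠ x4) (h23 : x2 ≠ x3) (h24 : x2 ≠ x4)
    (h34 : x3 ≠ x4) (f1 : g x1 = x1) (f2 : g x2 = x2) (f3 : g x3 = x3) (f4 : g x4 = x4) :
    g ^ 5 = 1 ∨ g ^ 12 = 1 := by
  obtain ⟨c, hc, c1, c2, c3, c4⟩ := std4 h12 h13 h14 h23 h24 h34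
  have hfix : ∀ p, g p = p → (c * g * c⁻¹) (c p) = c p := by
    intro p hp
    simp [Equiv.Perm.mul_apply, hp]
  have hmem : c * g * c⁻¹ ∈ fixer L4 := by
    apply mem_fixer_of_pts (M24.mul_mem (M24.mul_mem hc hg) (M24.inv_mem hc)) [2, 1, 0, 23]
    intro b hb
    simp only [List.mem_cons, List.not_mem_nil, or_false] at hb
    rcases hb with rfl | rfl | rfl | rfl
    · exact ⟨by norm_num, by have := hfix _ f4; rwa [c4] at this⟩
    · exact ⟨by norm_num, by have := hfix _ f3; rwa [c3] at this⟩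
    · exact ⟨by norm_num, by have := hfix _ f2; rwa [c2] at this⟩
    · exact ⟨by norm_num, by have := hfix _ f1; rwa [c1] at this⟩
  have hpow : ∀ n : ℕ, (c * g * c⁻¹) ^ n = 1 → g ^ n = 1 := by
    intro n hn
    rw [conj_pow] at hn
    have := congrArg (fun t => c⁻¹ * t * c) hn
    simpa [mul_assoc] using this
  rcases fixer_L4_pow hmem with h | h
  · exact Or.inl (hpow 5 h)
  · exact Or.inr (hpow 12 h)

/-- `H` fixes `F` pointwise -/
def Fixes (H : Subgroup (Equiv.Perm GolayPt)) (F : Finset GolayPt) : Prop :=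
  ∀ g ∈ H, ∀ x ∈ F, g x = x

theorem Fixes.step {H : Subgroup (Equiv.Perm GolayPt)} {F : Finset GolayPt} (h : Fixes H F)
    (q : GolayPt) : Fixes (H ⊓ MulAction.stabilizer (Equiv.Perm GolayPt) q) (insert q F) := by
  intro g hg x hx
  rcases Finset.mem_insert.1 hx with rfl | hx
  · exact hg.2
  · exact h g hg.1 x hx

theorem fixes_empty (H : Subgroup (Equiv.Perm GolayPt)) : Fixes H ∅ := by
  intro g _ x hx
  simp at hx

theorem claimA_M24 (K : Subgroup (Equiv.Perm GolayPt)) (hK : K ≤ M24)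
    (hc : Nat.card K = 10200960) : ∃ q, ∀ g ∈ K, g q = q := by
  haveI : Fact (Nat.Prime 23) := ⟨by norm_num⟩
  haveI : Fact (Nat.Prime 11) := ⟨by norm_num⟩
  haveI : Fact (Nat.Prime 7) := ⟨by norm_num⟩
  haveI : Fact (Nat.Prime 5) := ⟨by norm_num⟩
  obtain ⟨x, hxK, hx⟩ := exists_orderOf K 23 (by rw [hc]; norm_num)
  have hx1 := card_fixedPts_23 (hK hxK) hx
  obtain ⟨q, hq⟩ := Finset.card_eq_one.1 hx1
  have hxq : x q = q := mem_fixedPts.1 (by rw [hq]; exact Finset.mem_singleton_self q)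
  have F0 := fixes_empty K
  obtain ⟨r, hr1, hr2, hr3⟩ := orb_mod F0 (Finset.notMem_empty q) hxK 23 hx
  have hle := orb_card_add_le F0 (Finset.notMem_empty q)
  have hpos := orb_card_pos K q
  have hr := hr3 hxq
  rw [hx1, Finset.card_empty] at hr2
  rw [Finset.card_empty] at hle
  have hcases : (orb K q).card = 1 ∨ (orb K q).card = 24 := by omega
  rcases hcases with h1 | h24
  · exact ⟨q, fixes_of_orb_card_eq_one h1⟩
  exfalso
  -- level 1
  set K1 := K ⊓ MulAction.stabilizer (Equiv.Perm GolayPt) q with hK1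
  have c1 : Nat.card K1 = 425040 := by
    have : Nat.card K = (orb K q).card * Nat.card K1 := card_orb K q
    rw [hc, h24] at this
    omega
  have F1 : Fixes K1 {q} := by simpa using F0.step q
  have hK1M : K1 ≤ M24 := inf_le_left.trans hK
  obtain ⟨q1, hq1⟩ := exists_notMem {q} (by simp)
  obtain ⟨x1, hx1K, hx1o⟩ := exists_orderOf K1 23 (by rw [c1]; norm_num)
  have hx1f := card_fixedPts_23 (hK1M hx1K) hx1o
  obtain ⟨r, hr1, hr2, -⟩ := orb_mod F1 hq1 hx1K 23 hx1o
  have hle := orb_card_add_le F1 hq1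
  have hpos := orb_card_pos K1 q1
  rw [hx1f, Finset.card_singleton] at hr2
  rw [Finset.card_singleton] at hle
  have h23 : (orb K1 q1).card = 23 := by omega
  -- level 2
  set K2 := K1 ⊓ MulAction.stabilizer (Equiv.Perm GolayPt) q1 with hK2
  have c2 : Nat.card K2 = 18480 := by
    have : Nat.card K1 = (orb K1 q1).card * Nat.card K2 := card_orb K1 q1
    rw [c1, h23] at this
    omega
  have F2 : Fixes K2 {q1, q} := F1.step q1
  have hF2c : ({q1, q} : Finset GolayPt).card = 2 := Finset.card_insert_of_notMem hq1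
  have hK2M : K2 ≤ M24 := inf_le_left.trans hK1M
  obtain ⟨q2, hq2⟩ := exists_notMem {q1, q} (by rw [hF2c]; norm_num)
  obtain ⟨z, hzK, hzo⟩ := exists_orderOf K2 11 (by rw [c2]; norm_num)
  obtain ⟨y, hyK, hyo⟩ := exists_orderOf K2 7 (by rw [c2]; norm_num)
  have hzf := card_fixedPts_11 (hK2M hzK) hzo
  have hyf := card_fixedPts_7 (hK2M hyK) hyo
  obtain ⟨r, hr1, hr2, -⟩ := orb_mod F2 hq2 hzK 11 hzo
  obtain ⟨r', hr1', hr2', -⟩ := orb_mod F2 hq2 hyK 7 hyo
  have hle := orb_card_add_le F2 hq2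
  have hpos := orb_card_pos K2 q2
  rw [hzf, hF2c] at hr2
  rw [hyf, hF2c] at hr2'
  rw [hF2c] at hle
  have h22 : (orb K2 q2).card = 22 := by omega
  -- level 3
  set K3 := K2 ⊓ MulAction.stabilizer (Equiv.Perm GolayPt) q2 with hK3
  have c3 : Nat.card K3 = 840 := by
    have : Nat.card K2 = (orb K2 q2).card * Nat.card K3 := card_orb K2 q2
    rw [c2, h22] at this
    omega
  have F3 : Fixes K3 {q2, q1, q} := F2.step q2
  have hF3c : ({q2, q1, q} : Finset GolayPt).card = 3 := by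
    rw [Finset.card_insert_of_notMem hq2, hF2c]
  have hK3M : K3 ≤ M24 := inf_le_left.trans hK2M
  obtain ⟨q3, hq3⟩ := exists_notMem {q2, q1, q} (by rw [hF3c]; norm_num)
  obtain ⟨z, hzK, hzo⟩ := exists_orderOf K3 7 (by rw [c3]; norm_num)
  obtain ⟨y, hyK, hyo⟩ := exists_orderOf K3 5 (by rw [c3]; norm_num)
  have hzf := card_fixedPts_7 (hK3M hzK) hzo
  have hyf := card_fixedPts_5 (hK3M hyK) hyo
  obtain ⟨r, hr1, hr2, -⟩ := orb_mod F3 hq3 hzK 7 hzo
  obtain ⟨r', hr1', hr2', -⟩ := orb_mod F3 hq3 hyK 5 hyo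
  have hle := orb_card_add_le F3 hq3
  have hpos := orb_card_pos K3 q3
  rw [hzf, hF3c] at hr2
  rw [hyf, hF3c] at hr2'
  rw [hF3c] at hle
  have h21 : (orb K3 q3).card = 21 := by
    have hr0 : r = 0 := by omega
    have hr' : r' ≤ 1 := by omega
    subst hr0
    interval_cases r' <;> omega
  -- level 4
  set K4 := K3 ⊓ MulAction.stabilizer (Equiv.Perm GolayPt) q3 with hK4
  have c4 : Nat.card K4 = 40 := by
    have : Nat.card K3 = (orb K3 q3).card * Nat.card K4 := card_orb K3 q3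
    rw [c3, h21] at this
    omega
  have F4 : Fixes K4 {q3, q2, q1, q} := F3.step q3
  have hK4M : K4 ≤ M24 := inf_le_left.trans hK3M
  obtain ⟨t, ht⟩ := exists_orderOf_ten c4
  have ht' : orderOf (t : Equiv.Perm GolayPt) = 10 := by rw [Subgroup.orderOf_coe]; exact ht
  simp only [Finset.mem_insert, Finset.mem_singleton, not_or] at hq1 hq2 hq3
  have := pow_of_fix4 (hK4M t.2) (x1 := q) (x2 := q1) (x3 := q2) (x4 := q3)
    (Ne.symm hq1) (Ne.symm hq2.2) (Ne.symm hq3.2.2) (Ne.symm hq2.1) (Ne.symm hq3.2.1)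
    (Ne.symm hq3.1) (F4 t t.2 q (by simp)) (F4 t t.2 q1 (by simp)) (F4 t t.2 q2 (by simp))
    (F4 t t.2 q3 (by simp))
  rcases this with h | h
  · have := orderOf_dvd_of_pow_eq_one h
    rw [ht'] at this
    norm_num at this
  · have := orderOf_dvd_of_pow_eq_one h
    rw [ht'] at this
    norm_num at this

end Cfsg.Agent.Lib.Helper7
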