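import Cfsg.Agent.Lib.Helper7.M24Gen
import Cfsg.Agent.Lib.Helper27.M12Order

/-!
# Explicit enumeration of small stabilisers in `M24`
-/

set_option autoImplicit false

namespace Cfsg.Agent.Lib.Helper7

open Cfsg Cfsg.Agent.Lib.Helper27
open scoped Pointwise

/-- every element of `fixer L` is the product of a word chosen from the transversals `Ts` -/
def Enum (L : List ℕ) (Ts : List (List ℕ)) : Prop :=
  ∀ g ∈ fixer L, ∃ w : List ℕ, List.Forall₂ (fun c T => c ∈ T) w Ts ∧
    (∀ c ∈ w, validCode c = true) ∧ g = (w.map permOf).prod

theorem enum_nil {L : List ℕ} (h : fixer L = ⊥) : Enum L [] := by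
  intro g hg
  rw [h, Subgroup.mem_bot] at hg
  exact ⟨[], List.Forall₂.nil, by simp, by simp [hg]⟩

/-- the set of images of the point of index `b` under the coded permutations of a list -/
def covMask (T : List ℕ) (b : ℕ) : ℕ :=
  List.rec 0 (fun u _ ih => Nat.lor ih (Nat.shiftLeft 1 (ent u b))) T

theorem covMask_cons (u : ℕ) (T : List ℕ) (b : ℕ) :
    covMask (u :: T) b = covMask T b ||| 1 <<< ent u b := rfl

theorem mem_covMask {T : List ℕ} {b : ℕ} {q : GolayPt} (h : q ∈ unmask (covMask T b)) :
    ∃ u ∈ T, ent u b = idx q := by
  induction T with
  | nil => simp [covMask] at h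
  | cons u T ih =>
    rw [covMask_cons] at h
    rcases (mem_unmask_or _ _ _).1 h with h | h
    · obtain ⟨v, hv, e⟩ := ih h
      exact ⟨v, List.mem_cons_of_mem _ hv, e⟩
    · refine ⟨u, List.mem_cons_self, ?_⟩
      rw [mem_unmask, Nat.shiftLeft_eq, one_mul, Nat.testBit_two_pow] at h
      simpa using h

theorem enum_cons {L : List ℕ} {b : ℕ} (hb : b < 24) {A : ℕ} (hinv : IsInv L A)
    (hbA : pt b ∈ unmask A) (T : List ℕ) (hT : allList (checkFix L) T = true)
    (hcov : Nat.beq (covMask T b) A = true) {Ts : List (List ℕ)} (h : Enum (2 ^ b :: L) Ts) :
    Enum L (T :: Ts) := by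
  intro g hg
  rw [allList_iff] at hT
  rw [Nat.beq_eq] at hcov
  have h1 : g (pt b) ∈ unmask (covMask T b) := by rw [hcov]; exact hinv.apply_mem hbA hg
  obtain ⟨u, hu, e⟩ := mem_covMask h1
  have hv := valid_of_checkFix (hT u hu)
  have hum := permOf_mem_fixer (hT u hu)
  have hub : permOf u (pt b) = g (pt b) := by
    rw [permOf_apply hv, idx_pt hb, e, pt_idx]
  have h2 : (permOf u)⁻¹ * g ∈ fixer (2 ^ b :: L) :=
    mem_fixer_cons.2 ⟨(fixer L).mul_mem ((fixer L).inv_mem hum) hg,
      (smul_unmask_two_pow hb _).2 (by rw [Equiv.Perm.mul_apply, ← hub]; simp)⟩
  obtain ⟨w, hw1, hw2, hw3⟩ := h _ h2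
  refine ⟨u :: w, List.Forall₂.cons hu hw1, ?_, ?_⟩
  · intro c hc
    rcases List.mem_cons.1 hc with rfl | hc
    · exact hv
    · exact hw2 c hc
  · rw [List.map_cons, List.prod_cons, ← hw3]; simp

/-- a test on all words chosen from the transversals -/
def allWords (Ts : List (List ℕ)) : (List ℕ → Bool) → Bool :=
  List.rec (fun f => f [])
    (fun T _ ih f => allList (fun u => ih (fun w => f (u :: w))) T) Ts

theorem allWords_cons (T : List ℕ) (Ts : List (List ℕ)) (f : List ℕ → Bool) :
    allWords (T :: Ts) f = allList (fun u => allWords Ts (fun w => f (u :: w))) T := rfl

theorem allWords_sound {Ts : List (List ℕ)} : ∀ {f : List ℕ → Bool}, allWords Ts f = true →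
    ∀ w, List.Forall₂ (fun c T => c ∈ T) w Ts → f w = true := by
  induction Ts with
  | nil =>
    intro f h w hw
    cases hw
    exact h
  | cons T Ts ih =>
    intro f h w hw
    cases hw with
    | cons hu hw' =>
      rw [allWords_cons, allList_iff] at h
      exact ih (h _ hu) _ hw'

theorem Enum.forall {L : List ℕ} {Ts : List (List ℕ)} (h : Enum L Ts) (f : List ℕ → Bool)
    (hf : allWords Ts f = true) {g : Equiv.Perm GolayPt} (hg : g ∈ fixer L) :
    ∃ w : List ℕ, (∀ p, idx (g p) = wordEnt w (idx p)) ∧ f w = true := by
  obtain ⟨w, h1, h2, h3⟩ := h g hg
  exact ⟨w, fun p => by rw [h3, idx_prod_apply w h2], allWords_sound hf w h1⟩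

/-- image of `i` under the `n`-th power of the word -/
def powEnt (w : List ℕ) (n i : ℕ) : ℕ := Nat.rec i (fun _ ih => wordEnt w ih) n

theorem idx_pow_apply {g : Equiv.Perm GolayPt} {w : List ℕ}
    (h : ∀ p, idx (g p) = wordEnt w (idx p)) (n : ℕ) (p : GolayPt) :
    idx ((g ^ n) p) = powEnt w n (idx p) := by
  induction n with
  | zero => rfl
  | succ n ih =>
    rw [pow_succ', Equiv.Perm.mul_apply, h, ih]; rfl

/-- test: the `n`-th power of the word is the identity -/
def powIsOne (w : List ℕ) (n : ℕ) : Bool := allBelow (fun i => Nat.beq (powEnt w n i) i) 24

theorem pow_eq_one_of_check {g : Equiv.Perm GolayPt} {w : List ℕ}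
    (h : ∀ p, idx (g p) = wordEnt w (idx p)) {n : ℕ} (hn : powIsOne w n = true) : g ^ n = 1 := by
  unfold powIsOne at hn
  rw [allBelow_iff] at hn
  ext1 p
  apply idx_injective
  rw [idx_pow_apply h]
  exact Nat.eq_of_beq_eq_true (hn _ (idx_lt p))

theorem check_of_pow_eq_one {g : Equiv.Perm GolayPt} {w : List ℕ}
    (h : ∀ p, idx (g p) = wordEnt w (idx p)) {n : ℕ} (hn : g ^ n = 1) : powIsOne w n = true := by
  unfold powIsOne
  rw [allBelow_iff]
  intro k hk
  rw [Nat.beq_eq]
  have := idx_pow_apply h n (pt k)
  rw [hn, Equiv.Perm.one_apply, idx_pt hk] at this
  exact this.symm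

def trT3 : List ℕ := [984818244535754528103549039458486304, 972476321493942079910474813049965600, 967530639539582366364133873171468320, 966155634858359805539746329776460832, 975406561123747288552440311597078560, 969015080308373757309675822459821088, 980133948749028174781587894629474336, 961358670443516651697868035760170016, 965219161586798110337964705797220384, 984126092599741147743526681981660192, 959522933773292140452050726931574816, 967880966286561948243515634160317472, 982046522967315729519014397581998112, 963498343182266507350262495519554592, 959452662374544167457683465559195680, 980459724700575699547816738017526816, 968857831455515482223705517320685600, 983058470513080432307814542365772832, 973770617325040361085197740537925664, 979583992404381547555516355153417248, 958477088544467643498036634743035936]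
def trT4 : List ℕ := [984818244535754528103549039458486304, 979619133005709257154361437362194464, 966384102809216433681153115633649696, 970254902120350598020240965873371168, 972848450169392308864318595955656736, 977010298980793550169193303303784480, 963871381879465904783683688082999328, 984404951986650291017642929327245344, 960109026615060493024835417615468576, 967779203209842851463853395925141536, 968697252811683421781902155001006112, 976783504883648070799297133914032160, 979442854793080100179745010390370336, 980551004395263757784158471683835936, 980659945285429986483690699286415392, 964083040844371759701753604295165984, 966681731796733630580524325936924704, 976865630986805563385016398415267872, 968952242540320471461323713846872096, 981557652331371326394331282385078304]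
def trT5 : List ℕ := [984818244535754528103549039458486304, 983141956895601025126892051911247904, 980504394422866046962412236452235296, 969836898326968551397880902883313696, 981515887986994088769278604842469408, 975754295934893126319599781779965984, 971592882964418941354553515258775584, 979416905286026856737440949975746592, 976448692869377735270425038196672544, 968918221426309407724683958819063840, 984436632068016323118584907140532256, 971863989228759034920585190470420512, 965225113279737155758354497310656544, 968621477650857569167789942210922528, 963515095949177277443875056653535264, 976909097487365034896521273070946336]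
def trT6 : List ℕ := [984818244535754528103549039458486304, 976531636853126291160407323722221600, 972606645568131968584696805283956768]
def trU2 : List ℕ := [984818244535754528103549039458486304, 601476417386228018602842719357766688, 470529933992166632105149051713982496, 968955966875123533138286166201145376, 430453108219618217566843317074862112, 837678392545899827948971991132939296, 807714449405945166513044159929528352, 816944171734179262531480324825232416, 320156788962093825746790291140132896, 466601443424084766756246236822620192]
def trU3 : List ℕ := [984818244535754528103549039458486304, 486073779993727295785104656607348768, 891385682027558266148352467872712736, 438084364835391119001047119775926304, 849414919297944031155053626894092320, 944569772236290697579231267829188640, 796025918939784314627536738561984544, 304382488815307602047787978285647904, 944538627742660781242037951888164896]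
def trU4 : List ℕ := [984818244535754528103549039458486304, 719923664328491199848526586197411872, 608405391266436187982588441666881568, 715872302521680643580706198532491296, 970499966350631336865513127433832480, 227578386318009578406903204956702752, 609271311764373893382231684089481248, 232652365823391711183829569059784736]

theorem enum_L6 : Enum L6 [trT6] :=
  enum_cons (b := 5) (by norm_num) inv6 (by decide +kernel) trT6 (by decide +kernel)
    (by decide +kernel) (enum_nil fixer_L7)

theorem enum_L5 : Enum L5 [trT5, trT6] :=
  enum_cons (b := 4) (by norm_num) inv5 (by decide +kernel) trT5 (by decide +kernel)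
    (by decide +kernel) enum_L6

theorem enum_L4 : Enum L4 [trT4, trT5, trT6] :=
  enum_cons (b := 3) (by norm_num) inv4 (by decide +kernel) trT4 (by decide +kernel)
    (by decide +kernel) enum_L5

theorem enum_D4 : Enum D4 [trU4] :=
  enum_cons (b := 4) (by norm_num) dinv4 (by decide +kernel) trU4 (by decide +kernel)
    (by decide +kernel) (enum_nil fixer_D5)

theorem enum_D3 : Enum D3 [trU3, trU4] :=
  enum_cons (b := 3) (by norm_num) dinv3 (by decide +kernel) trU3 (by decide +kernel)
    (by decide +kernel) enum_D4

theorem enum_D2 : Enum D2 [trU2, trU3, trU4] :=
  enum_cons (b := 2) (by norm_num) dinv2 (by decide +kernel) trU2 (by decide +kernel)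
    (by decide +kernel) enum_D3

end Cfsg.Agent.Lib.Helper7
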