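import Cfsg.Agent.Lib.Helper7.M24Enum
import Cfsg.Agent.Lib.Helper27.Trans
import Cfsg.Agent.Lib.Helper27.Steiner
import Cfsg.Agent.Lib.Helper27.Flag

/-!
# Fixed points of elements of `M24`, orbits of subgroups
-/

set_option autoImplicit false
set_option linter.style.haveILetI false

namespace Cfsg.Agent.Lib.Helper7

open Cfsg Cfsg.Agent.Lib.Helper27
open scoped Pointwise

/-- membership in a fixer of points -/
theorem mem_fixer_of_pts {g : Equiv.Perm GolayPt} (hg : g ∈ M24) (bs : List ℕ)
    (h : ∀ b ∈ bs, b < 24 ∧ g (pt b) = pt b) : g ∈ fixer (bs.map (2 ^ ·)) := by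
  refine ⟨hg, fun m hm => ?_⟩
  obtain ⟨b, hb, rfl⟩ := List.mem_map.1 hm
  exact (smul_unmask_two_pow (h b hb).1 g).2 (h b hb).2

/-- test for `fixer L6`: identity or no fixed point outside the six base points -/
def chkL6 (w : List ℕ) : Bool :=
  bor (powIsOne w 1)
    (allBelow (fun i => bor (Nat.testBit 8388639 i) (Bool.not (Nat.beq (wordEnt w i) i))) 24)

theorem fixer_L6_fpf {g : Equiv.Perm GolayPt} (hg : g ∈ fixer L6) :
    g = 1 ∨ ∀ z, z ∉ unmask 8388639 → g z ≠ z := by
  obtain ⟨w, hw, hf⟩ := enum_L6.forall chkL6 (by decide +kernel) hg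
  unfold chkL6 at hf
  rw [bor_eq, Bool.or_eq_true] at hf
  rcases hf with hf | hf
  · left
    simpa using pow_eq_one_of_check hw hf
  · right
    intro z hz hgz
    rw [allBelow_iff] at hf
    have := hf _ (idx_lt z)
    rw [bor_eq, Bool.or_eq_true] at this
    rcases this with h | h
    · exact hz ((mem_unmask _ _).2 h)
    · rw [← hw z, hgz] at h
      simp at h

/-- an element of `M24` fixing five points, a point outside their octad and a seventh point
is trivial -/
theorem eq_one_of_fix7 {g : Equiv.Perm GolayPt} (hg : g ∈ M24) (x : Fin 5 ↪ GolayPt)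
    (hx : ∀ i, g (x i) = x i) {o : Finset GolayPt} (ho : o ∈ octads) (hxo : ∀ i, x i ∈ o)
    {y z : GolayPt} (hy : y ∉ o) (hgy : g y = y) (hz : ∀ i, z ≠ x i) (hzy : z ≠ y)
    (hgz : g z = z) : g = 1 := by
  obtain ⟨k, hk, hkx⟩ := std5' x
  have hstd : unmask stdOctad ∈ octads := unmask_mem_octads (by decide +kernel) (by decide +kernel)
  have hko : k • o = unmask stdOctad := by
    apply octads_eq_of_inter (smul_mem_octads hk ho) hstd
    have hsub : unmask 8388623 ⊆ k • o ∩ unmask stdOctad := by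
      have hp : ∀ p : GolayPt, p ∈ unmask 8388623 → (∃ i, p = stdTuple i) ∧ p ∈ unmask stdOctad := by
        decide +kernel
      intro p hp'
      obtain ⟨⟨i, rfl⟩, h2⟩ := hp p hp'
      rw [Finset.mem_inter]
      refine ⟨?_, h2⟩
      rw [← hkx i]
      exact Finset.smul_mem_smul_finset (hxo i)
    calc 5 = (unmask 8388623).card := by rw [card_unmask]; decide +kernel
      _ ≤ _ := Finset.card_le_card hsub
  have hky : k y ∈ unmask 8241104 := by
    have h1 : k y ∉ unmask stdOctad := Maps.apply_not_mem hko hy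
    have h2 : ∀ p : GolayPt, p ∉ unmask stdOctad → p ∈ unmask 8241104 := by decide +kernel
    exact h2 _ h1
  obtain ⟨m, hm, hmy⟩ := exists_to_base trans5 hky
  set c := m * k with hc
  have hcM : c ∈ M24 := M24.mul_mem hm.1 hk
  have hcx : ∀ i, c (x i) = stdTuple i := by
    intro i
    rw [hc, Equiv.Perm.mul_apply, hkx i]
    have h23 := fixer_fix hm (i := 23) (by norm_num) (by simp [L5])
    have h0 := fixer_fix hm (i := 0) (by norm_num) (by simp [L5])
    have h1 := fixer_fix hm (i := 1) (by norm_num) (by simp [L5])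
    have h2 := fixer_fix hm (i := 2) (by norm_num) (by simp [L5])
    have h3 := fixer_fix hm (i := 3) (by norm_num) (by simp [L5])
    fin_cases i
    · exact h23
    · exact h0
    · exact h1
    · exact h2
    · exact h3
  have hcy : c y = pt 4 := by rw [hc, Equiv.Perm.mul_apply, hmy]
  have hfix : ∀ p, g p = p → (c * g * c⁻¹) (c p) = c p := by
    intro p hp
    simp [Equiv.Perm.mul_apply, hp]
  have hmem : c * g * c⁻¹ ∈ fixer L6 := by
    apply mem_fixer_of_pts (M24.mul_mem (M24.mul_mem hcM hg) (M24.inv_mem hcM)) [4, 3, 2, 1, 0, 23]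
    intro b hb
    simp only [List.mem_cons, List.not_mem_nil, or_false] at hb
    rcases hb with rfl | rfl | rfl | rfl | rfl | rfl
    · exact ⟨by norm_num, by rw [← hcy]; exact hfix y hgy⟩
    · exact ⟨by norm_num, by have := hfix _ (hx 4); rwa [hcx 4] at this⟩
    · exact ⟨by norm_num, by have := hfix _ (hx 3); rwa [hcx 3] at this⟩
    · exact ⟨by norm_num, by have := hfix _ (hx 2); rwa [hcx 2] at this⟩
    · exact ⟨by norm_num, by have := hfix _ (hx 1); rwa [hcx 1] at this⟩
    · exact ⟨by norm_num, by have := hfix _ (hx 0); rwa [hcx 0] at this⟩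
  rcases fixer_L6_fpf hmem with h | h
  · have h2 : c * g = c := by
      have := congrArg (· * c) h
      simpa using this
    exact mul_left_cancel (h2.trans (mul_one c).symm)
  · exfalso
    apply h (c z) _ (hfix z hgz)
    intro hcz
    have hp : ∀ p : GolayPt, p ∈ unmask 8388639 → (∃ i, p = stdTuple i) ∨ p = pt 4 := by
      decide +kernel
    rcases hp _ hcz with ⟨i, hi⟩ | hi
    · rw [← hcx i] at hi
      exact hz i (c.injective hi)
    · rw [← hcy] at hi
      exact hzy (c.injective hi)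

/-- the set of fixed points -/
def fixedPts (g : Equiv.Perm GolayPt) : Finset GolayPt := Finset.univ.filter fun x => g x = x

theorem mem_fixedPts {g : Equiv.Perm GolayPt} {x : GolayPt} : x ∈ fixedPts g ↔ g x = x := by
  simp [fixedPts]

theorem fixedPts_subset_octad {g : Equiv.Perm GolayPt} (hg : g ∈ M24) (h1 : g ≠ 1)
    (h7 : 7 ≤ (fixedPts g).card) : ∃ o ∈ octads, fixedPts g ⊆ o := by
  obtain ⟨t, hto, ht⟩ := Finset.exists_subset_card_eq (show 5 ≤ (fixedPts g).card by omega)
  let e : Fin 5 ≃ t := (Finset.equivFinOfCardEq ht).symm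
  let x : Fin 5 ↪ GolayPt := ⟨fun i => (e i : GolayPt), fun i j h => e.injective (Subtype.ext h)⟩
  obtain ⟨o, ho, hso⟩ := exists_octad t ht
  refine ⟨o, ho, fun y hy => ?_⟩
  by_contra hyo
  have hyt : y ∉ t := fun h => hyo (hso h)
  have hcard : (insert y t).card = 6 := by rw [Finset.card_insert_of_notMem hyt, ht]
  have : ∃ z ∈ fixedPts g, z ∉ insert y t := by
    by_contra hcon
    push Not at hcon
    have := Finset.card_le_card (fun z hz => hcon z hz : fixedPts g ⊆ insert y t)
    omega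
  obtain ⟨z, hz, hzn⟩ := this
  apply h1
  apply eq_one_of_fix7 hg x (fun i => mem_fixedPts.1 (hto (e i).2)) ho (fun i => hso (e i).2) hyo
    (mem_fixedPts.1 hy) (z := z) _ _ (mem_fixedPts.1 hz)
  · intro i hi
    apply hzn
    rw [hi]
    exact Finset.mem_insert_of_mem (e i).2
  · intro hi
    apply hzn
    rw [hi]
    exact Finset.mem_insert_self _ _

theorem card_fixedPts_le {g : Equiv.Perm GolayPt} (hg : g ∈ M24) (h1 : g ≠ 1) :
    (fixedPts g).card ≤ 8 := by
  by_contra hcon
  obtain ⟨o, ho, hs⟩ := fixedPts_subset_octad hg h1 (by omega)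
  have := Finset.card_le_card hs
  rw [ho.2] at this
  omega

theorem octad_of_fixed {g : Equiv.Perm GolayPt} (hg : g ∈ M24) (h1 : g ≠ 1) {s : Finset GolayPt}
    (hs : s.card = 8) (hfix : ∀ x ∈ s, g x = x) : s ∈ octads := by
  have hsub : s ⊆ fixedPts g := fun x hx => mem_fixedPts.2 (hfix x hx)
  have h8 := Finset.card_le_card hsub
  obtain ⟨o, ho, hso⟩ := fixedPts_subset_octad hg h1 (by omega)
  have : s = o := Finset.eq_of_subset_of_card_le (hsub.trans hso) (by rw [ho.2, hs])
  rw [this]; exact ho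

/-- fixed points modulo `p` on an invariant set -/
theorem card_modEq_fixed {α : Type*} [Fintype α] [DecidableEq α] (g : Equiv.Perm α) (p : ℕ)
    [Fact p.Prime] (hg : g ^ p = 1) (s : Finset α) (hs : ∀ x ∈ s, g x ∈ s) :
    s.card ≡ (s.filter fun x => g x = x).card [MOD p] := by
  let g' : Equiv.Perm {x // x ∈ s} := g.subtypePermOfFintype hs
  have hg' : g' ^ p ^ 1 = 1 := by
    rw [pow_one]
    ext1 x
    apply Subtype.ext
    have : ∀ n : ℕ, (((g' ^ n) x : {x // x ∈ s}) : α) = (g ^ n) x := by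
      intro n
      induction n with
      | zero => rfl
      | succ n ih =>
        rw [pow_succ', pow_succ', Equiv.Perm.mul_apply, Equiv.Perm.mul_apply, ← ih]
        rfl
    rw [this, hg]; rfl
  have h1 := Equiv.Perm.card_compl_support_modEq hg'
  rw [Fintype.card_coe] at h1
  refine h1.symm.trans ?_
  have : (g'.supportᶜ).card = (s.filter fun x => g x = x).card := by
    apply Finset.card_bij (fun (x : {x // x ∈ s}) _ => (x : α))
    · intro x hx
      rw [Finset.mem_compl, Equiv.Perm.mem_support, not_not] at hx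
      rw [Finset.mem_filter]
      exact ⟨x.2, congrArg Subtype.val hx⟩
    · intro a _ b _ h
      exact Subtype.ext h
    · intro b hb
      rw [Finset.mem_filter] at hb
      refine ⟨⟨b, hb.1⟩, ?_, rfl⟩
      rw [Finset.mem_compl, Equiv.Perm.mem_support, not_not]
      exact Subtype.ext hb.2
  rw [this]

theorem card_fixedPts_modEq (g : Equiv.Perm GolayPt) (p : ℕ) [Fact p.Prime] (hg : g ^ p = 1) :
    24 ≡ (fixedPts g).card [MOD p] := by
  have := card_modEq_fixed g p hg Finset.univ (fun _ _ => Finset.mem_univ _)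
  exact this

theorem ne_one_of_orderOf {g : Equiv.Perm GolayPt} {p : ℕ} (hp : 1 < p) (h : orderOf g = p) :
    g ≠ 1 := by
  rintro rfl
  rw [orderOf_one] at h
  omega

theorem card_fixedPts_23 {g : Equiv.Perm GolayPt} (hg : g ∈ M24) (h : orderOf g = 23) :
    (fixedPts g).card = 1 := by
  haveI : Fact (Nat.Prime 23) := ⟨by norm_num⟩
  have h1 := card_fixedPts_modEq g 23 (by rw [← h]; exact pow_orderOf_eq_one g)
  have h2 := card_fixedPts_le hg (ne_one_of_orderOf (by norm_num) h)
  unfold Nat.ModEq at h1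
  omega

theorem card_fixedPts_11 {g : Equiv.Perm GolayPt} (hg : g ∈ M24) (h : orderOf g = 11) :
    (fixedPts g).card = 2 := by
  haveI : Fact (Nat.Prime 11) := ⟨by norm_num⟩
  have h1 := card_fixedPts_modEq g 11 (by rw [← h]; exact pow_orderOf_eq_one g)
  have h2 := card_fixedPts_le hg (ne_one_of_orderOf (by norm_num) h)
  unfold Nat.ModEq at h1
  omega

theorem card_fixedPts_7 {g : Equiv.Perm GolayPt} (hg : g ∈ M24) (h : orderOf g = 7) :
    (fixedPts g).card = 3 := by
  haveI : Fact (Nat.Prime 7) := ⟨by norm_num⟩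
  have h1 := card_fixedPts_modEq g 7 (by rw [← h]; exact pow_orderOf_eq_one g)
  have h2 := card_fixedPts_le hg (ne_one_of_orderOf (by norm_num) h)
  unfold Nat.ModEq at h1
  omega

theorem card_fixedPts_5 {g : Equiv.Perm GolayPt} (hg : g ∈ M24) (h : orderOf g = 5) :
    (fixedPts g).card = 4 := by
  haveI : Fact (Nat.Prime 5) := ⟨by norm_num⟩
  have h1 := card_fixedPts_modEq g 5 (by rw [← h]; exact pow_orderOf_eq_one g)
  have h2 := card_fixedPts_le hg (ne_one_of_orderOf (by norm_num) h)
  unfold Nat.ModEq at h1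
  omega

/-! ### orbits of subgroups -/

/-- the orbit of a point under a subgroup, as a finset -/
noncomputable def orb (H : Subgroup (Equiv.Perm GolayPt)) (q : GolayPt) : Finset GolayPt := by
  classical exact Finset.univ.filter fun y => ∃ g ∈ H, g q = y

theorem mem_orb {H : Subgroup (Equiv.Perm GolayPt)} {q y : GolayPt} :
    y ∈ orb H q ↔ ∃ g ∈ H, g q = y := by
  classical
  simp [orb]

theorem self_mem_orb (H : Subgroup (Equiv.Perm GolayPt)) (q : GolayPt) : q ∈ orb H q :=
  mem_orb.2 ⟨1, H.one_mem, rfl⟩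

theorem orb_invariant {H : Subgroup (Equiv.Perm GolayPt)} {q : GolayPt} {g : Equiv.Perm GolayPt}
    (hg : g ∈ H) : ∀ x ∈ orb H q, g x ∈ orb H q := by
  intro x hx
  obtain ⟨k, hk, rfl⟩ := mem_orb.1 hx
  exact mem_orb.2 ⟨g * k, H.mul_mem hg hk, rfl⟩

theorem card_orb (H : Subgroup (Equiv.Perm GolayPt)) (q : GolayPt) :
    Nat.card H = (orb H q).card * Nat.card ↥(H ⊓ MulAction.stabilizer (Equiv.Perm GolayPt) q) := by
  have := card_step (G := Equiv.Perm GolayPt) H q (↑(orb H q) : Set GolayPt)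
    (fun y hy => mem_orb.1 hy) (fun g hg => mem_orb.2 ⟨g, hg, rfl⟩)
  rwa [Set.ncard_coe_finset] at this

theorem orb_disjoint {H : Subgroup (Equiv.Perm GolayPt)} {q : GolayPt} {F : Finset GolayPt}
    (hF : ∀ g ∈ H, ∀ x ∈ F, g x = x) (hq : q ∉ F) : Disjoint (orb H q) F := by
  rw [Finset.disjoint_left]
  intro y hy hyF
  obtain ⟨g, hg, rfl⟩ := mem_orb.1 hy
  apply hq
  have := hF g⁻¹ (H.inv_mem hg) _ hyF
  have h2 : g⁻¹ (g q) = q := by simp
  rw [h2] at this
  rw [this]; exact hyF

theorem orb_card_add_le {H : Subgroup (Equiv.Perm GolayPt)} {q : GolayPt} {F : Finset GolayPt}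
    (hF : ∀ g ∈ H, ∀ x ∈ F, g x = x) (hq : q ∉ F) : (orb H q).card + F.card ≤ 24 := by
  rw [← Finset.card_union_of_disjoint (orb_disjoint hF hq)]
  exact Finset.card_le_univ _

theorem orb_card_pos (H : Subgroup (Equiv.Perm GolayPt)) (q : GolayPt) : 1 ≤ (orb H q).card :=
  Finset.card_pos.2 ⟨q, self_mem_orb H q⟩

/-- the size of an orbit modulo `p` -/
theorem orb_mod {H : Subgroup (Equiv.Perm GolayPt)} {q : GolayPt} {F : Finset GolayPt}
    (hF : ∀ g ∈ H, ∀ x ∈ F, g x = x) (hq : q ∉ F) {g : Equiv.Perm GolayPt} (hg : g ∈ H) (p : ℕ)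
    [Fact p.Prime] (hgp : orderOf g = p) :
    ∃ r, (orb H q).card % p = r % p ∧ r + F.card ≤ (fixedPts g).card ∧ (g q = q → 1 ≤ r) := by
  refine ⟨((orb H q).filter fun x => g x = x).card,
    card_modEq_fixed g p (by rw [← hgp]; exact pow_orderOf_eq_one g) _ (orb_invariant hg), ?_, ?_⟩
  · have hd : Disjoint ((orb H q).filter fun x => g x = x) F :=
      Finset.disjoint_of_subset_left (Finset.filter_subset _ _) (orb_disjoint hF hq)
    rw [← Finset.card_union_of_disjoint hd]
    apply Finset.card_le_card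
    intro x hx
    rcases Finset.mem_union.1 hx with h | h
    · exact mem_fixedPts.2 (Finset.mem_filter.1 h).2
    · exact mem_fixedPts.2 (hF g hg x h)
  · intro h
    exact Finset.card_pos.2 ⟨q, Finset.mem_filter.2 ⟨self_mem_orb H q, h⟩⟩

theorem fixes_of_orb_card_eq_one {H : Subgroup (Equiv.Perm GolayPt)} {q : GolayPt}
    (h : (orb H q).card = 1) : ∀ g ∈ H, g q = q := by
  intro g hg
  obtain ⟨a, ha⟩ := Finset.card_eq_one.1 h
  have h1 : q ∈ ({a} : Finset GolayPt) := ha ▸ self_mem_orb H q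
  have h2 : g q ∈ ({a} : Finset GolayPt) := ha ▸ mem_orb.2 ⟨g, hg, rfl⟩
  rw [Finset.mem_singleton] at h1 h2
  rw [h2, h1]

theorem exists_orderOf (H : Subgroup (Equiv.Perm GolayPt)) (p : ℕ) [Fact p.Prime]
    (h : p ∣ Nat.card H) : ∃ g ∈ H, orderOf g = p := by
  obtain ⟨x, hx⟩ := exists_prime_orderOf_dvd_card' (G := H) p h
  exact ⟨x, x.2, by rw [Subgroup.orderOf_coe]; exact hx⟩

theorem exists_notMem (F : Finset GolayPt) (h : F.card < 24) : ∃ q, q ∉ F := by
  by_contra hcon
  push Not at hcon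
  have : F = Finset.univ := Finset.eq_univ_iff_forall.2 hcon
  rw [this] at h
  exact absurd h (by decide)

end Cfsg.Agent.Lib.Helper7
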