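import Cfsg.Agent.Lib.Helper7.M24Fix

/-!
# Permutations normalising a large subgroup of `M24` lie in `M24`
-/

set_option autoImplicit false

namespace Cfsg.Agent.Lib.Helper7

open Cfsg Cfsg.Agent.Lib.Helper27
open scoped Pointwise

/-- xor of the members of `fam` selected by the bits of the second argument -/
def xorSel (fam : List ℕ) : ℕ → ℕ :=
  List.rec (fun _ => 0)
    (fun o _ ih s => Nat.xor (Nat.mul (Nat.land s 1) o) (ih (Nat.shiftRight s 1))) fam

theorem xorSel_cons (o : ℕ) (fam : List ℕ) (s : ℕ) :
    xorSel (o :: fam) s = ((s &&& 1) * o) ^^^ xorSel fam (s >>> 1) := rfl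

theorem prop_xorSel (P : ℕ → Prop) (h0 : P 0) (hx : ∀ a b, P a → P b → P (a ^^^ b))
    (fam : List ℕ) (hfam : ∀ o ∈ fam, P o) : ∀ s, P (xorSel fam s) := by
  induction fam with
  | nil => intro s; exact h0
  | cons o fam ih =>
    intro s
    rw [xorSel_cons]
    apply hx _ _ _ (ih (fun o' ho' => hfam o' (List.mem_cons_of_mem _ ho')) _)
    have : s &&& 1 = 0 ∨ s &&& 1 = 1 := by
      rw [Nat.and_one_is_mod]; omega
    rcases this with h | h
    · rw [h, zero_mul]; exact h0
    · rw [h, one_mul]; exact hfam o List.mem_cons_self

/-- `n`-th entry of a list of numbers (`0` beyond the end) -/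
def nthNat (l : List ℕ) : ℕ → ℕ :=
  List.rec (fun _ => 0) (fun c _ ih i => Nat.rec c (fun j _ => ih j) i) l

/-- a property of masks closed under xor which holds for a spanning family holds for all words -/
theorem prop_of_span (P : ℕ → Prop) (h0 : P 0) (hx : ∀ a b, P a → P b → P (a ^^^ b))
    (fam sels : List ℕ) (hfam : ∀ o ∈ fam, P o)
    (hspan : allBelow (fun j => Nat.beq (basisMask j) (xorSel fam (nthNat sels j))) 12 = true) :
    ∀ m, isCode m = true → P m := by
  rw [allBelow_iff] at hspan
  have hb : ∀ j < 12, P (basisMask j) := by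
    intro j hj
    rw [Nat.eq_of_beq_eq_true (hspan j hj)]
    exact prop_xorSel P h0 hx fam hfam _
  have key : ∀ k n, n ≤ 12 → P (encAux k n) := by
    intro k n
    induction n with
    | zero => intro _; rw [encAux_zero]; exact h0
    | succ n ih =>
      intro hn
      rw [encAux_succ, bit_mul]
      by_cases hk : k.testBit n = true
      · rw [if_pos hk]
        exact hx _ _ (ih (by omega)) (hb n (by omega))
      · rw [if_neg hk, Nat.xor_zero]; exact ih (by omega)
  intro m hm
  rw [isCode_iff] at hm
  rw [← hm, enc_eq_encSpec]
  exact key m 12 le_rfl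

theorem supports_symmDiff {s t : Finset GolayPt}
    (hs : s ∈ supports (golayCode : Set (GolayPt → ZMod 2)))
    (ht : t ∈ supports (golayCode : Set (GolayPt → ZMod 2))) :
    symmDiff s t ∈ supports (golayCode : Set (GolayPt → ZMod 2)) := by
  rw [mem_supports_iff] at hs ht ⊢
  rw [mask_symmDiff]
  exact isCode_xor hs ht

theorem mem_M24_of_family (σ : Equiv.Perm GolayPt) (fam sels : List ℕ)
    (hfam : ∀ o ∈ fam, o < 2 ^ 24 ∧ σ • unmask o ∈ supports (golayCode : Set (GolayPt → ZMod 2)))
    (hspan : allBelow (fun j => Nat.beq (basisMask j) (xorSel fam (nthNat sels j))) 12 = true) :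
    σ ∈ M24 := by
  have key := prop_of_span
    (fun m => m < 2 ^ 24 ∧ σ • unmask m ∈ supports (golayCode : Set (GolayPt → ZMod 2)))
    ⟨by norm_num, by
      have : unmask 0 = ∅ := by ext p; simp
      rw [this, Finset.smul_finset_empty, mem_supports_iff]
      decide +kernel⟩
    (fun a b ha hb => ⟨Nat.xor_lt_two_pow ha.1 hb.1, by
      rw [unmask_xor ha.1 hb.1, smul_symmDiff]
      exact supports_symmDiff ha.2 hb.2⟩) fam sels hfam hspan
  rw [MulAction.mem_stabilizer_set_iff_smul_set_subset supports_finite]
  rintro _ ⟨s, hs, rfl⟩
  show σ • s ∈ _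
  have := (key (mask s) ((mem_supports_iff s).1 hs)).2
  rwa [unmask_mask] at this

/-- test: `oc.1` is the mask of an 8-set fixed pointwise by the non-identity element of `fixer L`
coded by `oc.2` -/
def famCheck (L : List ℕ) (oc : ℕ × ℕ) : Bool :=
  band (checkFix L oc.2) (band (Nat.blt oc.1 16777216) (band (Nat.beq (pc oc.1) 8)
    (band (allBelow (fun i => bor (Bool.not (Nat.testBit oc.1 i)) (Nat.beq (ent oc.2 i) i)) 24)
      (Bool.not (allBelow (fun i => Nat.beq (ent oc.2 i) i) 24)))))

theorem smul_octad_of_normalizes {L : List ℕ} {σ : Equiv.Perm GolayPt}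
    (hσ : ∀ g ∈ fixer L, σ * g * σ⁻¹ ∈ fixer L) {oc : ℕ × ℕ} (h : famCheck L oc = true) :
    oc.1 < 2 ^ 24 ∧ σ • unmask oc.1 ∈ octads := by
  unfold famCheck at h
  simp only [band_eq, Bool.and_eq_true, Nat.blt_eq, Nat.beq_eq, allBelow_iff, bor_eq,
    Bool.or_eq_true] at h
  obtain ⟨h1, h2, h3, h4, h5⟩ := h
  have hv := valid_of_checkFix h1
  refine ⟨h2, ?_⟩
  apply octad_of_fixed (g := σ * permOf oc.2 * σ⁻¹) (hσ _ (permOf_mem_fixer h1)).1
  · intro hc
    have h6 : permOf oc.2 = 1 := by
      have := congrArg (fun t => σ⁻¹ * t * σ) hc
      simpa [mul_assoc] using this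
    have h7 : allBelow (fun i => Nat.beq (ent oc.2 i) i) 24 = true := by
      rw [allBelow_iff]
      intro k hk
      rw [Nat.beq_eq]
      have := idx_permOf_apply hv (pt k)
      rw [h6, Equiv.Perm.one_apply, idx_pt hk] at this
      exact this.symm
    rw [h7] at h5
    simp at h5
  · rw [Finset.card_smul_finset, card_unmask, h3]
  · intro x hx
    obtain ⟨y, hy, rfl⟩ := Finset.mem_smul_finset.1 hx
    have h8 : permOf oc.2 y = y := by
      apply idx_injective
      rw [idx_permOf_apply hv]
      rcases h4 _ (idx_lt y) with h | h
      · rw [mem_unmask] at hy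
        rw [hy] at h
        simp at h
      · exact h
    show (σ * permOf oc.2 * σ⁻¹) (σ y) = σ y
    simp [Equiv.Perm.mul_apply, h8]

theorem mem_M24_of_normalizes {L : List ℕ} {σ : Equiv.Perm GolayPt}
    (hσ : ∀ g ∈ fixer L, σ * g * σ⁻¹ ∈ fixer L) (fam : List (ℕ × ℕ)) (sels : List ℕ)
    (hfam : allList (famCheck L) fam = true)
    (hspan : allBelow (fun j => Nat.beq (basisMask j)
      (xorSel (fam.map Prod.fst) (nthNat sels j))) 12 = true) : σ ∈ M24 := by
  rw [allList_iff] at hfam
  apply mem_M24_of_family σ (fam.map Prod.fst) sels _ hspan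
  intro o ho
  obtain ⟨oc, hoc, rfl⟩ := List.mem_map.1 ho
  have := smul_octad_of_normalizes hσ (hfam oc hoc)
  exact ⟨this.1, this.2.1⟩

def famM24 : List (ℕ × ℕ) := [(5279, 220213109803259289183002082616117280), (10558, 605523997747915777694869358301513777), (18147, 640642859566248972800367728481914912), (36294, 597647960218361611325505260679170096), (69395, 943959128218234415389536390702347296), (133817, 589955185398394492948945727349949504), (262637, 184713828816023137188652290185202144), (525274, 763487723440319092871061953990212656), (1050548, 125939199529667258108649503206378197), (2101096, 168325469775836588399393026264367810), (4196943, 652132913432075291646800643152250912), (8391797, 980747918883362939279568022996060640)]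
def selM24 : List ℕ := [3189, 1183, 3403, 1763, 2483, 2918, 3788, 493, 986, 1972, 2845, 3642]

def famM23 : List (ℕ × ℕ) := [(8391797, 980747918883362939279568022996060640), (8394986, 979153792300254299544654000388423732), (8398155, 971573502535564247891880895701956640), (8407702, 971507874320189691781733406730651685), (8421811, 978239198764604640668953934463309856), (8455014, 981980625727730331773979210101786674), (8521420, 976158201573769510774300867752462965), (8654232, 978042691876211754525085892043976705), (8919856, 975692405299157975170201852683125842), (9440193, 958572209746660633463095447753119840), (10486557, 969231174250762110498729277811427488), (12584506, 984691046859117290952799632694035502)]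
def selM23 : List ℕ := [2283, 2364, 2711, 3524, 868, 1741, 3482, 984, 1974, 3946, 1595, 3189]

def famM12 : List (ℕ × ℕ) := [(15777, 642041783763028730224227993988959360), (18147, 721064549862662597311266359538158624), (36294, 233063521881238502918052074840524836), (42232, 483480087715247111514928717152485762), (84464, 803048693414536666626749225330871730), (133817, 897915829269799049967667047276061088), (290352, 840573392065610304814719585164004624), (535268, 604029926289668171748359725720537234), (1050548, 892735891774019106164213520671967619), (2101096, 944571122697285497263621287552595088), (4202192, 735548533734033527546468929854573569), (8391797, 983553042649537266979977019204733184)]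
def selM12 : List ℕ := [3198, 1172, 3398, 1774, 2495, 2912, 3785, 489, 984, 1969, 2841, 3639]

def famM11 : List (ℕ × ℕ) := [(15777, 642041783763028730224227993988959360), (18147, 721064549862662597311266359538158624), (52005, 899228651922494682346309486665402784), (118953, 855866593458267070919526726698637728), (133817, 897915829269799049967667047276061088), (153797, 858949039613306814270515363285830048), (298027, 313674380516085836957177657543472160), (542009, 895315753051310065218259353346352704), (1075305, 435164862652805219953057134465356032), (2115979, 438309809805128941928441216923451424), (4216883, 735500604421669808992593446508235808), (8391797, 983553042649537266979977019204733184)]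
def selM11 : List ℕ := [3176, 1161, 3392, 1767, 2460, 2900, 3826, 467, 1020, 1965, 2875, 3625]

theorem mem_M24_of_normalizes_M24 {σ : Equiv.Perm GolayPt}
    (hσ : ∀ g ∈ fixer [], σ * g * σ⁻¹ ∈ fixer []) : σ ∈ M24 :=
  mem_M24_of_normalizes hσ famM24 selM24 (by decide +kernel) (by decide +kernel)

theorem mem_M24_of_normalizes_M23 {σ : Equiv.Perm GolayPt}
    (hσ : ∀ g ∈ fixer L1, σ * g * σ⁻¹ ∈ fixer L1) : σ ∈ M24 :=
  mem_M24_of_normalizes hσ famM23 selM23 (by decide +kernel) (by decide +kernel)

theorem mem_M24_of_normalizes_M12 {σ : Equiv.Perm GolayPt}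
    (hσ : ∀ g ∈ fixer D0, σ * g * σ⁻¹ ∈ fixer D0) : σ ∈ M24 :=
  mem_M24_of_normalizes hσ famM12 selM12 (by decide +kernel) (by decide +kernel)

theorem mem_M24_of_normalizes_M11 {σ : Equiv.Perm GolayPt}
    (hσ : ∀ g ∈ fixer D1, σ * g * σ⁻¹ ∈ fixer D1) : σ ∈ M24 :=
  mem_M24_of_normalizes hσ famM11 selM11 (by decide +kernel) (by decide +kernel)

end Cfsg.Agent.Lib.Helper7
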