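import Cfsg.Agent.Lib.Helper7.NS23Defs

/-!
# Bridge between words and masks for `tau`, `dot`; the quadratic identity for `tau`
-/

set_option autoImplicit false

namespace Cfsg.Agent.Lib.Helper7.NS23

open Cfsg Cfsg.Agent.Lib.Helper27

/-- select a mask by a bit -/
def sel (m k a : ℕ) : ℕ := Bool.rec 0 a (Nat.testBit m k)

theorem sel_eq (m k a : ℕ) : sel m k a = if m.testBit k = true then a else 0 := by
  unfold sel
  cases Nat.testBit m k <;> simp

/-- mask version of `Sx` -/
def SM (n m : ℕ) : ℕ := Nat.rec 0 (fun k ih => Nat.xor ih (sel m k (Bm k))) n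

/-- mask version of `Tx` -/
def TM (n m : ℕ) : ℕ := Nat.rec 0 (fun k ih => Nat.xor ih (sel m k (Nat.land (SM k m) (Bm k)))) n

/-- mask version of `Ux` -/
def UM (n m : ℕ) : ℕ := Nat.rec 0 (fun k ih => Nat.xor ih (sel m k (Um k))) n

/-- mask version of `tau` -/
def tauM (m : ℕ) : ℕ := Nat.xor (TM 11 m) (UM 11 m)

theorem wordOf_pt (m : ℕ) {k : ℕ} (hk : k < 24) :
    wordOf m (pt k) = if m.testBit k = true then 1 else 0 := by
  unfold wordOf
  rw [idx_pt hk]

theorem wordOf_and (a b : ℕ) : wordOf (a &&& b) = wordOf a * wordOf b := by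
  funext p
  simp only [wordOf, Pi.mul_apply, Nat.testBit_and, Bool.and_eq_true]
  by_cases h1 : a.testBit (idx p) = true <;> by_cases h2 : b.testBit (idx p) = true <;> simp [h1, h2]

theorem smul_wordOf (m : ℕ) {k : ℕ} (hk : k < 24) (a : ℕ) :
    wordOf m (pt k) • wordOf a = wordOf (sel m k a) := by
  rw [wordOf_pt m hk, sel_eq]
  by_cases h : m.testBit k = true
  · rw [if_pos h, if_pos h, one_smul]
  · rw [if_neg h, if_neg h, zero_smul, wordOf_zero]

theorem Sx_wordOf (m : ℕ) : ∀ n ≤ 24, Sx n (wordOf m) = wordOf (SM n m) := by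
  intro n
  induction n with
  | zero => intro _; exact wordOf_zero.symm
  | succ n ih =>
    intro hn
    show Sx n (wordOf m) + wordOf m (pt n) • bw n = wordOf (SM n m ^^^ sel m n (Bm n))
    rw [ih (by omega), wordOf_xor, bw, smul_wordOf m (by omega)]

theorem Tx_wordOf (m : ℕ) : ∀ n ≤ 24, Tx n (wordOf m) = wordOf (TM n m) := by
  intro n
  induction n with
  | zero => intro _; exact wordOf_zero.symm
  | succ n ih =>
    intro hn
    show Tx n (wordOf m) + wordOf m (pt n) • (Sx n (wordOf m) * bw n)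
      = wordOf (TM n m ^^^ sel m n (SM n m &&& Bm n))
    rw [ih (by omega), wordOf_xor, bw, Sx_wordOf m n (by omega), ← wordOf_and,
      smul_wordOf m (by omega)]

theorem Ux_wordOf (m : ℕ) : ∀ n ≤ 24, Ux n (wordOf m) = wordOf (UM n m) := by
  intro n
  induction n with
  | zero => intro _; exact wordOf_zero.symm
  | succ n ih =>
    intro hn
    show Ux n (wordOf m) + wordOf m (pt n) • uw n = wordOf (UM n m ^^^ sel m n (Um n))
    rw [ih (by omega), wordOf_xor, uw, smul_wordOf m (by omega)]

theorem tau_wordOf (m : ℕ) : tau (wordOf m) = wordOf (tauM m) := by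
  show Tx 11 (wordOf m) + Ux 11 (wordOf m) = wordOf (TM 11 m ^^^ UM 11 m)
  rw [Tx_wordOf m 11 (by norm_num), Ux_wordOf m 11 (by norm_num), wordOf_xor]

theorem dot_wordOf (a b : ℕ) : dot (wordOf a) (wordOf b) = (pc (a &&& b) : ZMod 2) := by
  rw [← card_unmask, dot]
  have h : ∀ p : GolayPt, wordOf a p * wordOf b p
      = if (a &&& b).testBit (idx p) = true then 1 else 0 := by
    intro p
    have := congrFun (wordOf_and a b) p
    rw [Pi.mul_apply] at this
    rw [← this]; rfl
  rw [Finset.sum_congr rfl (fun p _ => h p), Finset.sum_boole]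
  rfl

theorem theta_wordOf (a b : ℕ) : theta (wordOf a) (wordOf b) = (pc (tauM a &&& b) : ZMod 2) := by
  rw [theta, tau_wordOf, dot_wordOf]

/-- every word is `wordOf` of a mask below `2^24` -/
theorem exists_mask (x : Wd) : ∃ m < 2 ^ 24, x = wordOf m :=
  ⟨mask (support₂ x), mask_lt _, (wordOf_mask_support₂ x).symm⟩

theorem wordOf_none (m : ℕ) : wordOf m none = if m.testBit 23 = true then 1 else 0 := rfl

/-- elements of `C0` as masks -/
theorem mem_C0_wordOf {m : ℕ} (hm : m < 2 ^ 24) :
    wordOf m ∈ C0 ↔ isCode m = true ∧ m.testBit 23 = false := by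
  rw [mem_C0, wordOf_mem_iff hm, wordOf_none]
  cases m.testBit 23 <;> simp

theorem exists_mask_of_mem_C0 {x : Wd} (hx : x ∈ C0) :
    ∃ m, isCode m = true ∧ m.testBit 23 = false ∧ x = wordOf m := by
  obtain ⟨m, hm, rfl⟩ := exists_mask x
  exact ⟨m, ((mem_C0_wordOf hm).1 hx).1, ((mem_C0_wordOf hm).1 hx).2, rfl⟩

/-! ### linearity of `dot` -/

theorem dot_add_left (a b x : Wd) : dot (a + b) x = dot a x + dot b x := by
  simp only [dot, Pi.add_apply, add_mul, Finset.sum_add_distrib]

theorem dot_add_right (a x y : Wd) : dot a (x + y) = dot a x + dot a y := by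
  simp only [dot, Pi.add_apply, mul_add, Finset.sum_add_distrib]

theorem dot_comm (a b : Wd) : dot a b = dot b a := by
  simp only [dot, mul_comm]

theorem dot_smul_left (c : ZMod 2) (a x : Wd) : dot (c • a) x = c * dot a x := by
  simp only [dot, Pi.smul_apply, smul_eq_mul, Finset.mul_sum, mul_assoc]

theorem dot_zero_left (x : Wd) : dot 0 x = 0 := by simp [dot]

theorem dot_comp (g : Equiv.Perm GolayPt) (a b : Wd) : dot (a ∘ g) (b ∘ g) = dot a b :=
  Equiv.sum_comp g (fun p => a p * b p)

/-! ### the quadratic identity -/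

/-- the diagonal correction -/
def Dg : ℕ → Wd → Wd → Wd
  | 0, _, _ => 0
  | n + 1, x, y => Dg n x y + (x (pt n) * y (pt n)) • bw n

theorem Sx_add (n : ℕ) (x y : Wd) : Sx n (x + y) = Sx n x + Sx n y := by
  induction n with
  | zero => exact (add_zero _).symm
  | succ n ih =>
    show Sx n (x + y) + (x + y) (pt n) • bw n = (Sx n x + x (pt n) • bw n) + (Sx n y + y (pt n) • bw n)
    rw [ih, Pi.add_apply, add_smul]; abel

theorem Ux_add (n : ℕ) (x y : Wd) : Ux n (x + y) = Ux n x + Ux n y := by
  induction n with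
  | zero => exact (add_zero _).symm
  | succ n ih =>
    show Ux n (x + y) + (x + y) (pt n) • uw n = (Ux n x + x (pt n) • uw n) + (Ux n y + y (pt n) • uw n)
    rw [ih, Pi.add_apply, add_smul]; abel

theorem zmod2_mul_self (a : ZMod 2) : a * a = a := by revert a; decide

theorem zmod2_add_self (a : ZMod 2) : a + a = 0 := by revert a; decide

theorem Tx_add (n : ℕ) (x y : Wd) :
    Tx n (x + y) = Tx n x + Tx n y + Sx n x * Sx n y + Dg n x y := by
  induction n with
  | zero => funext p; simp [Tx, Sx, Dg]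
  | succ n ih =>
    show Tx n (x + y) + (x + y) (pt n) • (Sx n (x + y) * bw n)
      = (Tx n x + x (pt n) • (Sx n x * bw n)) + (Tx n y + y (pt n) • (Sx n y * bw n))
        + (Sx n x + x (pt n) • bw n) * (Sx n y + y (pt n) • bw n)
        + (Dg n x y + (x (pt n) * y (pt n)) • bw n)
    rw [ih, Sx_add]
    funext p
    simp only [Pi.add_apply, Pi.mul_apply, Pi.smul_apply, smul_eq_mul]
    have h1 := zmod2_mul_self (bw n p)
    have h2 := zmod2_add_self (x (pt n) * y (pt n) * bw n p)
    linear_combination (-(x (pt n) * y (pt n))) * h1 - h2 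

theorem tau_add (x y : Wd) :
    tau (x + y) = tau x + tau y + Sx 11 x * Sx 11 y + Dg 11 x y := by
  unfold tau
  rw [Tx_add, Ux_add]; abel

end Cfsg.Agent.Lib.Helper7.NS23
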