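import Cfsg.Agent.Lib.Helper7.NS23Bridge

/-!
# The `Q₈`-certificate for the non-splitness of `2^11 · M23`
-/

set_option autoImplicit false

namespace Cfsg.Agent.Lib.Helper7.NS23

open Cfsg Cfsg.Agent.Lib.Helper27

/-- codes of two generators of a quaternion subgroup of `M23` -/
def cS : ℕ := 973159530127228102268723045344122244
def cT : ℕ := 967779596672134780934344242965283522

theorem chkS : checkM24 cS = true := by decide +kernel
theorem chkT : checkM24 cT = true := by decide +kernel

theorem permOf_mem_M23 {c : ℕ} (h : checkM24 c = true) (h' : ent c 23 = 23) :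
    permOf c ∈ Spor.M23 := by
  refine ⟨permOf_mem_M24 h, ?_⟩
  show permOf c none = none
  rw [permOf_apply (valid_of_check h)]
  show pt (ent c 23) = none
  rw [h']; rfl

/-- the two generators -/
noncomputable def gS : Spor.M23 := ⟨permOf cS, permOf_mem_M23 chkS (by decide +kernel)⟩
noncomputable def gT : Spor.M23 := ⟨permOf cT, permOf_mem_M23 chkT (by decide +kernel)⟩

theorem wordOf_comp {c m m' : ℕ} (hv : validCode c = true)
    (h : ∀ i < 24, m.testBit (ent c i) = m'.testBit i) : wordOf m ∘ permOf c = wordOf m' := by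
  funext p
  show wordOf m (permOf c p) = wordOf m' p
  unfold wordOf
  rw [idx_permOf_apply hv, h _ (idx_lt p)]

theorem gS_sq : gS * gS = gT * gT := by
  apply Subtype.ext
  apply Equiv.ext
  intro p
  apply idx_injective
  show idx (permOf cS (permOf cS p)) = idx (permOf cT (permOf cT p))
  rw [idx_permOf_apply (valid_of_check chkS), idx_permOf_apply (valid_of_check chkS),
    idx_permOf_apply (valid_of_check chkT), idx_permOf_apply (valid_of_check chkT)]
  have key : ∀ i < 24, ent cS (ent cS i) = ent cT (ent cT i) := by decide +kernel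
  exact key _ (idx_lt p)

theorem gS_gT_gS : gS * gT * gS = gT := by
  apply Subtype.ext
  apply Equiv.ext
  intro p
  apply idx_injective
  show idx (permOf cS (permOf cT (permOf cS p))) = idx (permOf cT p)
  rw [idx_permOf_apply (valid_of_check chkS), idx_permOf_apply (valid_of_check chkT),
    idx_permOf_apply (valid_of_check chkS), idx_permOf_apply (valid_of_check chkT)]
  have key : ∀ i < 24, ent cS (ent cT (ent cS i)) = ent cT i := by decide +kernel
  exact key _ (idx_lt p)

/-- the two code words of the certificate -/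
def zA : C0 := ⟨wordOf 804052, (mem_C0_wordOf (by norm_num)).2 (by decide +kernel)⟩
def zB : C0 := ⟨wordOf 1869893, (mem_C0_wordOf (by norm_num)).2 (by decide +kernel)⟩

theorem sA : wordOf 804052 ∘ permOf cS = wordOf 1148257 :=
  wordOf_comp (valid_of_check chkS) (by decide +kernel)
theorem sA' : wordOf 1148257 ∘ permOf cS = wordOf 804052 :=
  wordOf_comp (valid_of_check chkS) (by decide +kernel)
theorem tA : wordOf 804052 ∘ permOf cT = wordOf 1148257 :=
  wordOf_comp (valid_of_check chkT) (by decide +kernel)
theorem tA' : wordOf 1148257 ∘ permOf cT = wordOf 804052 :=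
  wordOf_comp (valid_of_check chkT) (by decide +kernel)
theorem sB : wordOf 1869893 ∘ permOf cS = wordOf 84464 :=
  wordOf_comp (valid_of_check chkS) (by decide +kernel)
theorem sB' : wordOf 84464 ∘ permOf cS = wordOf 1869893 :=
  wordOf_comp (valid_of_check chkS) (by decide +kernel)
theorem tB : wordOf 1869893 ∘ permOf cT = wordOf 1869893 :=
  wordOf_comp (valid_of_check chkT) (by decide +kernel)
theorem tB' : wordOf 84464 ∘ permOf cT = wordOf 84464 :=
  wordOf_comp (valid_of_check chkT) (by decide +kernel)

theorem coe_sA : ((act gS zA : C0) : Wd) = wordOf 1148257 := sA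
theorem coe_ssA : ((act gS (act gS zA) : C0) : Wd) = wordOf 804052 := by
  rw [act_coe, coe_sA]; exact sA'
theorem coe_tA : ((act gT zA : C0) : Wd) = wordOf 1148257 := tA
theorem coe_ttA : ((act gT (act gT zA) : C0) : Wd) = wordOf 804052 := by
  rw [act_coe, coe_tA]; exact tA'
theorem coe_sB : ((act gS zB : C0) : Wd) = wordOf 84464 := sB
theorem coe_tsB : ((act gT (act gS zB) : C0) : Wd) = wordOf 84464 := by
  rw [act_coe, coe_sB]; exact tB'
theorem coe_stsB : ((act gS (act gT (act gS zB)) : C0) : Wd) = wordOf 1869893 := by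
  rw [act_coe, coe_tsB]; exact sB'
theorem coe_tB : ((act gT zB : C0) : Wd) = wordOf 1869893 := tB
theorem coe_zA : (zA : Wd) = wordOf 804052 := rfl
theorem coe_zB : (zB : Wd) = wordOf 1869893 := rfl

theorem cert : ∃ (s t : Spor.M23) (z1 z2 : C0), s * s = t * t ∧ s * t * s = t ∧
    z1 + act s z1 = z2 + act t (act s z2) ∧
    z1 + act t z1 = act s z2 + z2 ∧
    (theta (act s z1 : C0) (act s (act s z1) : C0) + theta z1 (act s z1 : C0))
      + (theta (act s z2 : C0) (act s (act t (act s z2)) : C0) + theta z2 (act t (act s z2) : C0))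
      + (theta (act t z1 : C0) (act t (act t z1) : C0) + theta z1 (act t z1 : C0))
      + (theta (act t (act s z2) : C0) (act t z2 : C0) + theta (act s z2 : C0) z2) = 1 := by
  refine ⟨gS, gT, zA, zB, gS_sq, gS_gT_gS, ?_, ?_, ?_⟩
  · apply Subtype.ext
    rw [Submodule.coe_add, Submodule.coe_add, coe_sA, coe_tsB, coe_zA, coe_zB, ← wordOf_xor,
      ← wordOf_xor]
    rfl
  · apply Subtype.ext
    rw [Submodule.coe_add, Submodule.coe_add, coe_tA, coe_sB, coe_zA, coe_zB, ← wordOf_xor,
      ← wordOf_xor]
    rfl
  · rw [coe_sA, coe_ssA, coe_tA, coe_ttA, coe_sB, coe_tsB, coe_stsB, coe_tB, coe_zA, coe_zB]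
    simp only [theta_wordOf]
    have e1 : pc (tauM 1148257 &&& 804052) = 2 := by decide +kernel
    have e2 : pc (tauM 804052 &&& 1148257) = 3 := by decide +kernel
    have e3 : pc (tauM 84464 &&& 1869893) = 2 := by decide +kernel
    have e4 : pc (tauM 1869893 &&& 84464) = 3 := by decide +kernel
    rw [e1, e2, e3, e4]
    decide

end Cfsg.Agent.Lib.Helper7.NS23
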