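import Cfsg.Agent.Lib.Helper27.Perm
import Cfsg.Prelude.Def_Spor_Mathieu

/-!
# Definitions for the non-split extension `2^11 · M23` (statement S2650)

`C0` is the 11-dimensional space of Golay code words vanishing at `none`; `theta` is a
"Parker loop cocycle" on it, linear in the second variable.
-/

set_option autoImplicit false

namespace Cfsg.Agent.Lib.Helper7.NS23

open Cfsg Cfsg.Agent.Lib.Helper27
open scoped Pointwise

/-- binary words of length 24 -/
abbrev Wd : Type := GolayPt → ZMod 2

/-- code words vanishing at the extra point -/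
def C0 : Submodule (ZMod 2) Wd where
  carrier := {x | x ∈ golayCode ∧ x none = 0}
  zero_mem' := ⟨golayCode.zero_mem, rfl⟩
  add_mem' := by
    rintro a b ⟨ha, ha'⟩ ⟨hb, hb'⟩
    exact ⟨golayCode.add_mem ha hb, by rw [Pi.add_apply, ha', hb', add_zero]⟩
  smul_mem' := by
    rintro c a ⟨ha, ha'⟩
    exact ⟨golayCode.smul_mem c ha, by rw [Pi.smul_apply, ha', smul_zero]⟩

theorem mem_C0 {x : Wd} : x ∈ C0 ↔ x ∈ golayCode ∧ x none = 0 := Iff.rfl

/-- the standard inner product -/
def dot (w x : Wd) : ZMod 2 := ∑ p, w p * x p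

/-- packed table of the systematic basis of `C0` (information points `0..10`) -/
def bTable : ℕ := 0x527c007b42003da1001ed0800f684055c8207898106e300837180449f00224f801

/-- packed table of the bilinear part -/
def uTable : ℕ := 0x400000000000000000000000040000020000000000004000200

/-- mask of the `k`-th basis word -/
def Bm (k : ℕ) : ℕ := Nat.land (Nat.shiftRight bTable (Nat.mul 24 k)) 16777215

/-- mask of the `k`-th word of the bilinear part -/
def Um (k : ℕ) : ℕ := Nat.land (Nat.shiftRight uTable (Nat.mul 24 k)) 16777215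

/-- the `k`-th basis word -/
def bw (k : ℕ) : Wd := wordOf (Bm k)

/-- the `k`-th word of the bilinear part -/
def uw (k : ℕ) : Wd := wordOf (Um k)

/-- partial expansion in the basis -/
def Sx : ℕ → Wd → Wd
  | 0, _ => 0
  | n + 1, x => Sx n x + x (pt n) • bw n

/-- the quadratic part of `tau` -/
def Tx : ℕ → Wd → Wd
  | 0, _ => 0
  | n + 1, x => Tx n x + x (pt n) • (Sx n x * bw n)

/-- the linear part of `tau` -/
def Ux : ℕ → Wd → Wd
  | 0, _ => 0
  | n + 1, x => Ux n x + x (pt n) • uw n

/-- `theta x y = dot (tau x) y` -/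
def tau (x : Wd) : Wd := Tx 11 x + Ux 11 x

/-- the loop cocycle -/
def theta (x y : Wd) : ZMod 2 := dot (tau x) y

theorem support₂_comp (g : Equiv.Perm GolayPt) (x : Wd) :
    support₂ (x ∘ g) = g⁻¹ • support₂ x := by
  ext p
  rw [Finset.mem_inv_smul_finset_iff]
  simp [support₂]

theorem comp_mem_golayCode {g : Equiv.Perm GolayPt} (hg : g ∈ M24) {x : Wd}
    (hx : x ∈ golayCode) : x ∘ g ∈ golayCode := by
  have h1 : support₂ x ∈ supports (golayCode : Set Wd) := ⟨x, hx, rfl⟩
  have h2 := smul_mem_supports (M24.inv_mem hg) h1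
  rw [← support₂_comp] at h2
  obtain ⟨w, hw, hw'⟩ := h2
  rw [← support₂_injective hw']
  exact hw

theorem comp_mem_C0 {g : Equiv.Perm GolayPt} (hg : g ∈ Spor.M23) {x : Wd}
    (hx : x ∈ C0) : x ∘ g ∈ C0 := by
  refine ⟨comp_mem_golayCode hg.1 hx.1, ?_⟩
  have h : g none = none := hg.2
  rw [Function.comp_apply, h]
  exact hx.2

/-- the (right) action of `M23` on `C0` -/
def act (g : Spor.M23) : C0 →+ C0 where
  toFun x := ⟨x.1 ∘ g.1, comp_mem_C0 g.2 x.2⟩
  map_zero' := rfl
  map_add' _ _ := rfl

theorem act_coe (g : Spor.M23) (x : C0) : ((act g x : C0) : Wd) = (x : Wd) ∘ (g : Equiv.Perm GolayPt) := rfl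

theorem act_one (x : C0) : act 1 x = x := rfl

theorem act_mul (g h : Spor.M23) (x : C0) : act (g * h) x = act h (act g x) := rfl

end Cfsg.Agent.Lib.Helper7.NS23
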