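import Cfsg.Agent.Lib.Helper7.NS23Cert
import Cfsg.Agent.Lib.Helper95.NS23D
import Cfsg.Agent.Lib.Helper95.NS23KER
import Cfsg.Agent.Lib.Helper64.NS23Abs
import Cfsg.Agent.Lib.Helper64.NS23QF

/-!
# The non-split extension `2^11 · M23`: assembly
-/

set_option autoImplicit false

namespace Cfsg.Agent.Lib.Helper7.NS23

open Cfsg Cfsg.Agent.Lib.Helper27 Cfsg.Agent.Lib.Helper95.NS23 Cfsg.Agent.Lib.Helper64.NS23
open scoped Pointwise



theorem theta_add_right (x y y' : Wd) : theta x (y + y') = theta x y + theta x y' :=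
  dot_add_right _ _ _

theorem theta_add_left {x x' z : Wd} (hx : x ∈ C0) (hx' : x' ∈ C0) (hz : z ∈ C0) :
    theta (x + x') z = theta x z + theta x' z + dot (x * x') z := by
  unfold theta
  rw [tau_add, Sx_eq_self hx, Sx_eq_self hx', dot_add_left, dot_add_left, dot_add_left,
    dot_eq_zero (Dg_mem_C0 x x').1 hz, add_zero]

/-- the form attached to `g` -/
def cg (g : Spor.M23) (x y : C0) : ZMod 2 :=
  theta (act g x : C0) (act g y : C0) + theta x y

theorem cg_add_right (g : Spor.M23) (x y y' : C0) : cg g x (y + y') = cg g x y + cg g x y' := by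
  unfold cg
  rw [map_add, Submodule.coe_add, Submodule.coe_add, theta_add_right, theta_add_right]
  abel

theorem cg_add_left (g : Spor.M23) (x x' y : C0) : cg g (x + x') y = cg g x y + cg g x' y := by
  unfold cg
  rw [map_add, Submodule.coe_add, Submodule.coe_add,
    theta_add_left (act g x).2 (act g x').2 (act g y).2, theta_add_left x.2 x'.2 y.2]
  have h : dot (((act g x : C0) : Wd) * ((act g x' : C0) : Wd)) ((act g y : C0) : Wd)
      = dot ((x : Wd) * (x' : Wd)) (y : Wd) :=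
    dot_comp (g : Equiv.Perm GolayPt) ((x : Wd) * (x' : Wd)) (y : Wd)
  rw [h]
  have h2 := zmod2_add_self (dot ((x : Wd) * (x' : Wd)) (y : Wd))
  linear_combination h2

theorem cg_self (g : Spor.M23) (x : C0) : cg g x x = 0 := by
  unfold cg
  rw [theta_self (act g x).2, theta_self x.2, act_coe, support₂_comp, Finset.card_smul_finset]
  exact zmod2_add_self _

theorem hex (g : Spor.M23) : ∃ f : C0 → ZMod 2, ∀ x y : C0,
    f (x + y) + f x + f y = theta (act g x : C0) (act g y : C0) + theta x y :=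
  exists_quad (cg g) (cg_add_left g) (cg_add_right g) (cg_self g)

/-- the pairing of words with `C0` -/
def pair : Wd →+ (C0 →+ ZMod 2) :=
  AddMonoidHom.mk' (fun w => AddMonoidHom.mk' (fun x : C0 => dot w (x : Wd))
    (fun x y => dot_add_right w x y))
    (fun w w' => by ext x; exact dot_add_left w w' x)

theorem pair_apply (w : Wd) (x : C0) : pair w x = dot w (x : Wd) := rfl

theorem pair_surjective : Function.Surjective pair := by
  intro l
  obtain ⟨w, hw⟩ := pair_surj l
  exact ⟨w, by ext x; rw [pair_apply, hw]⟩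

theorem pair_eq_zero_iff (w : Wd) :
    pair w = 0 ↔ (w ∈ golayCode ∨ w + Pi.single none 1 ∈ golayCode) := by
  rw [← ker_iff]
  constructor
  · intro h x hx
    exact DFunLike.congr_fun h (⟨x, hx⟩ : C0)
  · intro h
    ext x
    exact h x x.2

theorem pair_act (g : Spor.M23) (w : Wd) (x : C0) :
    pair (w ∘ ⇑((g : Equiv.Perm GolayPt)⁻¹)) x = pair w (act g x) := by
  rw [pair_apply, pair_apply, act_coe, ← dot_comp (g : Equiv.Perm GolayPt)]
  congr 1
  funext p
  simp

theorem main :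
    ∃ (E : Type) (_ : Group E) (_ : Finite E) (N : Subgroup E) (_ : N.Normal)
      (φ : E ⧸ N ≃* ↥Cfsg.Spor.M23) (θ : (Cfsg.GolayPt → ZMod 2) →+ Additive ↥N),
      Function.Surjective θ ∧
      (∀ w : Cfsg.GolayPt → ZMod 2, θ w = 0 ↔ (w ∈ Cfsg.golayCode ∨ w + Pi.single none 1 ∈ Cfsg.golayCode)) ∧
      (∀ (g : E) (w : Cfsg.GolayPt → ZMod 2),
        ((θ (w ∘ ⇑(((φ (QuotientGroup.mk g) : ↥Cfsg.Spor.M23) : Equiv.Perm Cfsg.GolayPt)⁻¹))).toMul : E)
          = g * ((θ w).toMul : E) * g⁻¹) ∧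
      ∀ H : Subgroup E, H ⊓ N = ⊥ → H ⊔ N ≠ ⊤ := by
  obtain ⟨s, t, z1, z2, h1, h2, h3, h4, h5⟩ := cert
  obtain ⟨E, iG, iF, N, iN, φ, θ', hs, hk, hc, hn⟩ :=
    abs_nonsplit (G := Spor.M23) (V := C0) (W := Wd) act act_one act_mul
      (fun x y => theta (x : Wd) (y : Wd)) hex pair pair_surjective
      (fun g w => w ∘ ⇑((g : Equiv.Perm GolayPt)⁻¹)) pair_act s t h1 h2 z1 z2 h3 h4 h5
  exact ⟨E, iG, iF, N, iN, φ, θ', hs, fun w => (hk w).trans (pair_eq_zero_iff w), hc, hn⟩

end Cfsg.Agent.Lib.Helper7.NS23
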