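import Cfsg.Agent.Lib.Helper7.OutM22a

/-!
# The outer automorphism group of `M22` has order 2 (second part)
-/

set_option autoImplicit false
set_option linter.style.haveILetI false

namespace Cfsg.Agent.Lib.Helper7

open Cfsg Cfsg.Agent.Lib.Helper27 MulAction
open scoped Pointwise

theorem swap_smul_both {a b : GolayPt} {s : Finset GolayPt} (ha : a ∈ s) (hb : b ∈ s) :
    Equiv.swap a b • s = s := by
  ext x
  rw [← Finset.inv_smul_mem_iff, Equiv.swap_inv, Equiv.Perm.smul_def]
  by_cases hxa : x = a
  · subst hxa; rw [Equiv.swap_apply_left]; exact ⟨fun _ => ha, fun _ => hb⟩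
  · by_cases hxb : x = b
    · subst hxb; rw [Equiv.swap_apply_right]; exact ⟨fun _ => hb, fun _ => ha⟩
    · rw [Equiv.swap_apply_of_ne_of_ne hxa hxb]

theorem swap_smul_one {a b : GolayPt} {s : Finset GolayPt} (hab : a ≠ b) (ha : a ∈ s)
    (hb : b ∉ s) : Equiv.swap a b • s = symmDiff s {a, b} := by
  ext x
  rw [← Finset.inv_smul_mem_iff, Equiv.swap_inv, Equiv.Perm.smul_def,
    Finset.mem_symmDiff]
  simp only [Finset.mem_insert, Finset.mem_singleton]
  by_cases hxa : x = a
  · subst hxa; rw [Equiv.swap_apply_left]; tauto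
  · by_cases hxb : x = b
    · subst hxb; rw [Equiv.swap_apply_right]; tauto
    · rw [Equiv.swap_apply_of_ne_of_ne hxa hxb]; tauto

theorem swap_conj_of_fix {a b : GolayPt} {k : Equiv.Perm GolayPt} (ha : k a = a) (hb : k b = b) :
    k * Equiv.swap a b = Equiv.swap a b * k := by
  have := Equiv.mul_swap_eq_swap_mul k a b
  rwa [ha, hb] at this

theorem normalizer_M22 {σ : Equiv.Perm GolayPt} (hσ0 : σ none = none)
    (hσ1 : σ (some 0) = some 0) (hσ : ∀ g ∈ fixer L2, σ * g * σ⁻¹ ∈ fixer L2) :
    σ ∈ M24 ∨ Equiv.swap none (some 0) * σ ∈ M24 := by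
  have hfam := (allList_iff _ _).1 famM22_check
  have hoct : ∀ oc ∈ famM22, oc.1 < 2 ^ 24 ∧ σ • unmask oc.1 ∈ octads :=
    fun oc hoc => smul_octad_of_normalizes hσ (hfam oc hoc)
  have hoct' : ∀ oc ∈ famM22, oc.1 < 2 ^ 24 ∧ σ⁻¹ • unmask oc.1 ∈ octads :=
    fun oc hoc => smul_octad_of_normalizes (normalizes_inv hσ) (hfam oc hoc)
  have hspan : allBelow (fun j => Nat.beq (basisMask j)
      (xorSel (famM22.map Prod.fst ++ [8394986]) (nthNat selM22 j))) 12 = true := by
    decide +kernel
  have hc1 : unmask 8394986 ∈ supports (golayCode : Set (GolayPt → ZMod 2)) := by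
    rw [mem_supports_iff, mask_unmask (by norm_num)]; decide +kernel
  set A := σ • unmask 8394986 with hA
  have hpar : ∀ f ∈ famM22.map Prod.fst, pc (mask A &&& f) % 2 = 0 := by
    intro f hf
    obtain ⟨oc, hoc, rfl⟩ := List.mem_map.1 hf
    have h1 : A ∩ unmask oc.1 = σ • (unmask 8394986 ∩ σ⁻¹ • unmask oc.1) := by
      rw [Finset.smul_finset_inter, smul_inv_smul]
    have h2 : pc (mask A &&& oc.1) = (A ∩ unmask oc.1).card := by
      rw [card_eq_pc, mask_inter, mask_unmask (hoct oc hoc).1]
    rw [h2, h1, Finset.card_smul_finset]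
    exact Nat.even_iff.1 (Cfsg.Agent.Lib.Helper8.golay_inter_even hc1 (hoct' oc hoc).2.1)
  have hin : ∀ oc ∈ famM22, (none : GolayPt) ∈ unmask oc.1 ∧ (some 0 : GolayPt) ∈ unmask oc.1 := by
    decide +kernel
  rcases dual_M22 (mask_lt A) hpar with h | h
  · left
    apply mem_M24_of_family σ _ selM22 _ hspan
    intro o ho
    rcases List.mem_append.1 ho with ho | ho
    · obtain ⟨oc, hoc, rfl⟩ := List.mem_map.1 ho
      exact ⟨(hoct oc hoc).1, (hoct oc hoc).2.1⟩
    · rw [List.mem_singleton] at ho
      subst ho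
      exact ⟨by norm_num, (mem_supports_iff _).2 h⟩
  · right
    apply mem_M24_of_family _ _ selM22 _ hspan
    intro o ho
    rcases List.mem_append.1 ho with ho | ho
    · obtain ⟨oc, hoc, rfl⟩ := List.mem_map.1 ho
      refine ⟨(hoct oc hoc).1, ?_⟩
      rw [mul_smul, swap_smul_both]
      · exact (hoct oc hoc).2.1
      · rw [← hσ0]; exact Finset.smul_mem_smul_finset (hin oc hoc).1
      · rw [← hσ1]; exact Finset.smul_mem_smul_finset (hin oc hoc).2
    · rw [List.mem_singleton] at ho
      subst ho
      refine ⟨by norm_num, ?_⟩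
      have hn : (none : GolayPt) ∈ A := by
        rw [← hσ0]; exact Finset.smul_mem_smul_finset (by decide +kernel)
      have hz : (some 0 : GolayPt) ∉ A := by
        intro hc
        obtain ⟨y, hy, hy'⟩ := Finset.mem_smul_finset.1 hc
        have : y = some 0 := σ.injective (hy'.trans hσ1.symm)
        subst this
        revert hy
        decide +kernel
      rw [mul_smul, ← hA, swap_smul_one (by decide) hn hz, mem_supports_iff, mask_symmDiff]
      have : mask ({none, some 0} : Finset GolayPt) = 8388609 := by decide +kernel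
      rw [this]; exact h

theorem gamma_mem : permOf cGamma ∈ M24 := permOf_mem_M24 (by decide +kernel)

theorem gamma_none : permOf cGamma none = some 0 := by
  rw [permOf_apply (by decide +kernel)]; decide +kernel

theorem gamma_zero : permOf cGamma (some 0) = none := by
  rw [permOf_apply (by decide +kernel)]; decide +kernel

/-- the outer automorphism -/
noncomputable def tauM22 : Equiv.Perm GolayPt := Equiv.swap none (some 0) * permOf cGamma

theorem tau_none : tauM22 none = none := by
  rw [tauM22, Equiv.Perm.mul_apply, gamma_none, Equiv.swap_apply_right]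

theorem tau_zero : tauM22 (some 0) = some 0 := by
  rw [tauM22, Equiv.Perm.mul_apply, gamma_zero, Equiv.swap_apply_left]

theorem mem_fixer_L2 {g : Equiv.Perm GolayPt} (hg : g ∈ M24) (h0 : g none = none)
    (h1 : g (some 0) = some 0) : g ∈ fixer L2 := by
  apply mem_fixer_of_pts hg [0, 23]
  intro b hb
  simp only [List.mem_cons, List.not_mem_nil, or_false] at hb
  rcases hb with rfl | rfl
  · exact ⟨by norm_num, h1⟩
  · exact ⟨by norm_num, h0⟩

theorem swap_notMem : Equiv.swap (none : GolayPt) (some 0) ∉ M24 := by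
  intro h
  have h1 : Equiv.swap (none : GolayPt) (some 0) ≠ 1 := by
    intro hc
    have := congrArg (fun t : Equiv.Perm GolayPt => t none) hc
    simp at this
  have := card_fixedPts_le h h1
  revert this
  decide +kernel

theorem tau_normalizes : ∀ g ∈ fixer L2, tauM22 * g * tauM22⁻¹ ∈ fixer L2 := by
  intro g hg
  have g0 := fixer_fix hg (i := 23) (by norm_num) (by simp [L2])
  have g1 := fixer_fix hg (i := 0) (by norm_num) (by simp [L2])
  set k := permOf cGamma * g * (permOf cGamma)⁻¹ with hk
  have hkM : k ∈ M24 := M24.mul_mem (M24.mul_mem gamma_mem hg.1) (M24.inv_mem gamma_mem)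
  have k0 : k none = none := by
    have h1 : (permOf cGamma)⁻¹ none = some 0 := by
      rw [Equiv.Perm.inv_eq_iff_eq]; exact gamma_zero.symm
    rw [hk, Equiv.Perm.mul_apply, Equiv.Perm.mul_apply, h1]
    have : g (some 0) = some 0 := g1
    rw [this, gamma_zero]
  have k1 : k (some 0) = some 0 := by
    have h1 : (permOf cGamma)⁻¹ (some 0) = none := by
      rw [Equiv.Perm.inv_eq_iff_eq]; exact gamma_none.symm
    rw [hk, Equiv.Perm.mul_apply, Equiv.Perm.mul_apply, h1]
    have : g none = none := g0
    rw [this, gamma_none]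
  have : tauM22 * g * tauM22⁻¹ = k := by
    have h1 : tauM22 * g * tauM22⁻¹ = Equiv.swap none (some 0) * k * (Equiv.swap none (some 0))⁻¹ := by
      rw [tauM22, hk]; group
    rw [h1, ← swap_conj_of_fix k0 k1]
    simp
  rw [this]
  exact mem_fixer_L2 hkM k0 k1

theorem card_out_M22 : Nat.card (Cfsg.Out Spor.M22) = 2 := by
  rw [M22_eq_fixer]
  apply autHyp_M22.card_out_eq_two tauM22
  · intro x hx
    have : x = none ∨ x = some 0 := by
      by_contra hcon
      push Not at hcon
      exact hx hcon
    rcases this with rfl | rfl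
    · exact tau_none
    · exact tau_zero
  · exact tau_normalizes
  · intro g hg
    have := normalizes_inv tau_normalizes g hg
    rwa [inv_inv] at this
  · intro h
    apply swap_notMem
    have := M24.mul_mem h.1 (M24.inv_mem gamma_mem)
    rwa [tauM22, mul_inv_cancel_right] at this
  · intro σ hσS hσ
    have s0 : σ none = none := hσS _ (by simp)
    have s1 : σ (some 0) = some 0 := hσS _ (by simp)
    rcases normalizer_M22 s0 s1 hσ with h | h
    · left; exact mem_fixer_L2 h s0 s1
    · right
      apply mem_fixer_L2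
      · have : σ * tauM22 = Equiv.swap none (some 0) * σ * permOf cGamma := by
          rw [tauM22, ← mul_assoc, swap_conj_of_fix s0 s1]
        rw [this]
        exact M24.mul_mem h gamma_mem
      · rw [Equiv.Perm.mul_apply, tau_none, s0]
      · rw [Equiv.Perm.mul_apply, tau_zero, s1]

end Cfsg.Agent.Lib.Helper7
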