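import Cfsg.Agent.Lib.Helper7.M12ClaimA
import Cfsg.Agent.Lib.Helper7.OutM22

/-!
# The outer automorphism groups of `M12` (order 2) and `M11` (trivial)
-/

set_option autoImplicit false
set_option linter.style.haveILetI false

namespace Cfsg.Agent.Lib.Helper7

open Cfsg Cfsg.Agent.Lib.Helper27 MulAction
open scoped Pointwise

/-- building `AutHyp` from the recognition of point stabilisers by their order -/
theorem autHyp_of_claimA' {Ω : Type*} [Finite Ω] (G : Subgroup (Equiv.Perm Ω)) (S : Set Ω)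
    (hA : ∀ x ∈ S, ∀ K : Subgroup (Equiv.Perm Ω), K ≤ G → Nat.card K = Nat.card (stabilizer G x) →
      ∃ q ∈ S, (∀ g ∈ K, g q = q) ∧ Nat.card (stabilizer G q) = Nat.card K)
    (H2 : ∀ x ∈ S, ∀ y ∈ S, stabilizer G x = stabilizer G y → x = y)
    (H3 : ∀ x, x ∉ S → ∀ g ∈ G, g x = x) : AutHyp G S where
  H1 := by
    intro φ x hx
    set K' := (stabilizer G x).map φ.toMonoidHom with hK'
    have c1 : Nat.card K' = Nat.card (stabilizer G x) :=
      Subgroup.card_map_of_injective φ.injective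
    have c2 : Nat.card (K'.map G.subtype) = Nat.card K' :=
      Subgroup.card_map_of_injective G.subtype_injective
    obtain ⟨q, hq, hfix, hcard⟩ := hA x hx (K'.map G.subtype)
      (by rintro _ ⟨k, _, rfl⟩; exact k.2) (c2.trans c1)
    refine ⟨q, hq, ?_⟩
    apply Subgroup.eq_of_le_of_card_ge
    · intro k hk
      exact hfix k ⟨k, hk, rfl⟩
    · rw [hcard, c2]
  H2 := H2
  H3 := H3

theorem squareDodecad_eq_DD : Spor.squareDodecad = DD := by
  unfold Spor.squareDodecad
  rw [qrWord_eq, support₂_wordOf]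
  rfl

theorem M12_eq_fixer : Spor.M12 = fixer D0 := by
  ext g
  rw [Spor.M12, Subgroup.mem_inf, mem_stabilizer_iff, squareDodecad_eq_DD, mem_fixer]
  simp [D0, DD]

theorem M11_eq_fixer : Spor.M11 = fixer D1 := by
  ext g
  have h0 : (some 0 : GolayPt) = pt 0 := by decide
  have e : fixer D1 = fixer (2 ^ 0 :: D0) := rfl
  rw [Spor.M11, Subgroup.mem_inf, M12_eq_fixer, mem_stabilizer_iff, e, mem_fixer_cons,
    smul_unmask_two_pow (by norm_num), h0]
  rfl

theorem mem_DD_or_DC (x : GolayPt) : x ∈ DD ∨ x ∈ DC := by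
  by_cases h : x ∈ DD
  · exact Or.inl h
  · exact Or.inr (mem_DC_iff.2 h)

theorem card_stab_fixer_D0 (x : GolayPt) :
    Nat.card ↥(fixer D0 ⊓ stabilizer (Equiv.Perm GolayPt) x) = 7920 := by
  have h := card_orb (fixer D0) x
  rcases mem_DD_or_DC x with hx | hx
  · rw [orb_fixer_eq dtrans0 dinv0 hx, card_unmask, card_fixer_D0,
      show pc 340831 = 12 by decide +kernel] at h
    omega
  · rw [orb_fixer_eq d0ctrans dcinv0 hx, card_unmask, card_fixer_D0,
      show pc 16436384 = 12 by decide +kernel] at h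
    omega

theorem mem_340830 {x : GolayPt} (hx : x ∈ DD) (h0 : x ≠ pt 0) : x ∈ unmask 340830 := by
  revert x; decide +kernel

theorem card_stab_fixer_D1_a {x : GolayPt} (hx : x ∈ DD) (h0 : x ≠ pt 0) :
    Nat.card ↥(fixer D1 ⊓ stabilizer (Equiv.Perm GolayPt) x) = 720 := by
  have h := card_orb (fixer D1) x
  rw [orb_fixer_eq dtrans1 dinv1 (mem_340830 hx h0), card_unmask, card_fixer_D1,
    show pc 340830 = 11 by decide +kernel] at h
  omega

theorem card_stab_fixer_D1_b {x : GolayPt} (hx : x ∈ DC) :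
    Nat.card ↥(fixer D1 ⊓ stabilizer (Equiv.Perm GolayPt) x) = 660 := by
  have h := card_orb (fixer D1) x
  rw [orb_fixer_eq (L := D1) etrans0 (dcinv0.mono (a := 2 ^ 0)) hx, card_unmask, card_fixer_D1,
    show pc 16436384 = 12 by decide +kernel] at h
  omega

theorem eq_of_filter_card_one {U : Finset GolayPt} {g : Equiv.Perm GolayPt}
    (h : (U.filter fun x => g x = x).card = 1) {x y : GolayPt} (hx : x ∈ U) (hy : y ∈ U)
    (hgx : g x = x) (hgy : g y = y) : x = y := by
  obtain ⟨a, ha⟩ := Finset.card_eq_one.1 h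
  have hx' : x ∈ U.filter fun x => g x = x := Finset.mem_filter.2 ⟨hx, hgx⟩
  have hy' : y ∈ U.filter fun x => g x = x := Finset.mem_filter.2 ⟨hy, hgy⟩
  rw [ha, Finset.mem_singleton] at hx' hy'
  rw [hx', hy']

/-- the stabiliser of a point of the dodecad moves every point outside -/
theorem exists_move_DC {x y : GolayPt} (hx : x ∈ DD) (hy : y ∈ DC) :
    ∃ g ∈ fixer D0, g x = x ∧ g y ≠ y := by
  obtain ⟨k, hk, hkx⟩ := dtrans0 x hx
  have hy0 : k⁻¹ y ∈ DC := DC_inv le_rfl k⁻¹ ((fixer D0).inv_mem hk) y hy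
  obtain ⟨y1, hy1, hne⟩ := Finset.exists_mem_ne (s := DC) (by rw [card_DC]; norm_num) (k⁻¹ y)
  obtain ⟨g1, hg1, hg1y⟩ := etrans0 _ hy0
  obtain ⟨g2, hg2, hg2y⟩ := etrans0 _ hy1
  have hh : g2 * g1⁻¹ ∈ fixer D1 := (fixer D1).mul_mem hg2 ((fixer D1).inv_mem hg1)
  have hh0 : (g2 * g1⁻¹) (pt 0) = pt 0 := fixer_fix hh (i := 0) (by norm_num) (by simp [D1])
  have hhy : (g2 * g1⁻¹) (k⁻¹ y) = y1 := by
    rw [Equiv.Perm.mul_apply, ← hg1y]
    simpa using hg2y
  refine ⟨k * (g2 * g1⁻¹) * k⁻¹,
    (fixer D0).mul_mem ((fixer D0).mul_mem hk (fixer_D1_le hh)) ((fixer D0).inv_mem hk), ?_, ?_⟩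
  · rw [Equiv.Perm.mul_apply, Equiv.Perm.mul_apply, ← hkx]
    simp only [Equiv.Perm.coe_inv, Equiv.symm_apply_apply]
    rw [hh0]
  · rw [Equiv.Perm.mul_apply, Equiv.Perm.mul_apply, hhy]
    intro hc
    apply hne
    rw [← hc]
    simp

theorem autHyp_M12 : AutHyp (fixer D0) Set.univ := by
  haveI : Fact (Nat.Prime 11) := ⟨by norm_num⟩
  apply autHyp_of_claimA'
  · intro x _ K hK hc
    rw [card_stabilizer_subgroup, card_stab_fixer_D0] at hc
    obtain ⟨q, hq⟩ := claimA_M12 K hK hc
    exact ⟨q, Set.mem_univ _, hq, by rw [card_stabilizer_subgroup, card_stab_fixer_D0, hc]⟩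
  · intro x _ y _ hxy
    obtain ⟨g, hgx, hgo⟩ := exists_orderOf_stab (fixer D0) x 11
      (by rw [card_stabilizer_subgroup, card_stab_fixer_D0]; norm_num)
    have hgy : g • y = y := by
      have : g ∈ stabilizer (fixer D0) y := by rw [← hxy]; exact hgx
      exact this
    have hf := fix11 g.2 hgo
    have key : ∀ {a b : GolayPt}, a ∈ DD → b ∈ DC →
        stabilizer (fixer D0) a = stabilizer (fixer D0) b → False := by
      intro a b ha hb hab
      obtain ⟨k, hk, hka, hkb⟩ := exists_move_DC ha hb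
      have : (⟨k, hk⟩ : fixer D0) ∈ stabilizer (fixer D0) b := by rw [← hab]; exact hka
      exact hkb this
    rcases mem_DD_or_DC x with hx | hx <;> rcases mem_DD_or_DC y with hy | hy
    · exact eq_of_filter_card_one hf.1 hx hy hgx hgy
    · exact (key hx hy hxy).elim
    · exact (key hy hx hxy.symm).elim
    · exact eq_of_filter_card_one hf.2 hx hy hgx hgy
  · intro x hx
    exact absurd (Set.mem_univ x) hx

theorem smul_eq_of_maps {g : Equiv.Perm GolayPt} {A : Finset GolayPt} (h : ∀ x ∈ A, g x ∈ A) :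
    g • A = A := by
  apply Finset.eq_of_subset_of_card_le
  · intro y hy
    obtain ⟨x, hx, rfl⟩ := Finset.mem_smul_finset.1 hy
    exact h x hx
  · rw [Finset.card_smul_finset]

theorem mem_fixer_D0 {g : Equiv.Perm GolayPt} (hg : g ∈ M24) (h : ∀ x ∈ DD, g x ∈ DD) :
    g ∈ fixer D0 := by
  rw [mem_fixer]
  refine ⟨hg, fun m hm => ?_⟩
  simp only [D0, List.mem_singleton] at hm
  subst hm
  exact smul_eq_of_maps h

theorem gamma_DD : ∀ x ∈ DD, permOf cGamma x ∈ DC := by
  intro x hx
  rw [permOf_apply (by decide +kernel)]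
  revert x
  decide +kernel

theorem gamma_DC : ∀ x ∈ DC, permOf cGamma x ∈ DD := by
  intro x hx
  rw [permOf_apply (by decide +kernel)]
  revert x
  decide +kernel

theorem gamma_inv_DD : ∀ x ∈ DD, (permOf cGamma)⁻¹ x ∈ DC := by
  intro x hx
  rw [mem_DC_iff]
  intro hc
  have := gamma_DD _ hc
  rw [Equiv.Perm.coe_inv, Equiv.apply_symm_apply, mem_DC_iff] at this
  exact this hx

theorem gamma_normalizes : ∀ g ∈ fixer D0, permOf cGamma * g * (permOf cGamma)⁻¹ ∈ fixer D0 := by
  intro g hg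
  apply mem_fixer_D0 (M24.mul_mem (M24.mul_mem gamma_mem hg.1) (M24.inv_mem gamma_mem))
  intro x hx
  rw [Equiv.Perm.mul_apply, Equiv.Perm.mul_apply]
  exact gamma_DC _ (DC_inv le_rfl g hg _ (gamma_inv_DD x hx))

theorem card_out_M12 : Nat.card (Cfsg.Out Spor.M12) = 2 := by
  rw [M12_eq_fixer]
  have h0D : pt 0 ∈ DD := by decide +kernel
  apply autHyp_M12.card_out_eq_two (permOf cGamma)
  · intro x hx
    exact absurd (Set.mem_univ x) hx
  · exact gamma_normalizes
  · intro g hg
    have := normalizes_inv gamma_normalizes g hg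
    rwa [inv_inv] at this
  · intro h
    have h1 := DD_inv le_rfl _ h _ h0D
    exact mem_DC_iff.1 (gamma_DD _ h0D) h1
  · intro σ _ hσ
    have hσM := mem_M24_of_normalizes_M12 hσ
    have hσ' := normalizes_inv hσ
    rcases mem_DD_or_DC (σ (pt 0)) with h | h
    · left
      apply mem_fixer_D0 hσM
      intro x hx
      obtain ⟨k, hk, rfl⟩ := dtrans0 x hx
      have := DD_inv le_rfl _ (hσ k hk) _ h
      simpa using this
    · right
      apply mem_fixer_D0 (M24.mul_mem hσM gamma_mem)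
      intro x hx
      rw [Equiv.Perm.mul_apply]
      have hy := gamma_DD x hx
      set y := permOf cGamma x with hy'
      by_contra hc
      have hc' : σ y ∈ DC := mem_DC_iff.2 hc
      obtain ⟨k1, hk1, hk1y⟩ := d0ctrans _ h
      obtain ⟨k2, hk2, hk2y⟩ := d0ctrans _ hc'
      have hk : k2 * k1⁻¹ ∈ fixer D0 := (fixer D0).mul_mem hk2 ((fixer D0).inv_mem hk1)
      have hky : (k2 * k1⁻¹) (σ (pt 0)) = σ y := by
        rw [Equiv.Perm.mul_apply, ← hk1y]
        simpa using hk2y
      have := DD_inv le_rfl _ (hσ' _ hk) _ h0D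
      rw [inv_inv, Equiv.Perm.mul_apply, Equiv.Perm.mul_apply, hky, Equiv.Perm.coe_inv,
        Equiv.symm_apply_apply] at this
      exact mem_DC_iff.1 hy this

theorem autHyp_M11 : AutHyp (fixer D1) {x | x ≠ pt 0} := by
  haveI : Fact (Nat.Prime 11) := ⟨by norm_num⟩
  haveI : Fact (Nat.Prime 5) := ⟨by norm_num⟩
  have h0D : pt 0 ∈ DD := by decide +kernel
  apply autHyp_of_claimA'
  · intro x hx K hK hc
    rw [card_stabilizer_subgroup] at hc
    rcases mem_DD_or_DC x with hxD | hxD
    · rw [card_stab_fixer_D1_a hxD hx] at hc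
      obtain ⟨q, hqD, hq0, hq⟩ := claimA_M11_a K hK hc
      exact ⟨q, hq0, hq, by rw [card_stabilizer_subgroup, card_stab_fixer_D1_a hqD hq0, hc]⟩
    · rw [card_stab_fixer_D1_b hxD] at hc
      obtain ⟨q, hqD, hq⟩ := claimA_M11_b K hK hc
      refine ⟨q, ?_, hq, by rw [card_stabilizer_subgroup, card_stab_fixer_D1_b hqD, hc]⟩
      intro h
      exact mem_DC_iff.1 hqD (h ▸ h0D)
  · intro x hx y hy hxy
    have hcard : Nat.card (stabilizer (fixer D1) x) = Nat.card (stabilizer (fixer D1) y) := by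
      rw [hxy]
    rw [card_stabilizer_subgroup, card_stabilizer_subgroup] at hcard
    rcases mem_DD_or_DC x with hxD | hxD <;> rcases mem_DD_or_DC y with hyD | hyD
    · obtain ⟨g, hgx, hgo⟩ := exists_orderOf_stab (fixer D1) x 5
        (by rw [card_stabilizer_subgroup, card_stab_fixer_D1_a hxD hx]; norm_num)
      have hgy : g • y = y := by
        have : g ∈ stabilizer (fixer D1) y := by rw [← hxy]; exact hgx
        exact this
      have hf := (fix5 (fixer_D1_le g.2) hgo).1
      by_contra hne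
      have hsub : ({pt 0, x, y} : Finset GolayPt) ⊆
          DD.filter fun p => (g : Equiv.Perm GolayPt) p = p := by
        intro p hp
        simp only [Finset.mem_insert, Finset.mem_singleton] at hp
        rw [Finset.mem_filter]
        rcases hp with rfl | rfl | rfl
        · exact ⟨h0D, fixer_fix g.2 (i := 0) (by norm_num) (by simp [D1])⟩
        · exact ⟨hxD, hgx⟩
        · exact ⟨hyD, hgy⟩
      have h3 : ({pt 0, x, y} : Finset GolayPt).card = 3 := by
        rw [Finset.card_insert_of_notMem, Finset.card_insert_of_notMem, Finset.card_singleton]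
        · simpa using hne
        · simp only [Finset.mem_insert, Finset.mem_singleton, not_or]
          exact ⟨Ne.symm hx, Ne.symm hy⟩
      have := Finset.card_le_card hsub
      omega
    · rw [card_stab_fixer_D1_a hxD hx, card_stab_fixer_D1_b hyD] at hcard
      omega
    · rw [card_stab_fixer_D1_b hxD, card_stab_fixer_D1_a hyD hy] at hcard
      omega
    · obtain ⟨g, hgx, hgo⟩ := exists_orderOf_stab (fixer D1) x 11
        (by rw [card_stabilizer_subgroup, card_stab_fixer_D1_b hxD]; norm_num)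
      have hgy : g • y = y := by
        have : g ∈ stabilizer (fixer D1) y := by rw [← hxy]; exact hgx
        exact this
      exact eq_of_filter_card_one (fix11 (fixer_D1_le g.2) hgo).2 hxD hyD hgx hgy
  · intro x hx g hg
    have : x = pt 0 := by simpa using hx
    subst this
    exact fixer_fix hg (i := 0) (by norm_num) (by simp [D1])

theorem card_out_M11 : Nat.card (Cfsg.Out Spor.M11) = 1 := by
  rw [M11_eq_fixer]
  have h0D : pt 0 ∈ DD := by decide +kernel
  apply autHyp_M11.card_out_eq_one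
  intro σ hσS hσ
  have hσM := mem_M24_of_normalizes_M11 hσ
  have hσ' := normalizes_inv hσ
  have hσ0 : σ (pt 0) = pt 0 := hσS _ (by simp)
  have e : fixer D1 = fixer (2 ^ 0 :: D0) := rfl
  rw [e, mem_fixer_cons, smul_unmask_two_pow (by norm_num)]
  refine ⟨mem_fixer_D0 hσM ?_, hσ0⟩
  intro x hx
  by_cases hx0 : x = pt 0
  · rw [hx0, hσ0]; exact h0D
  by_contra hc
  have hc' : σ x ∈ DC := mem_DC_iff.2 hc
  have hmaps : ∀ y ∈ DC, σ⁻¹ y ∈ unmask 340830 := by
    intro y hy
    obtain ⟨k1, hk1, hk1y⟩ := etrans0 _ hc'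
    obtain ⟨k2, hk2, hk2y⟩ := etrans0 _ hy
    have hk : k2 * k1⁻¹ ∈ fixer D1 := (fixer D1).mul_mem hk2 ((fixer D1).inv_mem hk1)
    have hky : (k2 * k1⁻¹) (σ x) = y := by
      rw [Equiv.Perm.mul_apply, ← hk1y]
      simpa using hk2y
    have := dinv1.apply_mem (mem_340830 hx hx0) (hσ' _ hk)
    rwa [inv_inv, Equiv.Perm.mul_apply, Equiv.Perm.mul_apply, hky] at this
  have := Finset.card_le_card_of_injOn (fun y => σ⁻¹ y) hmaps (σ⁻¹.injective.injOn)
  rw [card_DC, card_unmask, show pc 340830 = 11 by decide +kernel] at this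
  omega

end Cfsg.Agent.Lib.Helper7
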