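import Cfsg.Agent.Lib.Helper7.OutM23
import Cfsg.Agent.Lib.Helper8.Golay

/-!
# The outer automorphism group of `M22` has order 2
-/

set_option autoImplicit false
set_option linter.style.haveILetI false

namespace Cfsg.Agent.Lib.Helper7

open Cfsg Cfsg.Agent.Lib.Helper27 MulAction
open scoped Pointwise

theorem normalizes_inv {Ω : Type*} [Finite Ω] {G : Subgroup (Equiv.Perm Ω)} {σ : Equiv.Perm Ω}
    (h : ∀ g ∈ G, σ * g * σ⁻¹ ∈ G) : ∀ g ∈ G, σ⁻¹ * g * σ⁻¹⁻¹ ∈ G := by
  let f : G → G := fun g => ⟨σ * g * σ⁻¹, h g g.2⟩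
  have hinj : Function.Injective f := by
    intro a b hab
    have := congrArg Subtype.val hab
    apply Subtype.ext
    simpa [f] using this
  have hsurj := Finite.injective_iff_surjective.1 hinj
  intro g hg
  obtain ⟨k, hk⟩ := hsurj ⟨g, hg⟩
  have h1 : σ * (k : Equiv.Perm Ω) * σ⁻¹ = g := congrArg Subtype.val hk
  rw [← h1]
  simp [mul_assoc]

/-- a subgroup acting faithfully on an invariant set embeds in its symmetric group -/
theorem card_dvd_factorial_of_faithful {Ω : Type*} [Fintype Ω] [DecidableEq Ω]
    (K : Subgroup (Equiv.Perm Ω)) (R : Finset Ω)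
    (hR : ∀ g ∈ K, ∀ x ∈ R, g x ∈ R) (hf : ∀ g ∈ K, (∀ x ∈ R, g x = x) → g = 1) :
    Nat.card K ∣ R.card.factorial := by
  let ρ : K →* Equiv.Perm {x // x ∈ R} :=
    { toFun := fun g => (g : Equiv.Perm Ω).subtypePermOfFintype (hR g g.2)
      map_one' := by ext x; rfl
      map_mul' := by intro a b; ext x; rfl }
  have hinj : Function.Injective ρ := by
    rw [injective_iff_map_eq_one]
    intro g hg
    apply Subtype.ext
    apply hf g g.2
    intro x hx
    have := congrArg (fun t : Equiv.Perm {x // x ∈ R} => ((t ⟨x, hx⟩ : {x // x ∈ R}) : Ω)) hg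
    exact this
  have := Subgroup.card_dvd_of_injective ρ hinj
  rwa [Nat.card_eq_fintype_card (α := Equiv.Perm {x // x ∈ R}), Fintype.card_perm,
    Fintype.card_coe] at this

theorem M22_eq_fixer : Spor.M22 = fixer L2 := by
  ext g
  rw [Spor.M22, Subgroup.mem_inf, M23_eq_fixer, mem_stabilizer_iff]
  show _ ↔ g ∈ fixer (2 ^ 0 :: L1)
  rw [mem_fixer_cons, smul_unmask_two_pow (by norm_num)]
  rfl

theorem mem_A2 {x : GolayPt} (h1 : x ≠ none) (h2 : x ≠ some 0) : x ∈ unmask 8388606 := by
  have : ∀ q : GolayPt, q ≠ none → q ≠ some 0 → q ∈ unmask 8388606 := by decide +kernel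
  exact this x h1 h2

theorem card_stab_fixer_L2 {x : GolayPt} (h1 : x ≠ none) (h2 : x ≠ some 0) :
    Nat.card ↥(fixer L2 ⊓ stabilizer (Equiv.Perm GolayPt) x) = 20160 := by
  have h := card_orb (fixer L2) x
  rw [orb_fixer_eq trans2 inv2 (mem_A2 h1 h2), card_unmask, card_fixer_L2,
    show pc 8388606 = 22 by decide +kernel] at h
  omega

theorem fixes_L2 {K : Subgroup (Equiv.Perm GolayPt)} (hK : K ≤ fixer L2) :
    Fixes K {some 0, none} := by
  intro g hg x hx
  simp only [Finset.mem_insert, Finset.mem_singleton] at hx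
  rcases hx with rfl | rfl
  · exact fixer_fix (hK hg) (i := 0) (by norm_num) (by simp [L2])
  · exact fixer_fix (hK hg) (i := 23) (by norm_num) (by simp [L2])

theorem card_base2 : ({some 0, none} : Finset GolayPt).card = 2 := by decide

theorem claimA_M22 (K : Subgroup (Equiv.Perm GolayPt)) (hK : K ≤ fixer L2)
    (hc : Nat.card K = 20160) : ∃ q, (q ≠ none ∧ q ≠ some 0) ∧ ∀ g ∈ K, g q = q := by
  haveI : Fact (Nat.Prime 7) := ⟨by norm_num⟩
  haveI : Fact (Nat.Prime 5) := ⟨by norm_num⟩
  have hKM : K ≤ M24 := hK.trans (fixer_le_M24 L2)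
  have F2 := fixes_L2 hK
  obtain ⟨z, hzK, hzo⟩ := exists_orderOf K 7 (by rw [hc]; norm_num)
  obtain ⟨y, hyK, hyo⟩ := exists_orderOf K 5 (by rw [hc]; norm_num)
  have hzf := card_fixedPts_7 (hKM hzK) hzo
  have hyf := card_fixedPts_5 (hKM hyK) hyo
  have : ∃ q ∈ fixedPts z, q ∉ ({some 0, none} : Finset GolayPt) := by
    by_contra hcon
    push Not at hcon
    have := Finset.card_le_card (fun q hq => hcon q hq : fixedPts z ⊆ {some 0, none})
    rw [hzf, card_base2] at this
    omega
  obtain ⟨q, hqz, hq⟩ := this
  obtain ⟨r, hr1, hr2, hr3⟩ := orb_mod F2 hq hzK 7 hzo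
  obtain ⟨r', hr1', hr2', -⟩ := orb_mod F2 hq hyK 5 hyo
  have hr := hr3 (mem_fixedPts.1 hqz)
  have hle := orb_card_add_le F2 hq
  have hco := card_orb K q
  rw [hzf, card_base2] at hr2
  rw [hyf, card_base2] at hr2'
  rw [card_base2] at hle
  rw [hc] at hco
  have h1 : (orb K q).card = 1 := by
    have hr1 : r = 1 := by omega
    subst hr1
    have hcases : (orb K q).card = 1 ∨ (orb K q).card = 8 ∨ (orb K q).card = 15 ∨
        (orb K q).card = 22 := by omega
    rcases hcases with h | h | h | h
    · exact h
    · rw [h] at hr1'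
      omega
    · exfalso
      -- the remaining seven points
      set R : Finset GolayPt := (orb K q ∪ {some 0, none})ᶜ with hRdef
      have hU : (orb K q ∪ {some 0, none}).card = 17 := by
        rw [Finset.card_union_of_disjoint (orb_disjoint F2 hq), h, card_base2]
      have hRc : R.card = 7 := by
        rw [hRdef, Finset.card_compl, hU]; decide
      have hUinv : ∀ g ∈ K, ∀ x ∈ orb K q ∪ {some 0, none}, g x ∈ orb K q ∪ {some 0, none} := by
        intro g hg x hx
        rcases Finset.mem_union.1 hx with hx | hx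
        · exact Finset.mem_union_left _ (orb_invariant hg x hx)
        · rw [F2 g hg x hx]; exact Finset.mem_union_right _ hx
      have hRinv : ∀ g ∈ K, ∀ x ∈ R, g x ∈ R := by
        intro g hg x hx
        rw [hRdef, Finset.mem_compl] at hx ⊢
        intro hgx
        apply hx
        have := hUinv g⁻¹ (K.inv_mem hg) _ hgx
        simpa using this
      have hfaith : ∀ g ∈ K, (∀ x ∈ R, g x = x) → g = 1 := by
        intro g hg hfix
        by_contra hne
        have h8 := card_fixedPts_le (hKM hg) hne
        have hsub : R ∪ {some 0, none} ⊆ fixedPts g := by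
          intro x hx
          rcases Finset.mem_union.1 hx with hx | hx
          · exact mem_fixedPts.2 (hfix x hx)
          · exact mem_fixedPts.2 (F2 g hg x hx)
        have hdis : Disjoint R {some 0, none} := by
          rw [Finset.disjoint_left]
          intro x hx hx'
          rw [hRdef, Finset.mem_compl] at hx
          exact hx (Finset.mem_union_right _ hx')
        have := Finset.card_le_card hsub
        rw [Finset.card_union_of_disjoint hdis, hRc, card_base2] at this
        omega
      have := card_dvd_factorial_of_faithful K R hRinv hfaith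
      rw [hc, hRc] at this
      revert this
      decide
    · rw [h] at hco
      omega
  refine ⟨q, ?_, fixes_of_orb_card_eq_one h1⟩
  simp only [Finset.mem_insert, Finset.mem_singleton, not_or] at hq
  exact ⟨hq.2, hq.1⟩

theorem autHyp_M22 : AutHyp (fixer L2) {x | x ≠ none ∧ x ≠ some 0} := by
  haveI : Fact (Nat.Prime 7) := ⟨by norm_num⟩
  apply autHyp_of_claimA
  · intro x hx K hK hc
    rw [card_stabilizer_subgroup, card_stab_fixer_L2 hx.1 hx.2] at hc
    obtain ⟨q, hq, hfix⟩ := claimA_M22 K hK hc
    exact ⟨q, hq, hfix, by rw [card_stabilizer_subgroup, card_stab_fixer_L2 hq.1 hq.2, hc]⟩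
  · intro x hx
    obtain ⟨g, hgx, hgo⟩ := exists_orderOf_stab (fixer L2) x 7
      (by rw [card_stabilizer_subgroup, card_stab_fixer_L2 hx.1 hx.2]; norm_num)
    refine ⟨g, hgx, fun y hy hgy => ?_⟩
    have h1 := card_fixedPts_7 g.2.1 hgo
    by_contra hne
    have hsub : ({y, x, some 0, none} : Finset GolayPt) ⊆ fixedPts (g : Equiv.Perm GolayPt) := by
      intro p hp
      simp only [Finset.mem_insert, Finset.mem_singleton] at hp
      rcases hp with rfl | rfl | rfl | rfl
      · exact mem_fixedPts.2 hgy
      · exact mem_fixedPts.2 hgx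
      · exact mem_fixedPts.2 (fixer_fix g.2 (i := 0) (by norm_num) (by simp [L2]))
      · exact mem_fixedPts.2 (fixer_fix g.2 (i := 23) (by norm_num) (by simp [L2]))
    have h3 : ({y, x, some 0, none} : Finset GolayPt).card = 4 := by
      rw [Finset.card_insert_of_notMem, Finset.card_insert_of_notMem, card_base2]
      · simp only [Finset.mem_insert, Finset.mem_singleton, not_or]
        exact ⟨hx.2, hx.1⟩
      · simp only [Finset.mem_insert, Finset.mem_singleton, not_or]
        exact ⟨hne, hy.2, hy.1⟩
    have := Finset.card_le_card hsub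
    omega
  · intro x hx g hg
    have : x = none ∨ x = some 0 := by
      by_contra hcon
      push Not at hcon
      exact hx hcon
    rcases this with rfl | rfl
    · exact fixer_fix hg (i := 23) (by norm_num) (by simp [L2])
    · exact fixer_fix hg (i := 0) (by norm_num) (by simp [L2])

/-! ### the normaliser -/

def famM22 : List (ℕ × ℕ) := [(8391797, 980747918883362939279568022996060640), (8398155, 971573502535564247891880895701956640), (8412681, 980337198607347817318270043156498688), (8421811, 978239198764604640668953934463309856), (8471941, 961199045237172820687427307904895392), (8524371, 969023153417067326868249600933935136), (8657159, 974992129703708925382840134133254176), (8922769, 966513373544333627019727408973983168), (9440193, 958572209746660633463095447753119840), (10486557, 969231174250762110498729277811427488), (12587685, 984522506754647797731288993272236544)]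
def selM22 : List ℕ := [1137, 1176, 3403, 1761, 2485, 2918, 3791, 495, 989, 1971, 2840, 3647]

theorem famM22_check : allList (famCheck L2) famM22 = true := by decide +kernel

theorem pc_and_xor_mod {a b f : ℕ} (ha : a < 2 ^ 24) (hb : b < 2 ^ 24) :
    pc ((a ^^^ b) &&& f) % 2 = (pc (a &&& f) + pc (b &&& f)) % 2 := by
  have h1 : (a ^^^ b) &&& f = (a &&& f) ^^^ (b &&& f) := Nat.and_xor_distrib_right
  have h2 := pc_xor_add (lt_of_le_of_lt (Nat.and_le_left (n := a) (m := f)) ha)
    (lt_of_le_of_lt (Nat.and_le_left (n := b) (m := f)) hb)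
  rw [h1]
  omega

theorem pc_and_even {c f : ℕ} (hc : isCode c = true) (hf : isCode f = true) :
    pc (c &&& f) % 2 = 0 := by
  have h1 : unmask c ∈ supports (golayCode : Set (GolayPt → ZMod 2)) := by
    rw [mem_supports_iff, mask_unmask (isCode_lt hc)]; exact hc
  have h2 : unmask f ∈ supports (golayCode : Set (GolayPt → ZMod 2)) := by
    rw [mem_supports_iff, mask_unmask (isCode_lt hf)]; exact hf
  have := Cfsg.Agent.Lib.Helper8.golay_inter_even h1 h2
  rw [← unmask_and, card_unmask] at this
  exact Nat.even_iff.1 this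

/-- words orthogonal to the octads through the two base points -/
theorem dual_M22 {m : ℕ} (hm : m < 2 ^ 24)
    (h : ∀ f ∈ famM22.map Prod.fst, pc (m &&& f) % 2 = 0) :
    isCode m = true ∨ isCode (m ^^^ 8388609) = true := by
  have hchk : allBelow (fun s => bor (Bool.not (allList (fun f =>
      Nat.beq (Nat.mod (pc (Nat.land (Nat.shiftLeft s 12) f)) 2) 0) (famM22.map Prod.fst)))
      (bor (Nat.beq s 0) (isCode (Nat.xor (Nat.shiftLeft s 12) 8388609)))) 4096 = true := by
    decide +kernel
  rw [allBelow_iff] at hchk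
  have hs := hchk _ (syn_lt hm)
  have hfcode : ∀ f ∈ famM22.map Prod.fst, isCode f = true := by decide +kernel
  have hxe := xor_enc_eq m
  have hc : isCode (enc m) = true := isCode_enc m
  have ht : syn m <<< 12 < 2 ^ 24 := by rw [← hxe]; exact Nat.xor_lt_two_pow hm (enc_lt m)
  have hm' : m = enc m ^^^ (syn m <<< 12) := by
    rw [← hxe, Nat.xor_comm m, ← Nat.xor_assoc, Nat.xor_self, Nat.zero_xor]
  have hall : allList (fun f => Nat.beq (Nat.mod (pc (Nat.land (Nat.shiftLeft (syn m) 12) f)) 2) 0)
      (famM22.map Prod.fst) = true := by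
    rw [allList_iff]
    intro f hf
    rw [Nat.beq_eq]
    show pc ((syn m <<< 12) &&& f) % 2 = 0
    have h1 := h f hf
    rw [hm', pc_and_xor_mod (enc_lt m) ht] at h1
    have h2 := pc_and_even hc (hfcode f hf)
    omega
  rw [hall] at hs
  simp only [bor_eq, Bool.not_true, Bool.false_or, Bool.or_eq_true, Nat.beq_eq] at hs
  rcases hs with hs | hs
  · left
    rw [hm', hs]
    simpa using hc
  · right
    rw [hm', Nat.xor_assoc]
    exact isCode_xor hc hs

end Cfsg.Agent.Lib.Helper7
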