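import Cfsg.Agent.Lib.Helper7.OutM24
import Cfsg.Prelude.Def_Spor_Mathieu

/-!
# The outer automorphism group of `M23` is trivial
-/

set_option autoImplicit false
set_option linter.style.haveILetI false

namespace Cfsg.Agent.Lib.Helper7

open Cfsg Cfsg.Agent.Lib.Helper27 MulAction
open scoped Pointwise

theorem card_stabilizer_subgroup {Ω : Type*} (H : Subgroup (Equiv.Perm Ω)) (x : Ω) :
    Nat.card (stabilizer H x) = Nat.card ↥(H ⊓ stabilizer (Equiv.Perm Ω) x) := by
  apply Nat.card_congr
  exact ⟨fun g => ⟨g.1.1, g.1.2, g.2⟩, fun g => ⟨⟨g.1, g.2.1⟩, g.2.2⟩, fun _ => rfl, fun _ => rfl⟩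

/-- the orbit of a point of a set on which `fixer L` is transitive -/
theorem orb_fixer_eq {L : List ℕ} {b A : ℕ}
    (htrans : ∀ q ∈ unmask A, ∃ g ∈ fixer L, g (pt b) = q) (hinv : IsInv L A) {x : GolayPt}
    (hx : x ∈ unmask A) : orb (fixer L) x = unmask A := by
  ext y
  rw [mem_orb]
  constructor
  · rintro ⟨g, hg, rfl⟩
    exact hinv.apply_mem hx hg
  · intro hy
    obtain ⟨g, hg, hgx⟩ := htrans x hx
    obtain ⟨k, hk, hky⟩ := htrans y hy
    refine ⟨k * g⁻¹, (fixer L).mul_mem hk ((fixer L).inv_mem hg), ?_⟩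
    rw [Equiv.Perm.mul_apply, ← hgx]
    simpa using hky

theorem M23_eq_fixer : Spor.M23 = fixer L1 := by
  ext g
  rw [Spor.M23, Subgroup.mem_inf, mem_fixer, mem_stabilizer_iff]
  constructor
  · rintro ⟨h1, h2⟩
    refine ⟨h1, fun m hm => ?_⟩
    simp only [L1, List.mem_singleton] at hm
    subst hm
    exact (smul_unmask_two_pow (by norm_num) g).2 h2
  · rintro ⟨h1, h2⟩
    exact ⟨h1, (smul_unmask_two_pow (i := 23) (by norm_num) g).1 (h2 _ (by simp [L1]))⟩

theorem card_stab_fixer_L1 {x : GolayPt} (hx : x ≠ none) :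
    Nat.card ↥(fixer L1 ⊓ stabilizer (Equiv.Perm GolayPt) x) = 443520 := by
  have hx' : x ∈ unmask 8388607 := by
    have : ∀ q : GolayPt, q ≠ none → q ∈ unmask 8388607 := by decide +kernel
    exact this x hx
  have h := card_orb (fixer L1) x
  rw [orb_fixer_eq trans1 inv1 hx', card_unmask, card_fixer_L1,
    show pc 8388607 = 23 by decide +kernel] at h
  omega

theorem claimA_M23 (K : Subgroup (Equiv.Perm GolayPt)) (hK : K ≤ fixer L1)
    (hc : Nat.card K = 443520) : ∃ q, q ≠ none ∧ ∀ g ∈ K, g q = q := by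
  haveI : Fact (Nat.Prime 11) := ⟨by norm_num⟩
  haveI : Fact (Nat.Prime 7) := ⟨by norm_num⟩
  have hKM : K ≤ M24 := hK.trans (fixer_le_M24 L1)
  have F1 : Fixes K {none} := by
    intro g hg x hx
    rw [Finset.mem_singleton] at hx
    subst hx
    exact fixer_fix (hK hg) (i := 23) (by norm_num) (by simp [L1])
  obtain ⟨z, hzK, hzo⟩ := exists_orderOf K 11 (by rw [hc]; norm_num)
  obtain ⟨y, hyK, hyo⟩ := exists_orderOf K 7 (by rw [hc]; norm_num)
  have hzf := card_fixedPts_11 (hKM hzK) hzo
  have hyf := card_fixedPts_7 (hKM hyK) hyo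
  have : ∃ q ∈ fixedPts z, q ∉ ({none} : Finset GolayPt) := by
    by_contra hcon
    push Not at hcon
    have := Finset.card_le_card (fun q hq => hcon q hq : fixedPts z ⊆ {none})
    rw [hzf, Finset.card_singleton] at this
    omega
  obtain ⟨q, hqz, hq⟩ := this
  obtain ⟨r, hr1, hr2, hr3⟩ := orb_mod F1 hq hzK 11 hzo
  obtain ⟨r', hr1', hr2', -⟩ := orb_mod F1 hq hyK 7 hyo
  have hr := hr3 (mem_fixedPts.1 hqz)
  have hle := orb_card_add_le F1 hq
  have hco := card_orb K q
  rw [hzf, Finset.card_singleton] at hr2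
  rw [hyf, Finset.card_singleton] at hr2'
  rw [Finset.card_singleton] at hle
  rw [hc] at hco
  have h1 : (orb K q).card = 1 := by
    have hr1 : r = 1 := by omega
    subst hr1
    have hcases : (orb K q).card = 1 ∨ (orb K q).card = 12 ∨ (orb K q).card = 23 := by omega
    rcases hcases with h | h | h
    · exact h
    · rw [h] at hr1'
      omega
    · rw [h] at hco
      omega
  exact ⟨q, by simpa using hq, fixes_of_orb_card_eq_one h1⟩

theorem autHyp_M23 : AutHyp (fixer L1) {x | x ≠ none} := by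
  haveI : Fact (Nat.Prime 11) := ⟨by norm_num⟩
  apply autHyp_of_claimA
  · intro x hx K hK hc
    rw [card_stabilizer_subgroup, card_stab_fixer_L1 hx] at hc
    obtain ⟨q, hq, hfix⟩ := claimA_M23 K hK hc
    exact ⟨q, hq, hfix, by rw [card_stabilizer_subgroup, card_stab_fixer_L1 hq, hc]⟩
  · intro x hx
    obtain ⟨g, hgx, hgo⟩ := exists_orderOf_stab (fixer L1) x 11
      (by rw [card_stabilizer_subgroup, card_stab_fixer_L1 hx]; norm_num)
    refine ⟨g, hgx, fun y hy hgy => ?_⟩
    have h1 := card_fixedPts_11 g.2.1 hgo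
    by_contra hne
    have hsub : ({none, x, y} : Finset GolayPt) ⊆ fixedPts (g : Equiv.Perm GolayPt) := by
      intro p hp
      simp only [Finset.mem_insert, Finset.mem_singleton] at hp
      rcases hp with rfl | rfl | rfl
      · exact mem_fixedPts.2 (fixer_fix g.2 (i := 23) (by norm_num) (by simp [L1]))
      · exact mem_fixedPts.2 hgx
      · exact mem_fixedPts.2 hgy
    have h3 : ({none, x, y} : Finset GolayPt).card = 3 := by
      rw [Finset.card_insert_of_notMem, Finset.card_insert_of_notMem, Finset.card_singleton]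
      · simpa using Ne.symm hne
      · simp only [Finset.mem_insert, Finset.mem_singleton, not_or]
        exact ⟨Ne.symm hx, Ne.symm hy⟩
    have := Finset.card_le_card hsub
    omega
  · intro x hx g hg
    have : x = none := by simpa using hx
    subst this
    exact fixer_fix hg (i := 23) (by norm_num) (by simp [L1])

theorem card_out_M23 : Nat.card (Cfsg.Out Spor.M23) = 1 := by
  rw [M23_eq_fixer]
  apply autHyp_M23.card_out_eq_one
  intro σ hσS hσ
  refine mem_fixer_of_pts (mem_M24_of_normalizes_M23 hσ) [23] ?_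
  intro b hb
  simp only [List.mem_singleton] at hb
  subst hb
  exact ⟨by norm_num, hσS _ (by simp [pt])⟩

end Cfsg.Agent.Lib.Helper7
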