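import Cfsg.Agent.Lib.Helper7.AutPerm
import Cfsg.Agent.Lib.Helper7.M24ClaimA
import Cfsg.Agent.Lib.Helper7.M24Norm
import Cfsg.Agent.Lib.Helper27.StabOrders

/-!
# The outer automorphism group of `M24` is trivial
-/

set_option autoImplicit false
set_option linter.style.haveILetI false

namespace Cfsg.Agent.Lib.Helper7

open Cfsg Cfsg.Agent.Lib.Helper27 MulAction
open scoped Pointwise

/-- building `AutHyp` from the recognition of point stabilisers by their order -/
theorem autHyp_of_claimA {Ω : Type*} [Finite Ω] (G : Subgroup (Equiv.Perm Ω)) (S : Set Ω)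
    (hA : ∀ x ∈ S, ∀ K : Subgroup (Equiv.Perm Ω), K ≤ G → Nat.card K = Nat.card (stabilizer G x) →
      ∃ q ∈ S, (∀ g ∈ K, g q = q) ∧ Nat.card (stabilizer G q) = Nat.card K)
    (hB : ∀ x ∈ S, ∃ g : G, g • x = x ∧ ∀ y ∈ S, g • y = y → y = x)
    (H3 : ∀ x, x ∉ S → ∀ g ∈ G, g x = x) : AutHyp G S where
  H1 := by
    intro φ x hx
    set K' := (stabilizer G x).map φ.toMonoidHom with hK'
    have c1 : Nat.card K' = Nat.card (stabilizer G x) :=
      Subgroup.card_map_of_injective φ.injective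
    have c2 : Nat.card (K'.map G.subtype) = Nat.card K' :=
      Subgroup.card_map_of_injective G.subtype_injective
    obtain ⟨q, hq, hfix, hcard⟩ := hA x hx (K'.map G.subtype)
      (by rintro _ ⟨k, _, rfl⟩; exact k.2) (c2.trans c1)
    refine ⟨q, hq, ?_⟩
    apply Subgroup.eq_of_le_of_card_ge
    · intro k hk
      exact hfix k ⟨k, hk, rfl⟩
    · rw [hcard, c2]
  H2 := by
    intro x hx y hy hxy
    obtain ⟨g, hgx, hg⟩ := hB x hx
    have : g ∈ stabilizer G y := by rw [← hxy]; exact hgx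
    exact (hg y hy this).symm
  H3 := H3

theorem exists_orderOf_stab {Ω : Type*} [Finite Ω] (G : Subgroup (Equiv.Perm Ω)) (x : Ω) (p : ℕ)
    [Fact p.Prime] (h : p ∣ Nat.card (stabilizer G x)) :
    ∃ g : G, g • x = x ∧ orderOf (g : Equiv.Perm Ω) = p := by
  obtain ⟨k, hk⟩ := exists_prime_orderOf_dvd_card' (G := stabilizer G x) p h
  refine ⟨k, k.2, ?_⟩
  rw [Subgroup.orderOf_coe, Subgroup.orderOf_coe]; exact hk

theorem autHyp_M24 : AutHyp M24 Set.univ := by
  haveI : Fact (Nat.Prime 23) := ⟨by norm_num⟩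
  apply autHyp_of_claimA
  · intro x _ K hK hc
    rw [card_stab_pt] at hc
    obtain ⟨q, hq⟩ := claimA_M24 K hK hc
    exact ⟨q, Set.mem_univ _, hq, by rw [card_stab_pt, hc]⟩
  · intro x _
    obtain ⟨g, hgx, hgo⟩ := exists_orderOf_stab M24 x 23 (by rw [card_stab_pt]; norm_num)
    refine ⟨g, hgx, fun y _ hy => ?_⟩
    have h1 := card_fixedPts_23 g.2 hgo
    obtain ⟨a, ha⟩ := Finset.card_eq_one.1 h1
    have hx' : x ∈ fixedPts (g : Equiv.Perm GolayPt) := mem_fixedPts.2 hgx
    have hy' : y ∈ fixedPts (g : Equiv.Perm GolayPt) := mem_fixedPts.2 hy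
    rw [ha, Finset.mem_singleton] at hx' hy'
    rw [hx', hy']
  · intro x hx
    exact absurd (Set.mem_univ x) hx

theorem card_out_M24 : Nat.card (Cfsg.Out M24) = 1 := by
  apply autHyp_M24.card_out_eq_one
  intro σ _ hσ
  apply mem_M24_of_normalizes_M24
  rw [fixer_nil]
  exact hσ

end Cfsg.Agent.Lib.Helper7
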