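import Cfsg.Agent.Lib.Helper7.Stem1

/-!
# Bounding Schur multipliers: cyclic and abelian Sylow subgroups
-/

set_option autoImplicit false
set_option linter.style.haveILetI false

namespace Cfsg.Agent.Lib.Helper7

open Subgroup
open scoped commutatorElement

universe u v

theorem commute_of_mem_closure {Γ : Type u} [Group Γ] {S : Set Γ}
    (hS : ∀ x ∈ S, ∀ y ∈ S, x * y = y * x) {x y : Γ} (hx : x ∈ closure S) (hy : y ∈ closure S) :
    x * y = y * x := by
  haveI := isMulCommutative_closure hS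
  exact congrArg Subtype.val (mul_comm' (⟨x, hx⟩ : closure S) ⟨y, hy⟩)

/-- lifts of elements of a subgroup generated by the images of pairwise commuting elements commute -/
theorem commutator_eq_one_of_comm_lifts {Γ : Type u} {G : Type v} [Group Γ] [Group G] (σ : Γ →* G)
    (hc : σ.ker ≤ center Γ) {S : Set Γ} (hS : ∀ x ∈ S, ∀ y ∈ S, x * y = y * x) {x y : Γ}
    (hx : σ x ∈ closure (σ '' S)) (hy : σ y ∈ closure (σ '' S)) : ⁅x, y⁆ = 1 := by
  rw [← MonoidHom.map_closure] at hx hy
  obtain ⟨x', hx', hxx⟩ := hx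
  obtain ⟨y', hy', hyy⟩ := hy
  rw [Cfsg.Agent.Lib.Helper66.commutatorElement_eq_of_central σ hc hxx.symm hyy.symm,
    commutatorElement_eq_one_iff_mul_comm]
  exact commute_of_mem_closure hS hx' hy'

theorem ker_eq_bot_of_comm_lifts {Γ : Type u} {G : Type v} [Group Γ] [Group G] [Finite Γ]
    {σ : Γ →* G} (hσ : Cfsg.IsStemExtension σ) {p : ℕ} (hexp : ∀ x ∈ σ.ker, x ^ p = 1)
    {S : Set Γ} (hS : ∀ x ∈ S, ∀ y ∈ S, x * y = y * x)
    (hi : Nat.Coprime p (closure (σ '' S)).index) : σ.ker = ⊥ := by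
  apply ker_eq_bot_of_index_coprime hσ hexp ((closure (σ '' S)).comap σ) ⊥
  · intro x hx y hy
    rw [mem_bot]
    exact commutator_eq_one_of_comm_lifts σ hσ.2.1 hS hx hy
  · intro x hx _
    exact hx
  · rwa [index_comap_of_surjective _ hσ.1]

/-- a prime whose square does not divide the group order does not divide the multiplier -/
theorem ker_eq_bot_of_not_sq_dvd {Γ : Type u} {G : Type v} [Group Γ] [Group G] [Finite Γ]
    {σ : Γ →* G} (hσ : Cfsg.IsStemExtension σ) {p : ℕ} (hp : p.Prime)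
    (hexp : ∀ x ∈ σ.ker, x ^ p = 1) (h2 : ¬ p ^ 2 ∣ Nat.card G) : σ.ker = ⊥ := by
  haveI : Fact p.Prime := ⟨hp⟩
  haveI : Finite G := Finite.of_surjective σ hσ.1
  obtain ⟨P⟩ : Nonempty (Sylow p G) := inferInstance
  obtain ⟨n, hn⟩ := IsPGroup.iff_card.1 P.2
  have hn1 : n ≤ 1 := by
    by_contra hcon
    apply h2
    have h3 : p ^ 2 ∣ p ^ n := pow_dvd_pow p (by omega)
    rw [← hn] at h3
    exact h3.trans (Subgroup.card_subgroup_dvd_card _)
  have hcyc : IsCyclic (P : Subgroup G) := by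
    interval_cases n
    · rw [pow_zero] at hn
      haveI : Subsingleton (P : Subgroup G) := (Nat.card_eq_one_iff_unique.1 hn).1
      infer_instance
    · rw [pow_one] at hn
      exact isCyclic_of_prime_card hn
  obtain ⟨⟨g, hgP⟩, hg⟩ := hcyc.exists_generator
  obtain ⟨A, rfl⟩ := hσ.1 g
  have hP : (P : Subgroup G) = closure (σ '' {A}) := by
    rw [Set.image_singleton, ← zpowers_eq_closure]
    apply le_antisymm
    · intro x hx
      obtain ⟨k, hk⟩ := hg ⟨x, hx⟩
      exact ⟨k, congrArg Subtype.val hk⟩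
    · rw [zpowers_le]; exact hgP
  apply ker_eq_bot_of_comm_lifts hσ hexp (S := {A})
  · intro x hx y hy
    rw [Set.mem_singleton_iff] at hx hy
    rw [hx, hy]
  · rw [← hP]
    exact (Nat.Prime.coprime_iff_not_dvd hp).2 P.not_dvd_index

/-- two commuting elements of order 3 generate a group of order divisible by 9 -/
theorem nine_dvd_card_closure {G : Type v} [Group G] [Finite G] {a b : G} (hab : a * b = b * a)
    (ha : orderOf a = 3) (hb : b ^ 3 = 1) (hba : b ∉ zpowers a) :
    9 ∣ Nat.card (closure ({a, b} : Set G)) := by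
  haveI : Fact (Nat.Prime 3) := ⟨by norm_num⟩
  have hS : ∀ x ∈ ({a, b} : Set G), ∀ y ∈ ({a, b} : Set G), x * y = y * x := by
    intro x hx y hy
    rcases hx with rfl | rfl <;> rcases hy with rfl | rfl
    · rfl
    · exact hab
    · exact hab.symm
    · rfl
  have hexp : ∀ x ∈ closure ({a, b} : Set G), x ^ 3 = 1 := by
    intro x hx
    induction hx using closure_induction with
    | mem x hx =>
      rcases hx with rfl | rfl
      · rw [← ha]; exact pow_orderOf_eq_one _
      · exact hb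
    | one => exact one_pow 3
    | mul x y hx hy ihx ihy =>
      have : Commute x y := commute_of_mem_closure hS hx hy
      rw [this.mul_pow, ihx, ihy, one_mul]
    | inv x hx ih => rw [inv_pow, ih, inv_one]
  have hpg : IsPGroup 3 (closure ({a, b} : Set G)) := by
    intro x
    exact ⟨1, Subtype.ext (by simpa using hexp x x.2)⟩
  obtain ⟨n, hn⟩ := IsPGroup.iff_card.1 hpg
  rw [hn]
  have h2 : 2 ≤ n := by
    by_contra hcon
    apply hba
    have hle : zpowers a ≤ closure ({a, b} : Set G) := by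
      rw [zpowers_le]; exact subset_closure (by simp)
    have : zpowers a = closure ({a, b} : Set G) := by
      apply Subgroup.eq_of_le_of_card_ge hle
      rw [hn, Nat.card_zpowers, ha]
      calc 3 ^ n ≤ 3 ^ 1 := Nat.pow_le_pow_right (by norm_num) (by omega)
        _ = 3 := by norm_num
    rw [this]
    exact subset_closure (by simp)
  exact pow_dvd_pow 3 h2

/-- Sylow 3-subgroup `3^2` with an element acting as a reflection -/
theorem ker_eq_bot_of_reflection {Γ : Type u} {G : Type v} [Group Γ] [Group G] [Finite Γ]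
    {σ : Γ →* G} (hσ : Cfsg.IsStemExtension σ) (hexp : ∀ x ∈ σ.ker, x ^ 3 = 1)
    {a b g : G} (hab : a * b = b * a) (ha : orderOf a = 3) (hb : b ^ 3 = 1) (hb1 : b ≠ 1)
    (hga : g * a * g⁻¹ = a) (hgb : g * b * g⁻¹ = b⁻¹) (hG : ¬ 27 ∣ Nat.card G) : σ.ker = ⊥ := by
  haveI : Finite G := Finite.of_surjective σ hσ.1
  have hba : b ∉ zpowers a := by
    rintro ⟨k, rfl⟩
    apply hb1
    change g * a ^ k * g⁻¹ = (a ^ k)⁻¹ at hgb
    change (a ^ k) ^ 3 = 1 at hb
    show a ^ k = 1
    rw [← conj_zpow, hga] at hgb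
    have h2 : a ^ k * a ^ k = 1 := by
      nth_rewrite 1 [hgb]; exact inv_mul_cancel _
    rw [pow_succ, pow_two, h2, one_mul] at hb
    exact hb
  obtain ⟨A, rfl⟩ := hσ.1 a
  obtain ⟨B, rfl⟩ := hσ.1 b
  obtain ⟨K, rfl⟩ := hσ.1 g
  have hc : σ.ker ≤ center Γ := hσ.2.1
  have hcm : ⁅A, B⁆ ∈ σ.ker := by
    rw [MonoidHom.mem_ker, map_commutatorElement, commutatorElement_eq_one_iff_mul_comm]
    exact hab
  have hcc := hc hcm
  have h1 : ⁅K * A * K⁻¹, K * B * K⁻¹⁆ = ⁅A, B⁻¹⁆ :=
    Cfsg.Agent.Lib.Helper66.commutatorElement_eq_of_central σ hc (by simpa using hga)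
      (by simpa using hgb)
  have h2 : ⁅K * A * K⁻¹, K * B * K⁻¹⁆ = ⁅A, B⁆ := by
    have : ⁅K * A * K⁻¹, K * B * K⁻¹⁆ = K * ⁅A, B⁆ * K⁻¹ := by
      simp only [commutatorElement_def]; group
    rw [this, mem_center_iff.1 hcc K, mul_inv_cancel_right]
  have h3 : ⁅A, B⁻¹⁆ = ⁅A, B⁆⁻¹ := by
    have : ⁅A, B⁻¹⁆ = B⁻¹ * ⁅A, B⁆⁻¹ * B := by
      simp only [commutatorElement_def]; group
    rw [this, mem_center_iff.1 (inv_mem hcc) B⁻¹, inv_mul_cancel_right]
  have h4 : ⁅A, B⁆ * ⁅A, B⁆ = 1 := by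
    nth_rewrite 1 [← h2]
    rw [h1, h3, inv_mul_cancel]
  have h5 : ⁅A, B⁆ = 1 := by
    have := hexp _ hcm
    rw [pow_succ, pow_two, h4, one_mul] at this
    exact this
  have hAB : A * B = B * A := commutatorElement_eq_one_iff_mul_comm.1 h5
  apply ker_eq_bot_of_comm_lifts hσ hexp (S := {A, B})
  · intro x hx y hy
    rcases hx with rfl | rfl <;> rcases hy with rfl | rfl
    · rfl
    · exact hAB
    · exact hAB.symm
    · rfl
  · rw [Set.image_pair]
    have h9 := nine_dvd_card_closure hab ha hb hba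
    have hmul := (closure ({σ A, σ B} : Set G)).card_mul_index
    rw [Nat.Prime.coprime_iff_not_dvd (by norm_num)]
    intro h3
    apply hG
    rw [← hmul]
    exact Nat.mul_dvd_mul h9 h3

end Cfsg.Agent.Lib.Helper7
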